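import Cfsg.Agent.Lib.R1.Main
import Cfsg.Agent.Lib.Signalizer.SFT.Four

/-!
Groups without solvable normal subgroups in which every four-group lies in a unique Sylow 2-subgroup.
-/

set_option autoImplicit false
set_option linter.unusedSectionVars false
set_option linter.unusedVariables false

namespace Cfsg.Lib.R1
open Subgroup Cfsg.Lib Cfsg.Lib.FT

variable {G : Type*} [Group G] [Finite G]

/-- four-groups lie in a unique Sylow 2-subgroup -/
def R1a (G : Type*) [Group G] : Prop :=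
  ∀ S T, Syl S → Syl T → ∀ a b : G, GW.Four a b → a ∈ S ⊓ T → b ∈ S ⊓ T → S = T

theorem R1a.r1c (h : R1a G) : R1c G := fun S T hS hT z v ⟨_, _, hz⟩ z1 h1 h2 v2 v1 vz hc =>
  h S T hS hT z v ⟨ci_orderOf z1 hz.2, ci_orderOf v1 v2, vz, hc⟩ h1 h2

theorem four_coe {H : Subgroup G} {a b : H} : GW.Four (a : G) b ↔ GW.Four a b :=
  ⟨fun f => ⟨orderOf_coe a ▸ f.ht, orderOf_coe b ▸ f.hv, fun e => f.ne (congrArg Subtype.val e), Subtype.ext f.comm⟩,
    fun f => ⟨(orderOf_coe a).trans f.ht, (orderOf_coe b).trans f.hv, fun e => f.ne (Subtype.ext e),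
      congrArg Subtype.val f.comm⟩⟩

theorem R1a.sub (h : R1a G) (H : Subgroup G) : R1a H := fun P Q hP hQ a b f h1 h2 => by
  obtain ⟨T, hT, rfl⟩ := Syl.exists_sub hP
  obtain ⟨U, hU, rfl⟩ := Syl.exists_sub hQ
  rw [h T U hT hU a b (four_coe.2 f) h1 h2]

theorem elemAb_four {a b : G} (f : GW.Four a b) : IsElementaryAbelian 2 (GW.four a b) :=
  ⟨f.isMulCommutative, fun x hx => by rw [sq, f.mul_self hx]⟩

theorem Syl.solv_N {S : Subgroup G} (hS : Syl S) : Group.IsSolvable N[S] := by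
  obtain ⟨A, hA, ho⟩ := exists_isComplIn_normalizer hS
  rw [top_inf_eq] at hA
  rw [← hA.sup_eq]
  exact isSolvable_sup_of_le_normalizer hA.1 (isSolvable_of_not_two_dvd ho) (isSolvable_of_isPGroup hS.isPGroup)

theorem R1a.norm (h : R1a G) {S : Subgroup G} (hS : Syl S) {a b g : G} (f : GW.Four a b) (ha : a ∈ S) (hb : b ∈ S)
    (h1 : g * a * g⁻¹ ∈ S) (h2 : g * b * g⁻¹ ∈ S) : g ∈ N[S] :=
  conj_eq_iff_mem_normalizer.1 (h _ _ (hS.conj g) hS _ _ (f.conj g) ⟨conj_mem_conj ha g, h1⟩ ⟨conj_mem_conj hb g, h2⟩)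

theorem R1a.solv_C (h : R1a G) {X : Subgroup G} {a b : G} (f : GW.Four a b) (ha : a ∈ X) (hb : b ∈ X) :
    Group.IsSolvable C[X] := by
  obtain ⟨S, hS, h1⟩ := exists_isSylowIn_ge f.isPGroup le_top
  obtain ⟨h2, h3⟩ := GW.four_le_iff.1 h1
  exact isSolvable_of_le (fun g hg => h.norm hS f h2 h3
    (by rwa [← mem_centralizer_iff.1 hg a ha, mul_inv_cancel_right])
    (by rwa [← mem_centralizer_iff.1 hg b hb, mul_inv_cancel_right])) (Syl.solv_N hS)

theorem exists_four_of_rank (h : ¬ PRankLE 2 1 G) : ∃ a b : G, GW.Four a b := by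
  obtain ⟨u, -, v, -, hu, hv, h1, h2⟩ := Bender.rank2_top h
  exact ⟨u, v, ci_orderOf hu.1 hu.2, ci_orderOf hv.1 hv.2, h1.symm, h2.symm⟩

theorem exists_four_of_simple {L : Subgroup G} [IsSimpleGroup L] (h : ¬ IsMulCommutative L) :
    ∃ a ∈ L, ∃ b ∈ L, GW.Four a b := by
  obtain ⟨a, b, f⟩ := exists_four_of_rank (Suz.not_pRankLE_of_simple h
    (even_iff_two_dvd.2 (Big.two_dvd_card_of_simple h)))
  exact ⟨a, a.2, b, b.2, four_coe.2 f⟩

theorem uniq_of_se (hO : oddCore G = ⊥) (h2 : ¬ PRankLE 2 1 G) {M : Subgroup G} (hM : IsStronglyEmbedded M) {v : G}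
    (hv : orderOf v = 2) : UniqSyl v := by
  obtain ⟨S, rfl, -⟩ := Big.bender_local hO h2 hM
  intro P Q hP hQ h3 h4
  obtain ⟨g, rfl⟩ := Syl.exists_conj' (IsSylowIn.of_sylow_top S) hP
  obtain ⟨k, rfl⟩ := Syl.exists_conj' (IsSylowIn.of_sylow_top S) hQ
  rw [eq_comm, conj_eq_iff, conj_conj, eq_comm, conj_eq_iff_mem_normalizer]
  by_contra h5
  refine Nat.not_even_iff_odd.2 (hM.2.2 _ h5) (even_iff_two_dvd.2 ((ci_orderOf_conj hv k⁻¹).symm.dvd.trans
    (orderOf_dvd_natCard _ ⟨le_normalizer (by simpa using mem_map_conj.1 h4), ?_⟩)))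
  rw [← conj_conj]
  exact conj_mem_conj (map_mono le_normalizer h3) _

theorem se_two [IsSimpleGroup G] (hG : ¬ IsMulCommutative G) (S : Sylow 2 G)
    (hZ : ¬ IsCyclic (center (S : Subgroup G))) (h2 : PRankLE 2 2 G) :
    Nat.card (S : Subgroup G) = 4 ∨ ∃ M : Subgroup G, IsStronglyEmbedded M := by
  obtain ⟨z, w, h⟩ := R2.exists_cen4 S.isPGroup' hZ (pRankLE_subgroup h2 _)
  by_cases hS : ∀ x y : (S : Subgroup G), x * y = y * x
  · exact Or.inl (R2.homocyclic hG S ⟨⟨hS⟩⟩ h2)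
  push Not at hS
  obtain ⟨r, hr, ⟨k, hk⟩, hrz⟩ := h.exists_mover hG S
  replace h := h.isU S.isPGroup' (R2.nAut_pow hr hk) hrz hS
  have hro : Odd (orderOf r) := (Odd.pow (by norm_num)).of_dvd_nat (orderOf_dvd_of_pow_eq_one hk)
  have := mt (h.case3 hG hr hro hrz) id
  push Not at this
  obtain ⟨y, hy, hyo, hyz, x, hx, hyx⟩ := this
  have hL : R2.Lyo S z w r ⟨y, mem_centralizer_singleton_iff.2 hyz⟩ := ⟨h, hr, hro, hrz, hy, hyo, fun e => hyx (by
    have := congrArg Subtype.val (DFunLike.congr_fun e ⟨x, hx⟩)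
    rwa [R2.nAut_coe, mul_inv_eq_iff_eq_mul] at this)⟩
  exact Or.inr ⟨_, hL.stronglyEmbedded hG⟩

theorem L85.of_bender (h : Big.IsBender G) : L85 G := Or.inl h

namespace R1a

variable (h : R1a G) (hs : solvRad G = ⊥)
include h hs

theorem amb : Amb G :=
  ⟨h.r1c, eq_bot_iff.2 (hs ▸ le_solvRad inferInstance (isSolvable_of_not_two_dvd not_dvd_card_pPrimeCore)),
    fun t ht _ => mem_bot.1 (hs ▸ (center_le_fitting.trans fitting_le_solvRad) (mem_center_iff.2 ht))⟩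

theorem exists_simple [Nontrivial G] :
    ∃ L : Subgroup G, L.Normal ∧ IsSimpleGroup L ∧ ¬ IsMulCommutative L ∧ C[L] = ⊥ := by
  have hF := fitting_eq_bot_iff_solvRad.2 hs
  obtain ⟨L, hL, -⟩ := exists_isComponent_le_of_inf_fitting_eq_bot (H := (⊤ : Subgroup G))
    (Normal.isSubnormal inferInstance) top_ne_bot (by rw [hF, inf_bot_eq])
  have h1 : IsSimpleGroup L := hL.isQuasisimple.isSimpleGroup_of_center_eq_bot (by
    rw [center_eq_subgroupOf_centralizer, ← inf_subgroupOf_left, eq_bot_iff.2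
      ((inf_centralizer_le_fitting_of_isSubnormal hL.isSubnormal).trans hF.le), bot_subgroupOf])
  obtain ⟨a, ha, b, hb, f⟩ := exists_four_of_simple hL.isQuasisimple.not_isMulCommutative
  have h2 := h.solv_C f ha hb
  have hn : L.Normal := normalizer_eq_top_iff.1 (eq_top_iff.2 fun g _ => conj_eq_iff_mem_normalizer.1 (by
    refine ((hL.map_conj g).eq_or_commutator_eq_bot hL).resolve_right fun h => ?_
    exact (hL.map_conj g).isQuasisimple.not_isSolvable (isSolvable_of_le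
      (commutator_eq_bot_iff_le_centralizer.1 h) h2)))
  exact ⟨L, hn, h1, hL.isQuasisimple.not_isMulCommutative, eq_bot_iff.2 (hs ▸ le_solvRad inferInstance h2)⟩

theorem ti_or [Nontrivial G] {S : Subgroup G} (hS : Syl S) : (∃ D : Set G, ZH D) ∨
    ∃ L : Subgroup G, L.Normal ∧ IsSimpleGroup L ∧ ¬ IsMulCommutative L ∧ S ≤ L ∧ ∀ y ∈ S, y * y = 1 := by
  have a := h.amb hs
  obtain ⟨L, hn, hL, hc, hC⟩ := h.exists_simple hs
  have hQ : Syl (S.subgroupOf L) := syl_sub_iff.2 (hS.inf_of_le_normalizer le_top le_normalizer_of_normal)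
  have hQ1 : S ⊓ L ≠ ⊥ := fun e => (Big.normalizer_sylow_ne_top hc hQ).1 (by
    rw [← inf_subgroupOf_right, e, bot_subgroupOf])
  by_cases hu : ∀ z ∈ oz S, z ≠ 1 → UniqSyl z
  · exact Or.inl (a.zh hS (fun e => hQ1 (by rw [e, bot_inf_eq])) hu)
  push Not at hu
  obtain ⟨t, ht, t1, hu⟩ := hu
  refine Or.inr ⟨L, hn, hL, hc, ?_⟩
  obtain ⟨z, hz, z2, hzc⟩ := pg_exists_fixed_of_order_p (hS.isPGroup.to_le inf_le_left) hS.isPGroup
    (le_normalizer_inf le_normalizer le_normalizer_of_normal) hQ1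
  have z1 := ne_one_of_orderOf_two z2
  by_cases h3 : PRankLE 2 2 G
  swap
  · obtain ⟨h1, h2, -⟩ := a.main3 hS h3 ht t1 hu
    refine ⟨fun v hv => by_contra fun e => ?_, h1⟩
    obtain ⟨m, -, rfl⟩ := h2 v hv fun e1 => e (e1 ▸ one_mem _)
    obtain ⟨n, -, rfl⟩ := h2 z hz.1 z1
    exact e (hn.conj_mem _ (by simpa [mul_assoc] using hn.conj_mem' _ hz.2 n) m)
  have zz : z ∈ oz S := ⟨⟨hz.1, mem_centralizer_iff.2 hzc⟩, ci_mul_self z2⟩
  obtain ⟨m, hm, e⟩ := a.move hS zz z1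
  have hw := (mem_normalizer_iff.1 (N_le_oz S hm) z).1 zz
  have wL := hn.conj_mem z hz.2 m
  have f : GW.Four z (m * z * m⁻¹) := ⟨z2, ci_orderOf_conj z2 m, e, oz_comm zz hw.1.1⟩
  generalize m * z * m⁻¹ = w at hw wL f
  have hV : GW.four z w ≤ oz S ⊓ L := GW.four_le_iff.2 ⟨⟨zz, hz.2⟩, hw, wL⟩
  have tL : t ∈ L := (hV (mem_of_pRankLE_two (pRankLE_top_iff.2 h3) (elemAb_four f) f.card.ge le_top (mem_top t)
    (by rw [sq, ht.2]) (mem_centralizer_iff.2 fun y hy => oz_comm ht (hV hy).1.1.1))).2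
  obtain ⟨Q, e1⟩ := hQ.exists_sylow_top
  have key : ∀ x, ∀ hx : x ∈ oz S ⊓ L, ∃ y ∈ center (Q : Subgroup L), (y : G) = x := fun x hx =>
    ⟨⟨⟨x, hx.2⟩, e1.ge hx.1.1.1⟩, mem_center_iff.2 fun y => Subtype.ext (Subtype.ext (oz_comm hx.1 (e1.le y.2))), rfl⟩
  rcases se_two hc Q (fun e2 => by
    obtain ⟨x, hx, rfl⟩ := key z ⟨zz, hz.2⟩
    obtain ⟨y, hy, rfl⟩ := key w ⟨hw, wL⟩
    exact f.ne (by rw [ci_invol_eq e2 hx hy (by simpa using f.ht) (by simpa using f.hv)]))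
    (pRankLE_subgroup h3 L) with h4 | ⟨M, hM⟩
  · have h5 : GW.four z w = S ⊓ L := eq_of_le_of_card_ge (hV.trans (inf_le_inf_right _ fun x hx => hx.1.1))
      (by rw [f.card, ← h4, e1, ← inf_subgroupOf_right, card_subgroupOf_of_le inf_le_right])
    have h6 : S ≤ L := fun s hs => by
      obtain ⟨k, hk⟩ := hS.isPGroup ⟨s, hs⟩
      have h7 : ∀ x ∈ (Q : Subgroup L), (x : G) ∈ oz S := fun x hx => (hV (h5.ge ⟨e1.le hx, x.2⟩)).1
      obtain ⟨g, hg⟩ := pg_inner_of_fixes_abelian_sylow hc (Big.two_dvd_card_of_simple hc) Q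
        (isMulCommutative_of_forall fun x hx y hy => Subtype.ext (oz_comm (h7 y hy) (h7 x hx).1.1))
        (MulAut.conjNormal s) (k := k) (by rw [← map_pow, show s ^ 2 ^ k = 1 from congrArg Subtype.val hk, map_one])
        fun x hx => Subtype.ext (mul_inv_eq_iff_eq_mul.2 (oz_comm (h7 x hx) hs))
      have h8 : (g : G)⁻¹ * s ∈ C[L] := mem_centralizer_iff.2 fun y hy => by
        have : s * y * s⁻¹ = g * y * (g : G)⁻¹ := congrArg Subtype.val (hg ⟨y, hy⟩)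
        calc _ = (g : G)⁻¹ * (g * y * (g : G)⁻¹) * s := by group
          _ = _ := by rw [← this]; group
      rw [hC, mem_bot, inv_mul_eq_one] at h8
      exact h8 ▸ g.2
    exact ⟨h6, fun y hy => f.mul_self (h5.ge ⟨hy, h6 hy⟩)⟩
  · have he := even_iff_two_dvd.2 (Big.two_dvd_card_of_simple hc)
    have h4 := uniq_of_se (Suz.oddCore_eq_bot_of_simple he) (Suz.not_pRankLE_of_simple hc he) hM (v := ⟨t, tL⟩)
      (by rw [← orderOf_coe]; exact ci_orderOf t1 ht.2)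
    refine (hu fun P P' hP hP' h5 h6 => ?_).elim
    have h7 := h4 _ _ (syl_sub_iff.2 (hP.inf_of_le_normalizer le_top le_normalizer_of_normal))
      (syl_sub_iff.2 (hP'.inf_of_le_normalizer le_top le_normalizer_of_normal)) h5 h6
    obtain ⟨g, rfl⟩ := hS.exists_conj' hP
    have h8 : ∀ x ∈ S ⊓ L, g * x * g⁻¹ ∈ g •ᶜ S ⊓ P' := fun x hx =>
      ⟨conj_mem_conj hx.1 g, h7.le (show (⟨_, hn.conj_mem x hx.2 g⟩ : L) ∈ _ from conj_mem_conj hx.1 g)⟩
    exact h _ _ hP hP' _ _ (f.conj g) (h8 z hz) (h8 w ⟨hw.1.1, wL⟩)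

theorem bender [Nontrivial G] {D : Set G} (z : ZH D) :
    ∃ L : Subgroup G, L.Normal ∧ IsSimpleGroup L ∧ ¬ IsMulCommutative L ∧ Odd L.index ∧ Big.IsBender L := by
  obtain ⟨S, hS⟩ := exists_isSylowIn 2 (⊤ : Subgroup G)
  obtain ⟨T, hT, hne⟩ := exists_ne_syl hS fun e =>
    top_ne_bot (eq_bot_iff.2 (hs ▸ le_solvRad inferInstance (e ▸ Syl.solv_N hS)))
  obtain ⟨L, h1, h2, h3, h4, h5, -⟩ := Big.bender_normal (h.amb hs).odd (not_pRankLE_of z) (z.se (zd2 z)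
    (eq_bot_iff.2 (hs ▸ le_solvRad inferInstance (isSolvable_of_le (fun x hx => hx S hS) (Syl.solv_N hS)))) hS hT hne)
  exact ⟨L, h1, h2, h3, h5, h4⟩

theorem odd_index [Nontrivial G] :
    ∃ L : Subgroup G, L.Normal ∧ IsSimpleGroup L ∧ ¬ IsMulCommutative L ∧ Odd L.index ∧ L85 L := by
  obtain ⟨S⟩ : Nonempty (Sylow 2 G) := inferInstance
  rcases h.ti_or hs (IsSylowIn.of_sylow_top S) with ⟨D, z⟩ | ⟨L, h1, h2, h3, h4, -⟩
  · obtain ⟨L, h1, h2, h3, h4, h5⟩ := h.bender hs z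
    exact ⟨L, h1, h2, h3, h4, Or.inl h5⟩
  · exact ⟨L, h1, h2, h3, (sylow_two_index_odd S).of_dvd_nat (index_dvd_of_le h4), (h.sub L).r1c.simple h3⟩

end R1a

end Cfsg.Lib.R1
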