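import Cfsg.Agent.Lib.R1.ZTrans

/-!
The structure of a group in which distinct Sylow 2-subgroups intersect in `O₂`.
-/

set_option autoImplicit false
set_option linter.unusedSectionVars false
set_option linter.unusedVariables false

namespace Cfsg.Lib.R1
open Subgroup Cfsg.Lib Cfsg.Lib.FT Cfsg.Lib.Suz

variable {G : Type*} [Group G] [Finite G]

theorem ro_sq_of_central {H Q : Subgroup G} {t : G} (h : RO H Q t) (h2 : Rank2 Q) {y : G} (hy : y ∈ Q)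
    (hc : ∀ x ∈ Q, x * y = y * x) : y * y = 1 := by
  obtain ⟨hp, he | ⟨hna, -⟩⟩ := h.concl h2
  · exact he y hy
  by_contra hy2
  have hZ : y ∉ zsub Q := fun e => hy2 ((h.mem_Z h2).1 e).2
  have hH := h.hig h2 le_rfl (h.Z_le h2) ((h.K_le h2).trans (h.D_le.trans h.H_le_N)) hp
  obtain ⟨hsq, h3 | ⟨-, h3⟩⟩ := hH.higman hna
  · obtain ⟨n, F, _, _, a, κ, hs⟩ := hH.exists_HS
    have h4 := hs.sub (X := Q ⊓ C[Q]) inf_le_left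
      (fun z hz => ⟨hs.Z_le hz, mem_centralizer_iff.2 fun x hx => (hs.cen z hz x hx).symm⟩)
      (fun u x hx => ⟨hs.norm u x hx.1, mem_centralizer_iff.2 fun w hw => by
        have := mem_centralizer_iff.1 hx.2 _ (by simpa using hs.norm u⁻¹ w hw : κ u * w * (κ u)⁻¹ ∈ Q)
        calc w * ((κ u)⁻¹ * x * κ u) = (κ u)⁻¹ * (κ u * w * (κ u)⁻¹ * x) * κ u := by group
          _ = _ := by rw [this]; group⟩)
    have h5 : Nat.card Q ≤ Nat.card ↥(Q ⊓ C[Q]) := by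
      rw [h3, hs.card_Z]
      rcases h4.card_of_sq (fun x hx => hsq x hx.1) ⟨y, ⟨hy, mem_centralizer_iff.2 hc⟩, hZ⟩ with e | ⟨e, -⟩
      · exact e.ge
      · rw [e]; exact Nat.pow_le_pow_right (Nat.two_pow_pos n) (by norm_num)
    obtain ⟨x, hx, w, hw, e⟩ := hna
    exact e (mem_centralizer_iff.1 ((eq_of_le_of_card_ge inf_le_left h5).ge hw).2 x hx)
  · obtain ⟨s, hs, hs2, hs1⟩ := h.exists_invol
    obtain ⟨w, hw, e⟩ := h3 y hy hZ s ((h.mem_Z h2).2 ⟨hs, hs2⟩)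
    refine hs1 ?_
    rw [← e, mul_assoc, mul_assoc, ← hc w hw]; group

theorem not_pRankLE_of {D : Set G} (h : ZH D) : ¬ PRankLE 2 1 G := by
  obtain ⟨S, hS⟩ := exists_isSylowIn 2 (⊤ : Subgroup G)
  exact not_pRankLE_iff.2 ⟨_, h.elemAb_zs hS, h.four_le hS⟩

theorem TIm.ti (hT : TIm G) (hk : kS G = ⊥) (P Q : Subgroup G) (hP : Syl P) (hQ : Syl Q) (hne : P ≠ Q) :
    P ⊓ Q = ⊥ :=
  eq_bot_iff.2 (hk ▸ fun x hx U hU => le_normalizer (hT P Q U hP hQ hU hne hx))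

theorem ZH.se {D : Set G} (h : ZH D) (hT : TIm G) (hk : kS G = ⊥) {S T : Subgroup G} (hS : Syl S)
    (hT' : Syl T) (hne : S ≠ T) : IsStronglyEmbedded N[S] := by
  obtain ⟨d, hd, dS, -⟩ := h.exists_ne hS 1
  refine Big.stronglyEmbedded_of_ti (hT.ti hk) hS (fun e => h.ne d hd (mem_bot.1 (e ▸ dS))) fun e => hne ?_
  obtain ⟨g, rfl⟩ := hS.exists_conj' hT'
  exact (conj_eq_iff_mem_normalizer.2 (e.ge (mem_top g))).symm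

theorem ZH.oddCore_eq {D : Set G} (h : ZH D) (hk : kS G = ⊥) : oddCore G = ⊥ :=
  eq_bot_iff.2 (hk ▸ h.odd_le_kS not_dvd_card_pPrimeCore)

theorem ZH.exists_RO {D : Set G} (h : ZH D) (hT : TIm G) (hk : kS G = ⊥) {S T : Subgroup G} (hS : Syl S)
    (hT' : Syl T) (hne : S ≠ T) : ∃ t, RO N[S] S t ∧ Rank2 S := by
  have hM := h.se hT hk hS hT' hne
  obtain ⟨S', h1, h2, -⟩ := Big.bender_local (h.oddCore_eq hk) (not_pRankLE_of h) hM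
  have e : (S' : Subgroup G) = S := ((IsSylowIn.of_sylow_top S').maximal S hS.isPGroup le_top
    (hS.le_of_le_normalizer S'.isPGroup' le_top (h1 ▸ le_normalizer))).symm
  obtain ⟨t, ht⟩ := exists_RO_of_local hM S' h1 h2
  obtain ⟨d, hd, e', he, h3, h4, h5⟩ := h.exists_two hS
  exact ⟨t, e ▸ ht, d, h3, e', h4, h.sq d hd, h.sq e' he, h.ne d hd, h.ne e' he, h5⟩

/-- the structure of `H` with Sylow 2-subgroup `S ∩ H` and `O₂(H) = R` -/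
structure Blk (D : Set G) (H S R K : Subgroup G) : Prop where
  KH : K ≤ H
  KS : K ≤ N[S ⊓ H]
  KR : K ≤ C[R]
  odd : ¬ 2 ∣ Nat.card K
  cyc : IsCyclic K
  b1 : ∀ y ∈ S ⊓ H, y * y ∈ R → y ∈ R ∨ ∃ d ∈ D, d ∈ S ∧ d * y ∈ R
  tr : ∀ d ∈ D, d ∈ S → ∀ e ∈ D, e ∈ S → ∃ κ ∈ K, κ * d * κ⁻¹ = e
  fpf : ∀ κ ∈ K, ∀ d ∈ D, d ∈ S → κ * d ≠ d * κ → ∀ y ∈ S ⊓ H, y⁻¹ * κ * y * κ⁻¹ ∈ R → y ∈ R
  b3 : ∀ T U, Syl T → Syl U → (∃ d ∈ D, d ∈ T ⊓ H) → (∃ d ∈ D, d ∈ U ⊓ H) → T ≠ S → U ≠ S →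
    ∃ p ∈ S ⊓ H, p •ᶜ T = U
  b4 : ∀ y ∈ S ⊓ H, (∀ p ∈ S ⊓ H, y⁻¹ * p⁻¹ * y * p ∈ R) → y * y ∈ R
  b5 : ∀ y ∈ S ⊓ H, ∃ c ∈ S ⊓ H ⊓ C[R], ∃ r ∈ R, y = c * r
  b6 : (∀ y ∈ S ⊓ H, y * y ∈ R) ∨ R.relIndex (S ⊓ H) = ({x | x ∈ D ∧ x ∈ S}.ncard + 1) ^ 2 ∨
    ∃ a ∈ H, (∃ e ∈ D, e ∈ H ∧ e ∉ S ∧ ∃ e' ∈ D, e' * e = e * e' ∧ a * e * a⁻¹ = e') ∧
      (∀ z ∈ D, z ∈ S → a * z = z * a) ∧ ∃ x ∈ S ⊓ H, ∀ j : ℕ, x⁻¹ * (a ^ 2 ^ j)⁻¹ * x * a ^ 2 ^ j ∉ R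

theorem ZH.blk_top {D : Set G} (h : ZH D) (hT : TIm G) {S T : Subgroup G} (hS : Syl S) (hT' : Syl T)
    (hne : S ≠ T) : ∃ K, Blk D ⊤ S (S ⊓ T) K := by
  set f := QuotientGroup.mk' (kS G)
  have hf : Function.Surjective f := QuotientGroup.mk'_surjective _
  have hk : f.ker ≤ kS G := (QuotientGroup.ker_mk' _).le
  have h' := h.map hf hk hS hT' hne
  have hne' : S.map f ≠ T.map f := fun e => hne (hS.eq_of_map hT' hk e)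
  obtain ⟨t, ro, r2⟩ := h'.exists_RO (hT.map hf) kS_quot (hS.map hf) (hT'.map hf) hne'
  have hR : ∀ x ∈ S, f x = 1 ↔ x ∈ S ⊓ T := fun x hx =>
    ⟨fun e => ⟨hx, hT'.mem_of_norm (isPGroup_zpowers hS.isPGroup hx) (hk e T hT')⟩,
      fun e => (QuotientGroup.eq_one_iff x).2 fun U hU => le_normalizer (hT S T U hS hT' hU hne e)⟩
  have hRn : ∀ g, ∀ r ∈ S ⊓ T, g⁻¹ * r * g ∈ S ⊓ T := fun g r hr => by
    have key : ∀ U, Syl U → g⁻¹ * r * g ∈ U := fun U hU =>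
      mem_map_conj.1 (hT S T _ hS hT' (hU.conj g) hne hr)
    exact ⟨key S hS, key T hT'⟩
  have hDR : ∀ d ∈ D, d ∈ C[S ⊓ T] := fun d hd => by
    obtain ⟨U, hU, dU⟩ := h.exists_pt hd
    exact centralizer_mono (hT S T U hS hT' hU hne) (h.cent d hd U hU dU)
  have hinv : ∀ u, u * u = 1 → u ≠ 1 → u ∈ f '' D := fun u hu hu1 => by
    obtain ⟨d, hd, -⟩ := h'.two
    obtain ⟨g, e1⟩ := ro.conj_t hu hu1
    obtain ⟨g', e2⟩ := ro.conj_t (h'.sq d hd) (h'.ne d hd)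
    have := h'.conj _ (h'.conj' hd g') g
    rwa [e2, ← e1, show g * (g⁻¹ * u * g) * g⁻¹ = u by group] at this
  have hDS : ∀ d ∈ D, f d ∈ S.map f → d ∈ S := fun d hd => hS.mem_of_map hk (isPGroup_sq (h.sq d hd))
  have hinj : ∀ d ∈ D, d ∈ S → ∀ e ∈ D, e ∈ S → f d = f e → d = e := fun d hd dS e he eS e1 => by
    by_contra h1
    exact h.map_ne hk hS hT' hne (h.mul_mem' hd he hS dS eS h1) (by rw [map_mul, e1, ← map_mul, h.sq e he, map_one])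
  obtain ⟨k₀, hk₀, hgen⟩ := ro.K_cyclic r2
  obtain ⟨e₀, he₀, e1⟩ := hinv t ro.tt ro.t_ne_one
  obtain ⟨e, he, e2⟩ := hinv _ (ro.tK_sq hk₀) fun e => ro.t_not (by
    rw [eq_inv_of_mul_eq_one_left e]; exact inv_mem (ro.D_le hk₀.1))
  have fk : f (e₀ * e) = k₀ := by rw [map_mul, e1, e2, ro.ttl]
  have kS' : zpowers (e₀ * e) ≤ N[S] := zpowers_le.2 (hS.norm_of_map hk (fk ▸ ro.D_le hk₀.1))
  have hK : ∀ κ ∈ zpowers (e₀ * e), f κ ∈ kset N[S.map f] t := fun κ hκ =>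
    ro.K_zpowers hk₀ (by rw [← fk, ← MonoidHom.map_zpowers]; exact mem_map_of_mem f hκ)
  have hK' : ∀ k ∈ kset N[S.map f] t, ∃ κ ∈ zpowers (e₀ * e), f κ = k := fun k hk' => by
    have := hgen k hk'
    rwa [← fk, ← MonoidHom.map_zpowers] at this
  have k1 : k₀ ≠ 1 := by
    obtain ⟨k, hk', k1⟩ := ro.exists_K_ne_one r2
    rintro rfl
    exact k1 (by simpa using hgen k hk')
  have cj : ∀ g ∈ N[S], ∀ d ∈ S, g * d * g⁻¹ ∈ S := fun g hg d => (mem_normalizer_iff.1 hg d).1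
  refine ⟨zpowers (e₀ * e), le_top, by rwa [inf_top_eq], zpowers_le.2 (mul_mem (hDR _ he₀) (hDR _ he)), ?_,
    inferInstance, fun y hy h1 => ?_, fun d hd dS d' hd' dS' => ?_, fun κ hκ d hd dS h1 y hy h2 => ?_,
    fun T U h1 h2 _ _ h3 h4 => ?_, fun y hy h1 => ?_, fun y hy => ?_, ?_⟩
  · rw [Nat.card_zpowers, Nat.two_dvd_ne_zero, ← Nat.odd_iff]
    obtain ⟨U, hU, h1⟩ := h.exists_pt he₀
    obtain ⟨W, hW, h2⟩ := h.exists_pt he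
    refine h.odd_mul he₀ he hU hW h1 h2 ?_
    rintro rfl
    refine k1 (ro.eq_one_of_sq_D hk₀.1 ?_)
    rw [← fk, ← map_mul, mul_assoc, ← mul_assoc e, h.comm he₀ hU h1 h2, mul_assoc, h.sq e he, mul_one,
      h.sq e₀ he₀, map_one]
  · by_cases h2 : f y = 1
    · exact Or.inl ((hR y hy.1).1 h2)
    obtain ⟨d, hd, e3⟩ := hinv (f y) (by rw [← map_mul]; exact (hR _ h1.1).2 h1) h2
    have dS := hDS d hd (e3 ▸ mem_map_of_mem f hy.1)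
    exact Or.inr ⟨d, hd, dS, (hR _ (mul_mem dS hy.1)).1 (by rw [map_mul, ← e3, ← map_mul, h.sq d hd, map_one])⟩
  · obtain ⟨k, hk', e3⟩ := ro.exists_K_conj (mem_map_of_mem f dS) (h'.sq _ ⟨d, hd, rfl⟩) (h'.ne _ ⟨d, hd, rfl⟩)
      (mem_map_of_mem f dS') (h'.sq _ ⟨d', hd', rfl⟩) (h'.ne _ ⟨d', hd', rfl⟩)
    obtain ⟨κ, hκ, rfl⟩ := hK' k hk'
    exact ⟨κ⁻¹, inv_mem hκ, hinj _ (h.conj d hd _) (cj _ (kS' (inv_mem hκ)) d dS) d' hd' dS' (by simpa using e3)⟩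
  · refine (hR y hy.1).1 (ro.K_fpf (hK κ hκ) (fun e3 => h1 ?_) (mem_map_of_mem f hy.1) ?_)
    · rw [← mul_inv_eq_iff_eq_mul]
      exact hinj _ (h.conj d hd _) (cj _ (kS' hκ) d dS) d hd dS (by simp [e3])
    · have := (hR _ h2.1).2 h2
      simp only [map_mul, map_inv] at this
      rw [mul_inv_eq_one, mul_assoc, inv_mul_eq_iff_eq_mul] at this
      exact this
  · have key : ∀ U, Syl U → U ≠ S → ∃ x ∈ S, U.map f = (f x * t) •ᶜ S.map f := fun U hU h3 => by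
      obtain ⟨g, rfl⟩ := hS.exists_conj' hU
      obtain ⟨_, ⟨x, hx, rfl⟩, m, hm, e3⟩ := ro.bru' (g := f g) fun e3 =>
        h3 (conj_eq_iff_mem_normalizer.2 (hS.norm_of_map hk e3))
      exact ⟨x, hx, by rw [map_conj', e3, ← conj_conj, conj_eq_iff_mem_normalizer.2 hm]⟩
    obtain ⟨x, hx, e3⟩ := key T h1 h3
    obtain ⟨y, hy, e4⟩ := key U h2 h4
    refine ⟨y * x⁻¹, ⟨S.mul_mem hy (S.inv_mem hx), trivial⟩, (h1.conj _).eq_of_map h2 hk ?_⟩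
    rw [map_conj', e3, e4, conj_conj]; simp [mul_assoc]
  · refine (hR _ (mul_mem hy.1 hy.1)).1 ?_
    rw [map_mul]
    refine ro_sq_of_central ro r2 (mem_map_of_mem f hy.1) ?_
    rintro _ ⟨p, hp, rfl⟩
    have := (hR _ (h1 p ⟨hp, trivial⟩).1).2 (h1 p ⟨hp, trivial⟩)
    simp only [map_mul, map_inv] at this
    calc f p * f y = f p * f y * ((f y)⁻¹ * (f p)⁻¹ * f y * f p) := by rw [this, mul_one]
      _ = _ := by group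
  · obtain ⟨_, ⟨x, hx, rfl⟩, e3⟩ := ro.exists_comm_K hk₀ k1 (mem_map_of_mem f hy.1)
    have h1 : x⁻¹ * (e₀ * e * x * (e₀ * e)⁻¹) ∈ S := S.mul_mem (S.inv_mem hx) (cj _ (kS' (mem_zpowers _)) x hx)
    have h2 : e₀ * e ∈ C[S ⊓ T] := mul_mem (hDR _ he₀) (hDR _ he)
    refine ⟨_, ⟨⟨h1, trivial⟩, ?_⟩, _, (hR _ (mul_mem (inv_mem h1) hy.1)).1 ?_, (mul_inv_cancel_left _ _).symm⟩
    · rw [← mul_assoc, ← mul_assoc]
      refine Subgroup.mul_mem _ (mem_centralizer_iff.2 fun r hr => ?_) (Subgroup.inv_mem _ h2)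
      have := mem_centralizer_iff.1 h2 _ (by simpa using hRn x⁻¹ r hr : x * r * x⁻¹ ∈ S ⊓ T)
      calc r * (x⁻¹ * (e₀ * e) * x) = x⁻¹ * (x * r * x⁻¹ * (e₀ * e)) * x := by group
        _ = _ := by rw [this]; group
    · rw [map_mul, e3, ← fk]; simp only [map_mul, map_inv]; group
  have hc : (S ⊓ T).relIndex (S ⊓ ⊤) = Nat.card (S.map f) := by
    rw [inf_top_eq, ← relIndex_ker, ← inf_relIndex_right, ← inf_relIndex_right f.ker]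
    congr 1
    ext x
    exact ⟨fun hx => ⟨(hR x hx.2).2 hx.1, hx.2⟩, fun hx => ⟨(hR x hx.2).1 hx.1, hx.2⟩⟩
  obtain ⟨-, h1 | ⟨-, h1 | ⟨-, a, ha, h1, _, ⟨x, hx, rfl⟩, h2⟩⟩⟩ := ro.concl r2
  · exact Or.inl fun y hy => (hR _ (mul_mem hy.1 hy.1)).1 (by rw [map_mul]; exact h1 _ (mem_map_of_mem f hy.1))
  · refine Or.inr (Or.inl ?_)
    rw [hc, h1, h.ncard_zs hS, ← card_map_of_injOn f fun x hx e3 => h.zs_eq_one hS hx hT' hne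
      ((hR x (h.zs_le hS hx)).1 e3).2]
    suffices e5 : zsub (S.map f) = (h.zs hS).map f by rw [e5]
    ext u
    rw [ro.mem_Z r2]
    constructor
    · rintro ⟨h2, h3⟩
      by_cases h4 : u = 1
      · exact h4 ▸ one_mem _
      obtain ⟨d, hd, rfl⟩ := hinv u h3 h4
      exact ⟨d, Or.inr ⟨hd, hDS d hd h2⟩, rfl⟩
    · rintro ⟨d, hd, rfl⟩
      exact ⟨mem_map_of_mem f (h.zs_le hS hd), by rw [← map_mul, h.zs_sq hS hd, map_one]⟩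
  · obtain ⟨a, rfl⟩ := hf a
    have aS : a ∈ N[S] := hS.norm_of_map hk (ro.D_le ha)
    obtain ⟨d, hd, dS, -⟩ := h.exists_ne hS 1
    have aS' : e₀⁻¹ * a * e₀ ∈ N[S] := hS.norm_of_map hk (by
      rw [map_mul, map_mul, map_inv, e1, ro.tinv]; exact (ro.mem_D.1 ha).2)
    refine Or.inr (Or.inr ⟨a, trivial, ⟨_, h.conj d hd e₀, trivial, fun e3 => ro.t_not ?_, _,
      h.conj _ (h.conj d hd e₀) a, ?_, rfl⟩, fun z hz zS => ?_, x, ⟨hx, trivial⟩, fun j e3 => h2 ?_⟩)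
    · rw [← e1]
      exact conj_eq_iff_mem_normalizer.1 (by rw [← map_conj', conj_eq_iff_mem_normalizer.2 (h.norm hd hS dS e3)])
    · have := h.comm hd hS dS (cj _ aS' d dS)
      calc _ = e₀ * (e₀⁻¹ * a * e₀ * d * (e₀⁻¹ * a * e₀)⁻¹ * d) * e₀⁻¹ := by group
        _ = _ := by rw [this]; group
    · rw [← mul_inv_eq_iff_eq_mul]
      refine hinj _ (h.conj z hz _) (cj _ aS z zS) z hz zS ?_
      rw [map_mul, map_mul, ← h1 _ ((ro.mem_Z r2).2 ⟨mem_map_of_mem f zS, h'.sq _ ⟨z, hz, rfl⟩⟩)]; simp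
    · have := (hR _ e3.1).2 e3
      simp only [map_mul, map_inv, map_pow] at this
      refine (mem_C1.1 (ci_mem_of_odd (ro.odd_orderOf_D ha) (i := j) (mem_C1.2 ?_))).symm
      calc _ = f a ^ 2 ^ j * f x * ((f x)⁻¹ * (f a ^ 2 ^ j)⁻¹ * f x * f a ^ 2 ^ j) := by rw [this, mul_one]
        _ = _ := by group

theorem Blk.of_sub {D : Set G} (h : ZH D) {H S T : Subgroup G} (hS : Syl S) (hH : h.zs hS ≤ H) {K : Subgroup H}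
    (b : Blk ((↑) ⁻¹' D : Set H) ⊤ (S.subgroupOf H) (S.subgroupOf H ⊓ T.subgroupOf H) K) :
    Blk D H S (S ⊓ T ⊓ H) (K.map H.subtype) := by
  have hz : ∀ {d}, d ∈ D → d ∈ S → d ∈ H := fun hd dS => hH (Or.inr ⟨hd, dS⟩)
  have hR : ∀ x : H, x ∈ S.subgroupOf H ⊓ T.subgroupOf H ↔ (x : G) ∈ S ⊓ T ⊓ H := fun x =>
    ⟨fun e => ⟨e, x.2⟩, fun e => e.1⟩
  refine ⟨map_subtype_le _, ?_, ?_, by rw [card_map_of_injective H.subtype_injective]; exact b.odd,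
    ci_isCyclic_map _ b.cyc, fun y hy h1 => ?_, fun d hd dS e he eS => ?_, ?_, ?_, fun y hy h1 => ?_,
    fun y hy => ?_, ?_⟩
  · rintro _ ⟨k, hk, rfl⟩
    refine mem_normalizer_fintype fun x hx => ⟨?_, H.mul_mem (H.mul_mem k.2 hx.2) (H.inv_mem k.2)⟩
    exact ((mem_normalizer_iff.1 (b.KS hk) ⟨x, hx.2⟩).1 ⟨hx.1, trivial⟩).1
  · rintro _ ⟨k, hk, rfl⟩
    exact mem_centralizer_iff.2 fun r hr =>
      congrArg Subtype.val (mem_centralizer_iff.1 (b.KR hk) ⟨r, hr.2⟩ hr.1)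
  · refine (b.b1 ⟨y, hy.2⟩ ⟨hy.1, trivial⟩ h1.1).imp (fun e => ⟨e, hy.2⟩) ?_
    rintro ⟨d, hd, dS, e⟩
    exact ⟨d, hd, dS, (hR _).1 e⟩
  · obtain ⟨k, hk, e1⟩ := b.tr ⟨d, hz hd dS⟩ hd dS ⟨e, hz he eS⟩ he eS
    exact ⟨k, mem_map_of_mem _ hk, congrArg Subtype.val e1⟩
  · rintro _ ⟨k, hk, rfl⟩ d hd dS h1 y hy h2
    exact (hR ⟨y, hy.2⟩).1 (b.fpf k hk ⟨d, hz hd dS⟩ hd dS (fun e => h1 (congrArg Subtype.val e)) ⟨y, hy.2⟩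
      ⟨hy.1, trivial⟩ h2.1)
  · rintro T U h1 h2 ⟨d, hd, dT⟩ ⟨e, he, eU⟩ h3 h4
    have key : ∀ {d W}, d ∈ D → Syl W → d ∈ W ⊓ H → W ≠ S → W.subgroupOf H ≠ S.subgroupOf H :=
      fun {d W} hd hW h5 h6 e => h6 (h.eq hd hW hS h5.1 (e.le (show ⟨d, h5.2⟩ ∈ W.subgroupOf H from h5.1)))
    obtain ⟨p, hp, e1⟩ := b.b3 _ _ (h.syl_sub hd h1 dT.1 dT.2) (h.syl_sub he h2 eU.1 eU.2)
      ⟨⟨d, dT.2⟩, hd, dT.1, trivial⟩ ⟨⟨e, eU.2⟩, he, eU.1, trivial⟩ (key hd h1 dT h3) (key he h2 eU h4)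
    exact ⟨p, ⟨hp.1, p.2⟩, h.eq (h.conj d hd p) (h1.conj _) h2 (conj_mem_conj dT.1 _)
      (e1.le (conj_mem_conj (x := ⟨d, dT.2⟩) dT.1 p))⟩
  · exact (hR (⟨y, hy.2⟩ * ⟨y, hy.2⟩)).1 (b.b4 ⟨y, hy.2⟩ ⟨hy.1, trivial⟩ fun p hp => (h1 p ⟨hp.1, p.2⟩).1)
  · obtain ⟨c, hc, r, hr, e⟩ := b.b5 ⟨y, hy.2⟩ ⟨hy.1, trivial⟩
    exact ⟨c, ⟨⟨hc.1.1, c.2⟩, mem_centralizer_iff.2 fun x hx =>
      congrArg Subtype.val (mem_centralizer_iff.1 hc.2 ⟨x, hx.2⟩ hx.1)⟩, r, (hR r).1 hr, congrArg Subtype.val e⟩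
  rcases b.b6 with h1 | h1 | ⟨a, -, ⟨e, he, -, eS, e', he', c1, c2⟩, h1, x, hx, h2⟩
  · exact Or.inl fun y hy => (hR (⟨y, hy.2⟩ * ⟨y, hy.2⟩)).1 (h1 ⟨y, hy.2⟩ ⟨hy.1, trivial⟩)
  · refine Or.inr (Or.inl ?_)
    rw [← relIndex_subgroupOf inf_le_right, inf_subgroupOf_right, inf_subgroupOf_right, ← inf_top_eq (S.subgroupOf H)]
    refine h1.trans ?_
    rw [← Set.ncard_image_of_injective _ Subtype.val_injective]
    congr 3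
    ext x
    exact ⟨by rintro ⟨y, hy, rfl⟩; exact hy, fun hx => ⟨⟨x, hz hx.1 hx.2⟩, hx, rfl⟩⟩
  · exact Or.inr (Or.inr ⟨a, a.2, ⟨e, he, e.2, eS, e', he', congrArg Subtype.val c1, congrArg Subtype.val c2⟩,
      fun z hz' zS => congrArg Subtype.val (h1 ⟨z, hz hz' zS⟩ hz' zS), x, ⟨hx.1, x.2⟩,
      fun j e3 => h2 j ((hR _).2 (by simpa using e3))⟩)

theorem ZH.blk {D : Set G} (h : ZH D) {H S T : Subgroup G} (hT : TIm H) (hS : Syl S) (hT' : Syl T)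
    (hne : S ≠ T) (h1 : h.zs hS ≤ H) (h2 : h.zs hT' ≤ H) : ∃ K, Blk D H S (S ⊓ T ⊓ H) K := by
  obtain ⟨d, hd, dS, -⟩ := h.exists_ne hS 1
  obtain ⟨e, he, eT, -⟩ := h.exists_ne hT' 1
  have dH := h1 (Or.inr ⟨hd, dS⟩)
  obtain ⟨K, hK⟩ := (h.sub hS h1).blk_top hT (h.syl_sub hd hS dS dH) (h.syl_sub he hT' eT (h2 (Or.inr ⟨he, eT⟩)))
    fun e1 => hne (h.eq hd hS hT' dS (e1.le (show ⟨d, dH⟩ ∈ S.subgroupOf H from dS)))
  exact ⟨_, hK.of_sub h hS h1⟩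

end Cfsg.Lib.R1
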