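import Cfsg.Agent.Lib.R1.Loc

/-!
The Sylow 2-subgroup when a 2-central involution lies in two Sylow 2-subgroups.
-/

set_option autoImplicit false
set_option linter.unusedSectionVars false
set_option linter.unusedVariables false

namespace Cfsg.Lib.R1
open Subgroup Cfsg.Lib Cfsg.Lib.FT

variable {G : Type*} [Group G] [Finite G]

structure Lc (S R U : Subgroup G) (t : G) : Prop where
  hS : Syl S
  tz : t ∈ oz S
  Uz : U ≤ oz S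
  tU : t ∉ U
  two : ∃ a ∈ U, ∃ b ∈ U, a ≠ 1 ∧ b ≠ 1 ∧ a ≠ b
  tr : ∀ d ∈ U, d ≠ 1 → ∀ e ∈ U, e ≠ 1 → ∃ k ∈ N[S], k * t = t * k ∧ k * d * k⁻¹ = e
  inv : ∀ v ∈ S, v * v = 1 → v ∈ U ∨ t * v ∈ U
  mv : ∃ m ∈ N[S], m * t * m⁻¹ ≠ t
  NU : ∀ k ∈ N[S], k * t = t * k → k ∈ N[U]
  RS : R ≤ S
  SR : S ≤ N[R]
  tR : t ∈ R
  Rt : ∀ v ∈ R, v * v = 1 → v = 1 ∨ v = t
  b1 : ∀ y ∈ S, y * y ∈ R → y ∈ R ∨ ∃ d ∈ U, d * y ∈ R
  b4 : ∀ y ∈ S, y ∈ C[S] → y * y ∈ R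
  b5 : ∀ y ∈ S, ∃ c ∈ C[R], ∃ r ∈ R, y = c * r

namespace Lc

variable {S R U : Subgroup G} {t : G} (h : Lc S R U t)
include h

theorem t1 : t ≠ 1 := fun e => h.tU (e ▸ one_mem _)

theorem oz_of {v : G} (hv : v ∈ S) (v2 : v * v = 1) : v ∈ oz S :=
  (h.inv v hv v2).elim (fun e => h.Uz e) fun e => by simpa using mul_mem (inv_mem h.tz) (h.Uz e)

theorem cj {m : G} (hm : m ∈ N[S]) : m * t * m⁻¹ ∈ oz S := (mem_normalizer_iff.1 (N_le_oz S hm) t).1 h.tz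

theorem trans {v : G} (hv : v ∈ S) (v2 : v * v = 1) (v1 : v ≠ 1) : ∃ m ∈ N[S], m * t * m⁻¹ = v := by
  have tt := h.tz.2
  let O : Set G := (fun x => x * t * x⁻¹) '' (N[S] : Set G)
  have k1 : ∀ u ∈ U, u ≠ 1 → u ∈ O → ∀ w ∈ U, w ≠ 1 → w ∈ O := by
    rintro _ hu u1 ⟨m, hm, rfl⟩ w hw w1
    obtain ⟨k, hk, -, e⟩ := h.tr _ hu u1 w hw w1
    exact ⟨k * m, mul_mem hk hm, by rw [← e]; group⟩
  have k2 : ∀ u ∈ U, u ≠ 1 → t * u ∈ O → ∀ w ∈ U, t * w ∈ O := by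
    rintro u hu u1 ⟨m, hm, e1⟩ w hw
    by_cases w1 : w = 1
    · exact ⟨1, one_mem _, by simp [w1]⟩
    obtain ⟨k, hk, e2, e⟩ := h.tr u hu u1 w hw w1
    refine ⟨k * m, mul_mem hk hm, ?_⟩
    calc _ = k * (m * t * m⁻¹) * k⁻¹ := by group
      _ = _ := by rw [show m * t * m⁻¹ = t * u from e1, ← mul_assoc, e2, ← e]; group
  obtain ⟨a, ha, b, hb, a1, b1, hab⟩ := h.two
  have k3 : ∃ u ∈ U, u ≠ 1 ∧ u ∈ O := by
    by_contra! hh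
    have k4 : ∀ m ∈ N[S], t * (m * t * m⁻¹) ∈ U := fun m hm =>
      (h.inv _ (h.cj hm).1.1 (h.cj hm).2).resolve_left fun e => hh _ e (by simpa using h.t1) ⟨m, hm, rfl⟩
    obtain ⟨m, hm, e⟩ := h.mv
    have := even_ncard_of_mul (O := O) (h.Uz ha).2 a1 (by
      rintro _ ⟨n, hn, rfl⟩
      simpa [mul_assoc, cl tt] using k2 _ (k4 m hm) (fun e1 => e (by rwa [← inv_eq tt, inv_mul_eq_one, eq_comm,
        inv_eq tt] at e1)) ⟨m, hm, by simp only [cl tt]⟩ _ (mul_mem (k4 n hn) ha))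
    rw [Bender.ncard_conj_eq_relIndex] at this
    exact Nat.not_even_iff_odd.2 (h.hS.odd_relIndex (le_C1_iff.2 h.tz.1.2) le_normalizer) this
  obtain ⟨u, hu, u1, uO⟩ := k3
  rcases h.inv v hv v2 with e | e
  · exact k1 u hu u1 uO v e v1
  obtain ⟨m, hm, e1⟩ := k1 u hu u1 uO a ha a1
  obtain ⟨n, hn, e2⟩ := k1 u hu u1 uO b hb b1
  obtain ⟨l, hl, e3⟩ := k1 u hu u1 uO _ (mul_mem ha hb) fun e => hab (by
    rw [← inv_eq (h.Uz hb).2]; exact eq_inv_of_mul_eq_one_left e)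
  simp only at e1 e2 e3
  have hy := h.cj (mul_mem (inv_mem hm) hn)
  have yO : m⁻¹ * n * t * (m⁻¹ * n)⁻¹ ∈ O := ⟨_, mul_mem (inv_mem hm) hn, rfl⟩
  have k5 : ∃ w ∈ U, w ≠ 1 ∧ t * w ∈ O := by
    rcases h.inv _ hy.1.1 hy.2 with e4 | e4
    · refine ⟨_, e4, mt conj_eq_one_iff.1 h.t1, m⁻¹ * l, mul_mem (inv_mem hm) hl, ?_⟩
      calc _ = m⁻¹ * (l * t * l⁻¹) * m := by group
        _ = _ := by rw [e3, ← e1, ← e2]; group
    · refine ⟨_, e4, fun e5 => hab ?_, by rwa [cl tt]⟩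
      rw [← e1, ← e2]
      conv_lhs => rw [← inv_eq tt, ← eq_inv_of_mul_eq_one_right e5]
      group
  obtain ⟨w, hw, w1, wO⟩ := k5
  have := k2 w hw w1 wO _ e
  rwa [cl tt] at this

theorem R_sq {y : G} (hy : y ∈ R) : y * y = 1 := by
  by_contra h1
  obtain ⟨x, hx, x1, x2⟩ := exists_order_four h.hS.isPGroup (h.RS hy) h1
  replace hx := zpowers_le.2 hy hx
  have xx := (h.Rt _ (mul_mem hx hx) x2).resolve_left x1
  have key : ∀ v ∈ oz S, v ≠ 1 → ∃ m ∈ N[S], m * t * m⁻¹ = v ∧ m * x * m⁻¹ * (m * x * m⁻¹) = v := fun v hv v1 => by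
    obtain ⟨m, hm, e⟩ := h.trans hv.1.1 hv.2 v1
    exact ⟨m, hm, e, by rw [conj_mul, xx, e]⟩
  have key2 : ∀ m ∈ N[S], ∀ n ∈ N[S], m * t * m⁻¹ ≠ n * t * n⁻¹ → ∀ r ∈ R, ∀ s ∈ R,
      Commute (m * r * m⁻¹) (n * s * n⁻¹) := fun m hm n hn hne r hr s hs => by
    have k1 : ∀ m ∈ N[S], ∀ n ∈ N[S], m •ᶜ R ≤ N[n •ᶜ R] := fun m hm n hn =>
      (map_conj_le_of_mem_normalizer h.RS hm).trans (le_normalizer_map_conj h.SR hn)
    refine comm_of_inf (k1 m hm n hn) (k1 n hn m hm) ?_ (conj_mem_conj hr m) (conj_mem_conj hs n)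
    by_contra h2
    obtain ⟨w, hw, w1⟩ := exists_oz (h.hS.isPGroup.to_le (inf_le_left.trans (map_conj_le_of_mem_normalizer h.RS hm))) h2
    have k2 : ∀ m, w ∈ m •ᶜ R → m * t * m⁻¹ = w := by
      rintro m ⟨v, hv, rfl⟩
      rw [← (h.Rt v hv (by simpa [← map_mul] using hw.2)).resolve_left fun e => w1 (by rw [e, map_one])]
      rfl
    exact hne ((k2 m hw.1.1.1).trans (k2 n hw.1.1.2).symm)
  obtain ⟨a, ha, b, hb, a1, b1, hab⟩ := h.two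
  have tab : ∀ u ∈ U, t * (a * b) ≠ u := fun u hu e => h.tU ((mul_mem_cancel_right (mul_mem ha hb)).1 (e ▸ hu))
  have tu : ∀ u ∈ U, (1 : G) * t * 1⁻¹ ≠ u := fun u hu e => h.tU (by simpa [← e] using hu)
  obtain ⟨m₁, n₁, e₁, s₁⟩ := key a (h.Uz ha) a1
  obtain ⟨m₂, n₂, e₂, s₂⟩ := key b (h.Uz hb) b1
  obtain ⟨m₃, n₃, e₃, s₃⟩ := key _ (mul_mem h.tz (h.Uz (mul_mem ha hb))) (tab 1 (one_mem _))
  have t₁ := fun r hr => key2 1 (one_mem _) m₁ n₁ (e₁ ▸ tu a ha) r hr x hx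
  have t₂ := fun r hr => key2 1 (one_mem _) m₂ n₂ (e₂ ▸ tu b hb) r hr x hx
  have t₃ := fun r hr => key2 1 (one_mem _) m₃ n₃ (by
    rw [e₃]; simpa [← inv_eq (h.Uz hb).2 ▸ eq_inv_iff_mul_eq_one] using hab) r hr x hx
  have t₁₂ := key2 m₁ n₁ m₂ n₂ (e₁ ▸ e₂ ▸ hab) x hx x hx
  have t₁₃ := key2 m₁ n₁ m₃ n₃ (e₁ ▸ e₃ ▸ (tab a ha).symm) x hx x hx
  have t₂₃ := key2 m₂ n₂ m₃ n₃ (e₂ ▸ e₃ ▸ (tab b hb).symm) x hx x hx
  simp only [one_mul, inv_one, mul_one] at t₁ t₂ t₃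
  have cj : ∀ m ∈ N[S], m * x * m⁻¹ ∈ S := fun m hm => (mem_normalizer_iff.1 hm x).1 (h.RS hx)
  have h2 := h.oz_of (mul_mem (h.RS hx) (mul_mem (cj _ n₁) (mul_mem (cj _ n₂) (cj _ n₃)))) (by
    rw [← sq, ((t₁ x hx).mul_right ((t₂ x hx).mul_right (t₃ x hx))).mul_pow, (t₁₂.mul_right t₁₃).mul_pow,
      t₂₃.mul_pow, sq, sq, sq, sq, s₁, s₂, s₃, xx, ← mul_assoc a]
    exact (mul_assoc _ _ _).symm.trans (mul_mem h.tz (h.Uz (mul_mem ha hb))).2)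
  have h3 : x ∈ C[S] := mem_centralizer_iff.2 fun p hp => by
    obtain ⟨c, hc, r, hr, rfl⟩ := h.b5 p hp
    have := ((t₁ r hr).mul_right ((t₂ r hr).mul_right (t₃ r hr))).inv_right
    have h4 : Commute r _ := oz_comm h2 (h.RS hr)
    have h5 : r * x = x * r := by simpa [mul_assoc] using (h4.mul_right this).eq
    rw [mul_assoc, h5, ← mul_assoc, ← mem_centralizer_iff.1 hc x hx, mul_assoc]
  have h4 := h.b4 _ (cj _ n₁) (by
    have := conj_mem_conj h3 m₁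
    rwa [conj_centralizer, conj_eq_iff_mem_normalizer.2 n₁] at this)
  rw [s₁] at h4
  exact h.tU ((h.Rt a h4 (h.Uz ha).2).resolve_left a1 ▸ ha)

theorem S_sq {y : G} (hy : y ∈ S) : y * y = 1 := by
  by_contra h1
  obtain ⟨x, hx, x1, x2⟩ := exists_order_four h.hS.isPGroup hy h1
  replace hx := zpowers_le.2 hy hx
  obtain ⟨m, hm, e⟩ := h.trans (mul_mem hx hx) x2 x1
  have h2 : m⁻¹ * x * m * (m⁻¹ * x * m) = t := by
    calc _ = m⁻¹ * (x * x) * m := by group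
      _ = _ := by rw [← e]; group
  have h3 := (mem_normalizer_iff''.1 hm x).1 hx
  rcases h.b1 _ h3 (h2 ▸ h.tR) with h4 | ⟨d, hd, h4⟩
  · exact h.t1 (h2 ▸ h.R_sq h4)
  · have := h.R_sq h4
    rw [mul_assoc, ← mul_assoc _ d, oz_comm (h.Uz hd) h3, mul_assoc, h2, cl (h.Uz hd).2] at this
    exact h.t1 this

theorem tour {g : G} (hg : g ∈ N[S]) (h1 : g * t * g⁻¹ ≠ t) : g * t * g⁻¹ ∈ U ↔ g⁻¹ * t * g ∉ U := by
  have tt := h.tz.2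
  have key : ∀ k ∈ N[S], k * t = t * k → k * (g * t * g⁻¹) * k⁻¹ ≠ g⁻¹ * t * g := fun k hk e1 e2 => by
    have h2 := mem_C1.1 (IsSylowIn.mem_of_sq_mem h.hS (le_C1_iff.2 h.tz.1.2) (mul_mem hk hg) (mem_C1.2 (by
      rw [sq]
      calc _ = k * g * (k * (g * t * g⁻¹) * k⁻¹) * (k * g) := by group
        _ = k * t * g * (k * g) := by rw [e2]; group
        _ = _ := by rw [e1]; group)))
    refine h1 ?_
    calc _ = k⁻¹ * (k * g * t) * g⁻¹ := by group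
      _ = k⁻¹ * (t * k) := by rw [h2]; group
      _ = _ := by rw [← e1]; group
  have h2 := h.cj hg
  have h3 : g⁻¹ * t * g ∈ oz S := by simpa using h.cj (inv_mem hg)
  refine ⟨fun e1 e2 => ?_, fun e1 => by_contra fun e2 => ?_⟩
  · obtain ⟨k, hk, e3, e4⟩ := h.tr _ e1 (by simpa using h.t1) _ e2 (by simpa using (conj_eq_one_iff (a := g⁻¹)).not.2 h.t1)
    exact key k hk e3 e4
  · obtain ⟨k, hk, e3, e4⟩ := h.tr _ ((h.inv _ h2.1.1 h2.2).resolve_left e2)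
      (fun e => h1 (by rw [eq_inv_of_mul_eq_one_right e, inv_eq tt])) _ ((h.inv _ h3.1.1 h3.2).resolve_left e1)
      fun e => h1 (by
        conv_lhs => rw [← inv_eq tt, ← eq_inv_of_mul_eq_one_right e]
        group)
    refine key k hk e3 ?_
    rwa [← mul_assoc k, e3, mul_assoc t, mul_assoc t, mul_right_inj] at e4

theorem card_U : Nat.card U = 4 := by
  classical
  have tt := h.tz.2
  obtain ⟨a, ha, b, hb, a1, b1, hab⟩ := h.two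
  have ab1 : a * b ≠ 1 := fun e => hab (by rw [← inv_eq (h.Uz hb).2]; exact eq_inv_of_mul_eq_one_left e)
  have US : U ≤ S := fun x hx => (h.Uz hx).1.1
  have lin : ∀ x ∈ S, ∀ y ∈ S, x * y ∈ U ↔ (x ∈ U ↔ y ∈ U) := fun x hx y hy => by
    refine ⟨fun e => ⟨fun e1 => by simpa using mul_mem (inv_mem e1) e, fun e1 => by simpa using mul_mem e (inv_mem e1)⟩,
      fun e => ?_⟩
    by_cases e1 : x ∈ U
    · exact mul_mem e1 (e.1 e1)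
    · have := mul_mem ((h.inv x hx (h.S_sq hx)).resolve_left e1) ((h.inv y hy (h.S_sq hy)).resolve_left (mt e.2 e1))
      rwa [mul_assoc, ← mul_assoc x, oz_comm h.tz hx, mul_assoc, cl tt] at this
  have lin' : ∀ m ∈ N[S], ∀ x ∈ S, ∀ y ∈ S, m⁻¹ * (x * y) * m ∈ U ↔ (m⁻¹ * x * m ∈ U ↔ m⁻¹ * y * m ∈ U) :=
    fun m hm x hx y hy => by
      rw [← lin _ ((mem_normalizer_iff''.1 hm x).1 hx) _ ((mem_normalizer_iff''.1 hm y).1 hy)]; simp [mul_assoc]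
  obtain ⟨m₁, n₁, e₁⟩ := h.trans (US ha) (h.Uz ha).2 a1
  obtain ⟨m₂, n₂, e₂⟩ := h.trans (US hb) (h.Uz hb).2 b1
  obtain ⟨m₃, n₃, e₃⟩ := h.trans (US (mul_mem ha hb)) (h.Uz (mul_mem ha hb)).2 ab1
  have key : ∀ y ∈ S, y ≠ 1 → y ≠ a → y ≠ b → y ≠ a * b →
      (m₃⁻¹ * y * m₃ ∉ U ↔ (m₁⁻¹ * y * m₁ ∉ U ↔ m₂⁻¹ * y * m₂ ∉ U)) := fun y hy y1 ya yb yc => by
    obtain ⟨n, hn, rfl⟩ := h.trans hy (h.S_sq hy) y1
    have k : ∀ m ∈ N[S], n * t * n⁻¹ ≠ m * t * m⁻¹ → (n⁻¹ * (m * t * m⁻¹) * n ∈ U ↔ m⁻¹ * (n * t * n⁻¹) * m ∉ U) :=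
      fun m hm e => by
        have := h.tour (mul_mem (inv_mem hn) hm) fun e1 => e (by
          conv_lhs => rw [← e1]
          group)
        simpa only [mul_assoc, mul_inv_rev, inv_inv] using this
    rw [← k m₁ n₁ (e₁ ▸ ya), ← k m₂ n₂ (e₂ ▸ yb), ← k m₃ n₃ (e₃ ▸ yc), e₁, e₂, e₃, lin' n hn a (US ha) b (US hb)]
  have k1 : ∀ u ∈ U, t * u ≠ 1 ∧ t * u ≠ a ∧ t * u ≠ b ∧ t * u ≠ a * b := fun u hu => by
    have : ∀ w ∈ U, t * u ≠ w := fun w hw e => h.tU ((mul_mem_cancel_right hu).1 (e ▸ hw))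
    exact ⟨this 1 (one_mem _), this a ha, this b hb, this _ (mul_mem ha hb)⟩
  rw [← GW.ncard_coe, show (U : Set G) = {1, a, b, a * b} from ?_, Set.ncard_insert_of_notMem,
    Set.ncard_insert_of_notMem, Set.ncard_pair (by simpa using a1)]
  · simpa using ⟨hab, b1⟩
  · simpa [eq_comm] using ⟨a1, b1, ab1⟩
  refine Set.Subset.antisymm (fun u hu => by_contra fun e => ?_) (by
    rintro _ (rfl | rfl | rfl | rfl)
    exacts [one_mem U, ha, hb, mul_mem ha hb])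
  simp only [Set.mem_insert_iff, Set.mem_singleton_iff, not_or] at e
  have q1 := key u (US hu) e.1 e.2.1 e.2.2.1 e.2.2.2
  obtain ⟨r1, r2, r3, r4⟩ := k1 1 (one_mem _)
  rw [mul_one] at r1 r2 r3 r4
  have q2 := key t h.tz.1.1 r1 r2 r3 r4
  obtain ⟨r1, r2, r3, r4⟩ := k1 u hu
  have q3 := key _ (mul_mem h.tz.1.1 (US hu)) r1 r2 r3 r4
  rw [lin' m₁ n₁ t h.tz.1.1 u (US hu), lin' m₂ n₂ t h.tz.1.1 u (US hu), lin' m₃ n₃ t h.tz.1.1 u (US hu)] at q3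
  exact (by decide : ∀ a b c d e f : Bool, (¬c ↔ (¬a ↔ ¬b)) → (¬f ↔ (¬d ↔ ¬e)) →
    ¬(¬(f ↔ c) ↔ (¬(d ↔ a) ↔ ¬(e ↔ b)))) (decide _) (decide _) (decide _) (decide _) (decide _) (decide _)
    (by simpa only [decide_eq_true_eq] using q1) (by simpa only [decide_eq_true_eq] using q2)
    (by simpa only [decide_eq_true_eq] using q3)

end Lc

end Cfsg.Lib.R1
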