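import Cfsg.Agent.Lib.R1.ZEnd
import Cfsg.Agent.S3277

/-!
Groups with a central involution `t` in which every other involution lies in a unique Sylow 2-subgroup.
-/

set_option autoImplicit false
set_option linter.unusedSectionVars false
set_option linter.unusedVariables false

namespace Cfsg.Lib.R1
open Subgroup Cfsg.Lib Cfsg.Lib.FT

variable {G : Type*} [Group G] [Finite G]

/-- `Ω₁(Z(S))` -/
def oz (S : Subgroup G) : Subgroup G where
  carrier := {x | x ∈ S ⊓ C[S] ∧ x * x = 1}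
  one_mem' := ⟨one_mem _, one_mul 1⟩
  mul_mem' := fun {a b} ha hb => ⟨mul_mem ha.1 hb.1, by
    rw [mul_assoc, ← mul_assoc b, mem_centralizer_iff.1 ha.1.2 b hb.1.1, mul_assoc, hb.2, mul_one, ha.2]⟩
  inv_mem' := fun {a} ha => ⟨inv_mem ha.1, by rw [inv_eq ha.2, ha.2]⟩

theorem oz_comm {S : Subgroup G} {x y : G} (hx : x ∈ oz S) (hy : y ∈ S) : y * x = x * y :=
  mem_centralizer_iff.1 hx.1.2 y hy

theorem oz_conj {S : Subgroup G} {x : G} (hx : x ∈ oz S) (g : G) : g * x * g⁻¹ ∈ oz (g •ᶜ S) :=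
  ⟨⟨conj_mem_conj hx.1.1 g, conj_centralizer g S ▸ conj_mem_conj hx.1.2 g⟩, by rw [conj_mul, hx.2]; simp⟩

theorem N_le_oz (S : Subgroup G) : N[S] ≤ N[oz S] := fun g hg => mem_normalizer_fintype fun x hx => by
  have := oz_conj hx g
  rwa [conj_eq_iff_mem_normalizer.2 hg] at this

theorem elemAb_oz (S : Subgroup G) : IsElementaryAbelian 2 (oz S) :=
  ⟨isMulCommutative_of_forall fun _ ha _ hb => oz_comm hb ha.1.1, fun a ha => by rw [pow_two, ha.2]⟩

theorem exists_oz {S : Subgroup G} (hS : IsPGroup 2 S) (h : S ≠ ⊥) : ∃ z ∈ oz S, z ≠ 1 := by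
  obtain ⟨w, hw, w2, hc⟩ := pg_exists_fixed_of_order_p hS hS le_normalizer h
  exact ⟨w, ⟨⟨hw, mem_centralizer_iff.2 hc⟩, ci_mul_self w2⟩, ne_one_of_orderOf_two w2⟩

theorem UniqSyl.norm {d g : G} (hd : UniqSyl d) {S : Subgroup G} (hS : Syl S) (h1 : d ∈ S) (h2 : g * d * g⁻¹ ∈ S) :
    g ∈ N[S] :=
  conj_eq_iff_mem_normalizer.1 ((hd.conj g) _ _ (hS.conj g) hS (conj_mem_conj h1 g) h2)

theorem exists_order_four {S : Subgroup G} (hS : IsPGroup 2 S) {y : G} (hy : y ∈ S) (h1 : y * y ≠ 1) :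
    ∃ x ∈ zpowers y, x * x ≠ 1 ∧ x * x * (x * x) = 1 := by
  obtain ⟨n, hn⟩ := hS ⟨y, hy⟩
  replace hn : y ^ 2 ^ n = 1 := congrArg Subtype.val hn
  induction n generalizing y with
  | zero => rw [pow_zero, pow_one] at hn; exact absurd (by rw [hn, one_mul]) h1
  | succ n ih =>
    by_cases h2 : y * y * (y * y) = 1
    · exact ⟨y, mem_zpowers y, h1, h2⟩
    · obtain ⟨x, hx, h3⟩ := ih (mul_mem hy hy) h2 (by simpa [pow_succ', pow_mul, sq] using hn)
      exact ⟨x, zpowers_le.2 (mul_mem (mem_zpowers y) (mem_zpowers y)) hx, h3⟩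

theorem equiv_prod {A B : Subgroup G} (hc : A ≤ C[B]) (h1 : A ⊓ B = ⊥) (h2 : A ⊔ B = ⊤) : Nonempty (G ≃* A × B) :=
  ⟨(MulEquiv.ofBijective (A.subtype.noncommCoprod B.subtype fun a b =>
    (mem_centralizer_iff.1 (hc a.2) b b.2).symm) ⟨(MonoidHom.noncommCoprod_injective _ _ _).2
      ⟨A.subtype_injective, B.subtype_injective, by simpa using disjoint_iff.2 h1⟩,
      MonoidHom.range_eq_top.1 ((MonoidHom.noncommCoprod_range _ _ _).trans (by simpa using h2))⟩).symm⟩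

/-- `t` is a central involution and all other involutions lie in a unique Sylow 2-subgroup -/
structure UH (t : G) : Prop where
  cen : ∀ g, g * t = t * g
  tt : t * t = 1
  t1 : t ≠ 1
  uq : ∀ v, v * v = 1 → v ≠ 1 → v ≠ t → UniqSyl v

namespace UH

variable {t : G} (h : UH t) {S T : Subgroup G}
include h

theorem mem (hS : Syl S) : t ∈ S :=
  hS.mem_of_norm (isPGroup_sq h.tt) (centralizer_le_normalizer _ (mem_centralizer_iff.2 fun g _ => h.cen g))

theorem odd_le (hS : Syl S) (h3 : ¬ PRankLE 2 2 G) : oddCore G ≤ N[S] := by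
  obtain ⟨E, hE, h8⟩ := not_pRankLE_iff.1 h3
  obtain ⟨g, -, hg⟩ := hS.exists_conj_le (elemAb_isPGroup hE) le_top
  have h1 := elemAb_sup (elemAb_zpowers (x := t) (by rw [sq, h.tt])) (elemAb_map hE (MulAut.conj g).toMonoidHom)
    (zpowers_le.2 (mem_centralizer_iff.2 fun x _ => h.cen x))
  obtain ⟨W, h2, h4, h5⟩ := exists_compl_of_elemAb h1 le_sup_left
  have h6 := GW.card_sup_le (A := zpowers t) (B := W)
    (zpowers_le.2 (centralizer_le_normalizer _ (mem_centralizer_iff.2 fun x _ => h.cen x)))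
  rw [h5, Nat.card_zpowers, ci_orderOf h.t1 h.tt] at h6
  have h7 := card_le_of_le (le_sup_right (a := zpowers t) (b := g •ᶜ E))
  rw [card_conj] at h7
  have hW := h2.trans (sup_le (zpowers_le.2 (h.mem hS)) hg)
  refine (CoprimeAct.of_isPGroup (elemAb_isPGroup (elemAb_mono h1 h2)) not_dvd_card_pPrimeCore
    le_normalizer_of_normal).le_of_elemAb (elemAb_mono h1 h2) (by omega) fun a ha a1 y hy => ?_
  refine UniqSyl.norm (h.uq a (by rw [← sq, h1.2 a (h2 ha)]) a1 fun e => h.t1 (mem_bot.1 (h4 ▸ ⟨mem_zpowers t, e ▸ ha⟩)))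
    hS (hW ha) (by rw [mem_C1.1 hy.2, mul_inv_cancel_right]; exact hW ha)

theorem exists_zh (hS : Syl S) {z : G} (hz : z ∈ oz S) (z1 : z ≠ 1) (zt : z ≠ t) (hO : oddCore G ≤ N[S])
    (hn : N[S] ≠ ⊤) : ∃ D : Set G, ZH D ∧ t ∉ D := by
  obtain ⟨A, hA, ho⟩ := exists_isComplIn_normalizer hS
  rw [top_inf_eq] at hA
  have hAZ := hA.1.trans (N_le_oz S)
  have h1 := commutator_inf_centralizer_eq_bot_of_comm hAZ
    (CoprimeAct.of_isPGroup_right (elemAb_isPGroup (elemAb_oz S)) ho hAZ).cop (elemAb_oz S).1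
  have h2 : ⁅oz S, A⁆ ≤ oz S := le_normalizer_iff_commutator_le_left.1 hAZ
  have h3 : t ∉ ⁅oz S, A⁆ := fun e => h.t1 (mem_bot.1 (h1 ▸ ⟨e, mem_centralizer_iff.2 fun g _ => h.cen g⟩))
  have h4 : ⁅oz S, A⁆ ≠ ⊥ := fun e => by
    have hu := h.uq z hz.2 z1 zt
    obtain ⟨S', rfl⟩ := hS.exists_sylow_top
    have h5 := zstar (by rw [sq, hz.2]) (isIsolated_of_sylow S' hz.1.1 fun g hg => by
      obtain ⟨a, ha, s, hs, rfl⟩ := hA.2.2.2 g (UniqSyl.norm hu hS hz.1.1 hg)
      rw [mul_assoc a, oz_comm hz hs, ← mul_assoc,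
        mem_centralizer_iff.1 (commutator_eq_bot_iff_le_centralizer.1 e hz) a ha]; group)
    refine hn (eq_top_iff.2 fun g _ => UniqSyl.norm hu hS hz.1.1 (hS.mem_of_norm
      (isPGroup_sq (by rw [conj_mul, hz.2]; simp)) ?_))
    simpa using mul_mem (hO (h5 g)) (le_normalizer hz.1.1)
  obtain ⟨D, hD, h5⟩ := ZH.of_subgroup hS (Z := ⁅oz S, A⁆) (fun x hx => (h2 hx).1) (fun x hx => (h2 hx).2)
    (fun g hg => by
      obtain ⟨a, ha, s, hs, rfl⟩ := hA.2.2.2 g hg
      exact mul_mem (le_normalizer_commutator_right _ _ ha) (centralizer_le_normalizer _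
        (mem_centralizer_iff.2 fun x hx => (oz_comm (h2 hx) hs).symm)))
    (fun x hx x1 => h.uq x (h2 hx).2 x1 fun e => h3 (e ▸ hx)) (by
      obtain ⟨u, hu, u1⟩ := (bot_or_exists_ne_one _).resolve_left h4
      obtain ⟨a, ha, e⟩ : ∃ a ∈ A, a * u ≠ u * a := by
        by_contra! hh
        exact u1 (mem_bot.1 (h1 ▸ ⟨hu, mem_centralizer_iff.2 hh⟩))
      exact ⟨_, (mem_normalizer_iff.1 (le_normalizer_commutator_right _ _ ha) u).1 hu, u, hu, by simpa using u1, u1,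
        fun e1 => e (mul_inv_eq_iff_eq_mul.1 e1)⟩)
  exact ⟨D, hD, fun e => h3 ((h5 t).1 ⟨e, h.mem hS⟩).1⟩

theorem eq_t (hS : Syl S) (hT : Syl T) (hne : S ≠ T) {v : G} (hv : v ∈ S ⊓ T) (v2 : v * v = 1) : v = 1 ∨ v = t := by
  by_contra! hh
  exact hne (h.uq v v2 hh.1 hh.2 S T hS hT hv.1 hv.2)

end UH

theorem ZH.le_kS {D : Set G} (h : ZH D) {S T Y : Subgroup G} (hS : Syl S) (hT : Syl T) (hne : S ≠ T) (h1 : Y ≤ N[S])
    (h2 : N[S] ≤ N[Y]) (ho : ¬ 2 ∣ Nat.card Y) : Y ≤ kS G := by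
  set f := QuotientGroup.mk' (kS G)
  have hf : Function.Surjective f := QuotientGroup.mk'_surjective _
  have hk : f.ker ≤ kS G := (QuotientGroup.ker_mk' _).le
  have h' := h.map hf hk hS hT hne
  obtain ⟨-, -, -, h3⟩ := Big.bender_local (h'.oddCore_eq kS_quot) (not_pRankLE_of h')
    (h'.se (zd2 h') kS_quot (hS.map hf) (hT.map hf) fun e => hne (hS.eq_of_map hT hk e))
  have h4 : Y.map f ≤ N[S.map f] := (map_mono h1).trans (le_normalizer_map f)
  have h5 : ((Y.map f).subgroupOf N[S.map f]).Normal := normal_subgroupOf_of_le_normalizer fun g hg => by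
    obtain ⟨g, rfl⟩ := hf g
    exact le_normalizer_map f (mem_map_of_mem f (h2 (hS.norm_of_map hk hg)))
  have h6 := (le_pPrimeCore h5 (Nat.coprime_two_right.2 (Nat.odd_iff.2 (Nat.two_dvd_ne_zero.1 fun e =>
    ho ((card_subgroupOf_of_le h4 ▸ e).trans (card_map_dvd _ _)))))).trans h3.le
  exact fun y hy => hk (congrArg Subtype.val (mem_bot.1 (h6 (show ⟨f y, h4 (mem_map_of_mem f hy)⟩ ∈ _ from
    mem_map_of_mem f hy))))

theorem Blk.res {D : Set G} (h : ZH D) {H S R K : Subgroup G} (b : Blk D H S R K) (hS : Syl S) :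
    h.zs hS ≤ pResidual 2 G := by
  rintro z (rfl | ⟨hz, zS⟩)
  · exact one_mem _
  obtain ⟨e, he, eS, h1⟩ := h.exists_ne hS z
  obtain ⟨k, hk, h2⟩ := b.tr e he eS _ (h.mul_mem' he hz hS eS zS h1) (mul_mem eS zS)
  have h0 : k ∈ pResidual 2 G := mem_pResidual_of_coprime (Nat.coprime_two_right.2 (Nat.not_even_iff_odd.1 fun e =>
    b.odd ((even_iff_two_dvd.1 e).trans (K.orderOf_dvd_natCard hk))))
  have h3 := mul_mem ((inferInstance : (pResidual 2 G).Normal).conj_mem _ h0 e⁻¹) (inv_mem h0)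
  rwa [inv_inv, mul_assoc, mul_assoc, ← mul_assoc k, h2, inv_mul_cancel_left] at h3

namespace UH

variable {t : G} (h : UH t) {S T K : Subgroup G} {D : Set G} (z : ZH D) (hS : Syl S) (hT : Syl T) (hne : S ≠ T)
include h z hS hT hne

theorem invol (b : Blk D ⊤ S (S ⊓ T) K) {v : G} (hv : v ∈ S) (v2 : v * v = 1) : v ∈ z.zs hS ∨ t * v ∈ z.zs hS := by
  rcases b.b1 v ⟨hv, trivial⟩ (v2 ▸ one_mem _) with h1 | ⟨d, hd, dS, h1⟩
  · rcases h.eq_t hS hT hne h1 v2 with rfl | rfl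
    exacts [Or.inl (one_mem _), Or.inr (Or.inl v2)]
  · have dZ : d ∈ z.zs hS := Or.inr ⟨hd, dS⟩
    refine (h.eq_t hS hT hne h1 (by rw [mul_assoc, ← mul_assoc v, z.comm hd hS dS hv, mul_assoc, v2, mul_one,
      z.sq d hd])).imp (fun e => ?_) fun e => ?_
    · exact eq_inv_of_mul_eq_one_right e ▸ inv_mem dZ
    · rwa [← e, mul_assoc, v2, mul_one]

theorem kS_le (he : ∀ y ∈ S, y * y = 1) : kS G ≤ C[S] := fun w hw => mem_centralizer_iff.2 fun s hs => by
  have h1 : w * s * w⁻¹ * s⁻¹ ∈ S := mul_mem ((mem_normalizer_iff.1 (hw S hS) s).1 hs) (inv_mem hs)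
  have h2 : w * s * w⁻¹ * s⁻¹ ∈ kS G := by
    simpa [mul_assoc] using mul_mem hw ((inferInstance : (kS G).Normal).conj_mem _ (inv_mem hw) s)
  refine (mem_C1.1 (IsSylowIn.mem_of_sq_mem hS (X := C1[s]) (fun x hx => mem_C1.2 ?_) (hw S hS) (mem_C1.2 ?_))).symm
  · rw [← inv_eq (he _ (mul_mem hx hs)), mul_inv_rev, inv_eq (he s hs), inv_eq (he x hx)]
  · rcases h.eq_t hS hT hne ⟨h1, hT.mem_of_norm (isPGroup_sq (he _ h1)) (h2 T hT)⟩ (he _ h1) with e | e
    · rw [mul_inv_eq_one, mul_inv_eq_iff_eq_mul] at e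
      exact ((show Commute w s from e).pow_left 2).eq
    · rw [mul_inv_eq_iff_eq_mul, mul_inv_eq_iff_eq_mul] at e
      rw [sq, mul_assoc, e, ← mul_assoc, ← mul_assoc, h.cen w, mul_assoc t, e]
      simp only [← mul_assoc, h.tt, one_mul]

theorem janko (hD : t ∉ D) (b : Blk D ⊤ S (S ⊓ T) K) (he : ∀ y ∈ S, y * y = 1) (hC : C[S] ≤ S)
    (h4 : Nat.card (z.zs hS) = 4) : Nonempty (G ≃* Multiplicative (ZMod 2) × alternatingGroup (Fin 5)) := by
  have tZ : t ∉ z.zs hS := fun e => e.elim h.t1 fun e => hD e.1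
  have hi := fun v hv => h.invol z hS hT hne b hv (he v hv)
  have hc : ∀ x ∈ S, ∀ y ∈ S, x * y = y * x := fun x hx y hy => by
    rw [← inv_eq (he _ (mul_mem hx hy)), mul_inv_rev, inv_eq (he x hx), inv_eq (he y hy)]
  have hZ := b.res z hS
  obtain ⟨S', e⟩ := hS.exists_sylow_top
  have h0 : t ∉ pResidual 2 G := fun h0 => by
    obtain ⟨g, hg⟩ := thompson_transfer S' (M := z.zs hS) (by
      rw [e]
      exact relIndex_eq_two_iff_exists_notMem_and.2
        ⟨t, h.mem hS, tZ, fun x hx => by rw [h.cen x]; exact (hi x hx).symm⟩) (by rw [sq, h.tt]) h0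
    exact tZ (by rwa [h.cen g, mul_inv_cancel_right] at hg)
  have h1 : ∀ g, g ∈ pResidual 2 G ∨ t * g ∈ pResidual 2 G := fun g => by
    obtain ⟨x, hx, s, hs, rfl⟩ := mem_sup_of_normal_left.1 ((pResidual_sup_sylow S').ge (mem_top g))
    refine (hi s (e ▸ hs)).imp (fun e => mul_mem hx (hZ e)) fun e => ?_
    rw [← mul_assoc, ← h.cen x, mul_assoc]
    exact mul_mem hx (hZ e)
  obtain ⟨e1⟩ := equiv_prod (A := zpowers t) (B := pResidual 2 G)
    (zpowers_le.2 (mem_centralizer_iff.2 fun g _ => h.cen g))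
    (eq_bot_iff.2 fun x hx => ((GW.mem_zpowers_two h.tt).1 hx.1).resolve_right fun e => h0 (e ▸ hx.2))
    (eq_top_iff.2 fun g _ => (h1 g).elim mem_sup_right fun e => by
      simpa [cl h.tt] using mul_mem (mem_sup_left (mem_zpowers t)) (mem_sup_right e))
  obtain ⟨a, ha, aS, -⟩ := z.exists_ne hS 1
  have aZ : a ∈ z.zs hS := Or.inr ⟨ha, aS⟩
  have h2 : C1[(⟨a, hZ aZ⟩ : pResidual 2 G)] = (z.zs hS).subgroupOf _ := by
    ext c
    refine ⟨fun hc' => ?_, fun hc' => mem_C1.2 (Subtype.ext (hc _ (z.zs_le hS hc') a aS))⟩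
    have h2 : (c : G) * a = a * c := congrArg Subtype.val (mem_C1.1 hc')
    have h3 := z.norm_of_comm ha hS aS h2
    have h5 : ∀ u ∈ z.zs hS, (c : G) * u = u * c := fun u hu => by
      by_contra h5
      refine h5 (mem_C1.1 (IsSylowIn.mem_of_sq_mem hS (X := C1[u]) (fun x hx => mem_C1.2 (z.zs_comm hS hu hx)) h3 (mem_C1.2 ?_)))
      have h6 : c * u * (c : G)⁻¹ = a * u := by
        by_contra h6
        have h7 : ∀ x, (c : G) * x = x * c → x ≠ u ∧ x ≠ c * u * (c : G)⁻¹ := fun x hx =>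
          ⟨fun e => h5 (e ▸ hx), fun e => h5 (by
            rw [e, mul_assoc _ _ (c : G), inv_mul_cancel, mul_one, mul_right_inj] at hx
            exact mul_inv_eq_iff_eq_mul.1 hx)⟩
        have := Set.ncard_le_ncard (s := {1, a, u, a * u, c * u * (c : G)⁻¹}) (t := z.zs hS) (by
          rintro _ (rfl | rfl | rfl | rfl | rfl)
          exacts [one_mem _, aZ, hu, mul_mem aZ hu, z.zs_conj hS hu h3])
        rw [GW.ncard_coe, h4, Set.ncard_insert_of_notMem, Set.ncard_insert_of_notMem, Set.ncard_insert_of_notMem,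
          Set.ncard_pair (Ne.symm h6)] at this
        · omega
        · rintro (e | e)
          exacts [z.ne a ha (by simpa using e), h5 (mul_inv_eq_iff_eq_mul.1 (Eq.symm e))]
        · rintro (e | e | e)
          exacts [(h7 a h2).1 e, (h7 1 (by simp)).1 (by simpa [eq_comm] using e), (h7 a h2).2 e]
        · rintro (e | e | e | e)
          exacts [z.ne a ha e.symm, (h7 1 (by simp)).1 e, (h7 a h2).1 (by
            rw [← inv_eq (z.sq a ha)]; exact inv_eq_of_mul_eq_one_right e.symm), (h7 1 (by simp)).2 e]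
      rw [mul_inv_eq_iff_eq_mul] at h6
      rw [sq, mul_assoc, h6, ← mul_assoc, ← mul_assoc, h2, mul_assoc a, h6]
      simp only [← mul_assoc, z.sq a ha, one_mul]
    have h6 := hC (mem_centralizer_iff.2 fun s hs => (hi s hs).elim (fun e => (h5 s e).symm) fun e => by
      have := h5 _ e
      rw [← mul_assoc, h.cen, mul_assoc, mul_assoc, mul_right_inj] at this
      exact this.symm)
    exact (hi c h6).resolve_right fun e => h0 (by simpa using mul_mem (hZ e) (inv_mem c.2))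
  have h3 : orderOf (⟨a, hZ aZ⟩ : pResidual 2 G) = 2 := by
    rw [← orderOf_coe]; exact ci_orderOf (z.ne a ha) (z.sq a ha)
  obtain ⟨e2⟩ := Cfsg.Agent.S3277.result _ h3 (by rw [h2, card_subgroupOf_of_le hZ, h4])
    (fun c hc' => Subtype.ext (by rw [h2] at hc'; simpa [sq] using z.zs_sq hS hc'))
    (fun e => e.pResidual_ne_top (h3.symm.dvd.trans (orderOf_dvd_natCard _)) pResidual_pResidual) fun E hE hE' => by
      have h5 : (E.map (pResidual 2 G).subtype).Normal := ⟨by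
        rintro _ ⟨x, hx, rfl⟩ g
        rcases h1 g with e | e
        · exact ⟨_, hE.conj_mem x hx ⟨g, e⟩, rfl⟩
        · refine ⟨_, hE.conj_mem x hx ⟨_, e⟩, ?_⟩
          change t * g * x * (t * g)⁻¹ = g * x * g⁻¹
          rw [mul_assoc t, mul_assoc t, ← h.cen]; group⟩
      have h6 := (elemAb_isPGroup hE').map (pResidual 2 G).subtype
      rw [show E = ⊥ from eq_bot_iff.2 fun x hx => Subtype.ext ((h.eq_t hS hT hne (le_inf
        (hS.le_of_normalizes h6 le_top le_normalizer_of_normal) (hT.le_of_normalizes h6 le_top le_normalizer_of_normal)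
        (mem_map_of_mem _ hx)) (by simpa [sq] using congrArg Subtype.val (hE'.2 x hx))).resolve_right
          fun e => h0 (e ▸ x.2))]
      simp
  exact ⟨e1.trans ((mulEquivOfPrimeCardEq (p := 2) (by rw [Nat.card_zpowers, ci_orderOf h.t1 h.tt])
    (by simp)).prodCongr e2)⟩

end UH

end Cfsg.Lib.R1
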