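import Cfsg.Agent.Lib.R1.Lc
import Cfsg.Agent.Lib.Big.Rank2
import Cfsg.Agent.Lib.Big.Janko

/-!
Groups in which every four-group containing a 2-central involution lies in a unique Sylow 2-subgroup.
-/

set_option autoImplicit false
set_option linter.unusedSectionVars false
set_option linter.unusedVariables false

namespace Cfsg.Lib.R1
open Subgroup Cfsg.Lib Cfsg.Lib.FT

variable {G : Type*} [Group G] [Finite G]

theorem se_of_cent {S M : Subgroup G} (hS : Syl S) (h1 : S ≠ ⊥) (hM : M ≠ ⊤) (h2 : N[S] ≤ M)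
    (h3 : ∀ v ∈ S, v * v = 1 → v ≠ 1 → S ≤ C1[v] ∧ C1[v] ≤ M) : IsStronglyEmbedded M := by
  have hSM := le_normalizer.trans h2
  refine ⟨hM, even_iff_two_dvd.2 ((dvd_card_of_isPGroup_of_ne_bot hS.isPGroup h1).trans (card_dvd_of_le hSM)),
    fun g hg => Nat.not_even_iff_odd.1 fun e => hg ?_⟩
  obtain ⟨v, hv, v2⟩ := exists_mem_orderOf_eq_of_dvd (even_iff_two_dvd.1 e)
  have key : ∀ v ∈ M, orderOf v = 2 → (∃ m ∈ M, m •ᶜ S ≤ C1[v]) ∧ C1[v] ≤ M := fun v hv v2 => by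
    obtain ⟨k, hk, e⟩ := (hS.mono hSM le_top).exists_conj_le (isPGroup_sq (ci_mul_self v2)) (zpowers_le.2 hv)
    have := ci_orderOf_conj v2 k
    obtain ⟨h4, h5⟩ := h3 _ (e (conj_mem_conj (mem_zpowers v) k)) (ci_mul_self this) (ne_one_of_orderOf_two this)
    rw [← conj_centralizer_singleton] at h4 h5
    exact ⟨⟨k⁻¹, inv_mem hk, le_conj_iff.1 h4⟩, le_of_conj_le h5 (le_normalizer hk)⟩
  obtain ⟨⟨m, hm, h4⟩, -⟩ := key v hv.1 v2
  have h5 := (key _ (by simpa using mem_map_conj.1 hv.2) (ci_orderOf_conj v2 g⁻¹)).2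
  rw [← conj_centralizer_singleton] at h5
  obtain ⟨k, hk, e⟩ := (((hS.conj m).conj g⁻¹).mono ((map_mono h4).trans h5) le_top).exists_conj (hS.mono hSM le_top)
  rw [conj_conj, conj_conj] at e
  simpa [mul_assoc] using inv_mem (mul_mem (mul_mem (inv_mem hk) (h2 (conj_eq_iff_mem_normalizer.1 e))) (inv_mem hm))

/-- 2-central -/
def TC (z : G) : Prop := ∃ U, Syl U ∧ z ∈ oz U

/-- four-groups containing a 2-central involution lie in a unique Sylow 2-subgroup -/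
def R1c (G : Type*) [Group G] : Prop :=
  ∀ S T, Syl S → Syl T → ∀ z v : G, TC z → z ≠ 1 → z ∈ S ⊓ T → v ∈ S ⊓ T → v * v = 1 → v ≠ 1 → v ≠ z →
    v * z = z * v → S = T

theorem R1c.central (h : R1c G) {S : Subgroup G} (hS : Syl S) {z : G} (hz : TC z) (zS : z ∈ S) : z ∈ oz S := by
  by_cases z1 : z = 1
  · exact z1 ▸ one_mem _
  obtain ⟨w, hw, w1⟩ := exists_oz hS.isPGroup fun e => z1 (mem_bot.1 (e ▸ zS))
  by_cases e : w = z
  · exact e ▸ hw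
  obtain ⟨U, hU, zU⟩ := id hz
  have wz := (oz_comm hw zS).symm
  obtain ⟨g, hg, e1⟩ := (hU.mono (le_C1_iff.2 zU.1.2) le_top).exists_conj_le (isPGroup_sq hw.2)
    (zpowers_le.2 (mem_C1.2 wz))
  have h1 := oz_conj zU g⁻¹
  rw [mem_C1.1 (inv_mem hg), mul_inv_cancel_right] at h1
  rwa [h S _ hS (hU.conj g⁻¹) z w hz z1 ⟨zS, h1.1.1⟩ ⟨hw.1.1, map_conj_le_iff.1 e1 (mem_zpowers w)⟩ hw.2 w1 e wz]

theorem R1c.uh (h : R1c G) {t : G} (ht : TC t) (t1 : t ≠ 1) : UH (⟨t, mem_C1.2 rfl⟩ : C1[t]) := by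
  have tt : t * t = 1 := ht.choose_spec.2.2
  refine ⟨fun g => Subtype.ext (mem_C1.1 g.2), Subtype.ext tt, fun e => t1 (congrArg Subtype.val e),
    fun v v2 v1 vt P Q hP hQ h1 h2 => ?_⟩
  have key : ∀ P : Subgroup C1[t], Syl P → (⟨t, mem_C1.2 rfl⟩ : C1[t]) ∈ P := fun P hP =>
    hP.mem_of_norm (isPGroup_sq (Subtype.ext tt))
      (centralizer_le_normalizer _ (mem_centralizer_iff.2 fun g _ => Subtype.ext (mem_C1.1 g.2)))
  have h3 := key P hP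
  have h4 := key Q hQ
  obtain ⟨T, hT, rfl⟩ := Syl.exists_sub hP
  obtain ⟨U, hU, rfl⟩ := Syl.exists_sub hQ
  rw [h T U hT hU t v ht t1 ⟨h3, h4⟩ ⟨h1, h2⟩ (congrArg Subtype.val v2) (fun e => v1 (Subtype.ext e))
    (fun e => vt (Subtype.ext e)) (mem_C1.1 v.2)]

structure Amb (G : Type*) [Group G] : Prop where
  r1 : R1c G
  odd : oddCore G = ⊥
  cen : ∀ t : G, (∀ g, g * t = t * g) → t * t = 1 → t = 1

namespace Amb

variable (h : Amb G) {S : Subgroup G} (hS : Syl S)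
include h hS

theorem move {z : G} (hz : z ∈ oz S) (z1 : z ≠ 1) : ∃ m ∈ N[S], m * z * m⁻¹ ≠ z := by
  by_contra! hh
  obtain ⟨S', rfl⟩ := hS.exists_sylow_top
  refine z1 (h.cen z (mem_center_iff.1 (zstar_center h.odd (by rw [sq, hz.2])
    (isIsolated_of_sylow S' hz.1.1 fun g hg => ?_))) hz.2)
  have h1 := oz_conj hz g
  obtain ⟨c, hc, e⟩ := ((hS.conj g).mono (le_C1_iff.2 h1.1.2) le_top).exists_conj
    (hS.mono (le_C1_iff.2 (h.r1.central hS ⟨_, hS.conj g, h1⟩ hg).1.2) le_top)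
  rw [conj_conj] at e
  rw [← hh _ (conj_eq_iff_mem_normalizer.1 e)]
  calc _ = c * (g * z * g⁻¹) * c⁻¹ := by rw [mem_C1.1 hc, hh _ (conj_eq_iff_mem_normalizer.1 e)]; group
    _ = _ := by group

theorem exists_ne {z : G} (hz : z ∈ oz S) (z1 : z ≠ 1) : ∃ w ∈ oz S, w ≠ 1 ∧ w ≠ z := by
  obtain ⟨m, hm, e⟩ := h.move hS hz z1
  exact ⟨_, (mem_normalizer_iff.1 (N_le_oz S hm) z).1 hz, by simpa using z1, e⟩

theorem zh (h1 : S ≠ ⊥) (hu : ∀ z ∈ oz S, z ≠ 1 → UniqSyl z) : ∃ D : Set G, ZH D := by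
  obtain ⟨z, hz, z1⟩ := exists_oz hS.isPGroup h1
  obtain ⟨w, hw, w1, e⟩ := h.exists_ne hS hz z1
  exact (ZH.of_subgroup hS (Z := oz S) (fun x hx => hx.1) (fun x hx => hx.2) (N_le_oz S) hu ⟨w, hw, z, hz, w1, z1, e⟩).imp
    fun _ e => e.1

theorem main3 (h3 : ¬ PRankLE 2 2 G) {t : G} (ht : t ∈ oz S) (t1 : t ≠ 1) (hu : ¬ UniqSyl t) :
    (∀ y ∈ S, y * y = 1) ∧ (∀ v ∈ S, v ≠ 1 → ∃ m ∈ N[S], m * t * m⁻¹ = v) ∧
      ((∃ M : Subgroup G, IsStronglyEmbedded M) ∨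
        Nonempty (C1[t] ≃* Multiplicative (ZMod 2) × alternatingGroup (Fin 5))) := by
  have tc : TC t := ⟨S, hS, ht⟩
  obtain ⟨T, hT, tT, hne⟩ : ∃ T, Syl T ∧ t ∈ T ∧ S ≠ T := by
    by_contra! hh
    exact hu fun P Q hP hQ h1 h2 => (hh P hP h1).symm.trans (hh Q hQ h2)
  have uh := h.r1.uh tc t1
  have SH : S ≤ C1[t] := le_C1_iff.2 ht.1.2
  have TH : T ≤ C1[t] := le_C1_iff.2 (h.r1.central hT tc tT).1.2
  set H := C1[t]
  have hS' : Syl (S.subgroupOf H) := syl_sub_iff.2 (by rw [inf_eq_left.2 SH]; exact hS.mono SH le_top)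
  have hT' : Syl (T.subgroupOf H) := syl_sub_iff.2 (by rw [inf_eq_left.2 TH]; exact hT.mono TH le_top)
  have hne' : S.subgroupOf H ≠ T.subgroupOf H := fun e => hne (by
    rw [← map_subgroupOf_eq_of_le SH, e, map_subgroupOf_eq_of_le TH])
  have hN : ∀ k : H, k ∈ N[S.subgroupOf H] ↔ (k : G) ∈ N[S] := fun k => by
    rw [← subgroupOf_normalizer_eq SH]; rfl
  have hz : ∀ x : H, x ∈ oz (S.subgroupOf H) ↔ (x : G) ∈ oz S := fun x =>
    ⟨fun e => ⟨⟨e.1.1, mem_centralizer_iff.2 fun y hy => congrArg Subtype.val (oz_comm e (y := ⟨y, SH hy⟩) hy)⟩,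
      congrArg Subtype.val e.2⟩, fun e => ⟨⟨e.1.1, mem_centralizer_iff.2 fun y hy => Subtype.ext (oz_comm e hy)⟩,
      Subtype.ext e.2⟩⟩
  obtain ⟨w, hw, w1, wt⟩ := h.exists_ne hS ht t1
  obtain ⟨D, z, hD⟩ := uh.exists_zh hS' ((hz ⟨w, SH hw.1.1⟩).2 hw) (fun e => w1 (congrArg Subtype.val e))
    (fun e => wt (congrArg Subtype.val e)) (uh.odd_le hS' (by
      obtain ⟨E, hE, h8⟩ := not_pRankLE_iff.1 h3
      obtain ⟨g, -, hg⟩ := hS.exists_conj_le (elemAb_isPGroup hE) le_top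
      exact not_pRankLE_of_le_card (hg.trans SH) (elemAb_conj hE g) (by rwa [card_conj])))
    (fun e => by
      obtain ⟨g, e1⟩ := hS'.exists_conj' hT'
      exact hne' (e1 ▸ (conj_eq_iff_mem_normalizer.2 (e.ge (mem_top g))).symm))
  have ti := zd2 z
  obtain ⟨K, b⟩ := z.blk_top ti hS' hT' hne'
  have zz : ∀ d ∈ z.zs hS', (d : G) ∈ oz S := fun d hd => (hz d).1
    ⟨⟨z.zs_le hS' hd, mem_centralizer_iff.2 fun y hy => z.zs_comm hS' hd hy⟩, z.zs_sq hS' hd⟩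
  have lc : Lc S (S ⊓ T) ((z.zs hS').map H.subtype) t := by
    refine ⟨hS, ht, by rintro _ ⟨d, hd, rfl⟩; exact zz d hd, ?_, ?_, ?_, fun v hv v2 => ?_, h.move hS ht t1,
      fun k hk e => ?_, inf_le_left, fun s hs => mem_normalizer_fintype fun x hx => ?_, ⟨ht.1.1, tT⟩,
      fun v hv v2 => ?_, fun y hy e => ?_, fun y hy e => ?_, fun y hy => ?_⟩
    · rintro ⟨d, rfl | hd, e⟩
      exacts [t1 e.symm, hD ((Subtype.ext e : d = ⟨t, _⟩) ▸ hd.1)]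
    · obtain ⟨d, hd, e, he, h1, h2, h4⟩ := z.exists_two hS'
      exact ⟨d, ⟨d, Or.inr ⟨hd, h1⟩, rfl⟩, e, ⟨e, Or.inr ⟨he, h2⟩, rfl⟩, fun e => z.ne d hd (Subtype.ext e),
        fun e1 => z.ne e he (Subtype.ext e1), fun e => h4 (Subtype.ext e)⟩
    · rintro _ ⟨d, hd, rfl⟩ d1 _ ⟨e, he, rfl⟩ e1
      replace hd := hd.resolve_left fun e => d1 (congrArg Subtype.val e)
      replace he := he.resolve_left fun e => e1 (congrArg Subtype.val e)
      obtain ⟨k, hk, h1⟩ := b.tr d hd.1 hd.2 e he.1 he.2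
      exact ⟨k, (hN k).1 (inf_top_eq (S.subgroupOf H) ▸ b.KS hk), mem_C1.1 k.2, congrArg Subtype.val h1⟩
    · exact (uh.invol z hS' hT' hne' b (v := ⟨v, SH hv⟩) hv (Subtype.ext v2)).imp (mem_map_of_mem _) (mem_map_of_mem _)
    · refine mem_normalizer_fintype ?_
      rintro _ ⟨d, hd, rfl⟩
      exact ⟨_, z.zs_conj hS' hd ((hN ⟨k, mem_C1.2 e⟩).2 hk), rfl⟩
    · exact ⟨(mem_normalizer_iff.1 (le_normalizer hs) x).1 hx.1, by
        have := mem_map_conj.1 (ti _ _ _ hS' hT' (hT'.conj ⟨s, SH hs⟩⁻¹) hne' (x := ⟨x, SH hx.1⟩) hx)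
        rwa [inv_inv] at this⟩
    · exact (uh.eq_t hS' hT' hne' (v := ⟨v, SH hv.1⟩) hv (Subtype.ext v2)).imp (congrArg Subtype.val)
        (congrArg Subtype.val)
    · exact (b.b1 ⟨y, SH hy⟩ ⟨hy, trivial⟩ e).imp id fun ⟨d, hd, dS, e⟩ => ⟨d, ⟨d, Or.inr ⟨hd, dS⟩, rfl⟩, e⟩
    · exact b.b4 ⟨y, SH hy⟩ ⟨hy, trivial⟩ fun p hp => by
        rw [show (⟨y, SH hy⟩ : H)⁻¹ * p⁻¹ * ⟨y, SH hy⟩ * p = 1 from Subtype.ext (by
          simp [mul_assoc, ← mem_centralizer_iff.1 e p hp.1])]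
        exact one_mem _
    · obtain ⟨c, hc, r, hr, e⟩ := b.b5 ⟨y, SH hy⟩ ⟨hy, trivial⟩
      exact ⟨c, mem_centralizer_iff.2 fun x hx => congrArg Subtype.val (mem_centralizer_iff.1 hc.2 ⟨x, SH hx.1⟩ hx),
        r, hr, congrArg Subtype.val e⟩
  have he : ∀ y ∈ S, y * y = 1 := fun y => lc.S_sq
  have he' : ∀ y ∈ S.subgroupOf H, y * y = 1 := fun y hy => Subtype.ext (he y hy)
  have hc : S ≤ C[S] := fun y hy => (lc.oz_of hy (he y hy)).1.2
  refine ⟨he, fun v hv => lc.trans hv (he v hv), ?_⟩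
  obtain ⟨A, hA, ho⟩ := exists_isComplIn_normalizer hS
  rw [top_inf_eq] at hA
  have h1 : ∀ c ∈ C[S], ∃ a ∈ A ⊓ C[S], ∃ s ∈ S, c = a * s := fun c hc' => by
    obtain ⟨a, ha, s, hs, rfl⟩ := hA.2.2.2 c (centralizer_le_normalizer _ hc')
    exact ⟨a, ⟨ha, (mul_mem_cancel_right (hc hs)).1 hc'⟩, s, hs, rfl⟩
  by_cases hY : A ⊓ C[S] = ⊥
  · refine Or.inr (uh.janko z hS' hT' hne' hD b he' (fun c hc' => ?_) ?_)
    · obtain ⟨a, ha, s, hs, e⟩ := h1 c (mem_centralizer_iff.2 fun y hy =>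
        congrArg Subtype.val (mem_centralizer_iff.1 hc' ⟨y, SH hy⟩ hy))
      rw [hY, mem_bot] at ha
      rw [mem_subgroupOf, e, ha, one_mul]; exact hs
    · rw [← lc.card_U, card_map_of_injective H.subtype_injective]
  have hY2 : ¬ 2 ∣ Nat.card ↥(A ⊓ C[S]) := fun e => ho (e.trans (card_dvd_of_le inf_le_left))
  have h2 : N[S] ≤ N[A ⊓ C[S]] := fun g hg => by
    obtain ⟨a, ha, s, hs, rfl⟩ := hA.2.2.2 g hg
    exact mul_mem (le_normalizer_inf le_normalizer (hA.1.trans (normalizer_le_normalizer_centralizer _)) ha)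
      (centralizer_le_normalizer _ (mem_centralizer_iff.2 fun y hy => (mem_centralizer_iff.1 hy.2 s hs).symm))
  have YH : A ⊓ C[S] ≤ H := fun y hy => mem_C1.2 (mem_centralizer_iff.1 hy.2 t ht.1.1).symm
  have h4 := z.le_kS hS' hT' hne' (Y := (A ⊓ C[S]).subgroupOf H) (fun y hy => (hN y).2 (hA.1 hy.1))
    (fun g hg => by rw [← subgroupOf_normalizer_eq YH]; exact h2 ((hN g).1 hg)) (by rwa [card_subgroupOf_of_le YH])
  have h5 : H ≤ N[A ⊓ C[S]] := fun g hg => mem_normalizer_fintype fun y hy => by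
    have := uh.kS_le z hS' hT' hne' he' ((inferInstance : (kS H).Normal).conj_mem _ (h4 (x := ⟨y, YH hy⟩) hy) ⟨g, hg⟩)
    obtain ⟨a, ha, s, hs, e⟩ := h1 (g * y * g⁻¹) (mem_centralizer_iff.2 fun y hy =>
      congrArg Subtype.val (mem_centralizer_iff.1 this ⟨y, SH hy⟩ hy))
    refine ci_mem_of_odd (i := 1) (Nat.odd_iff.2 (Nat.two_dvd_ne_zero.1 fun e1 => hY2 (e1.trans ?_))) ?_
    · exact (orderOf_map_dvd (MulAut.conj g).toMonoidHom y).trans (orderOf_dvd_natCard _ hy)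
    · rw [e, pow_one, (show Commute a s from (mem_centralizer_iff.1 ha.2 s hs).symm).mul_pow, sq s, he s hs, mul_one]
      exact pow_mem ha 2
  refine Or.inl ⟨_, se_of_cent hS (fun e => t1 (mem_bot.1 (e ▸ ht.1.1))) (fun e => hY (eq_bot_iff.2 (h.odd ▸
    le_pPrimeCore (normalizer_eq_top_iff.1 e) (Nat.coprime_two_right.2 (Nat.odd_iff.2 (Nat.two_dvd_ne_zero.1 hY2))))))
    h2 fun v hv v2 v1 => ⟨le_C1_iff.2 (hc hv), ?_⟩⟩
  obtain ⟨m, hm, rfl⟩ := lc.trans hv v2 v1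
  rw [← conj_centralizer_singleton]
  exact map_conj_le_of_mem_normalizer h5 (le_normalizer (h2 hm))

theorem not_cyclic {S : Sylow 2 G} {t : G} (ht : t ∈ oz (S : Subgroup G)) (t1 : t ≠ 1) :
    ¬ IsCyclic (center (S : Subgroup G)) := fun e => by
  obtain ⟨w, hw, w1, wt⟩ := h.exists_ne (IsSylowIn.of_sylow_top S) ht t1
  have key : ∀ x, ∀ hx : x ∈ oz (S : Subgroup G), (⟨x, hx.1.1⟩ : (S : Subgroup G)) ∈ center (S : Subgroup G) :=
    fun x hx => mem_center_iff.2 fun y => Subtype.ext (oz_comm hx y.2)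
  exact wt (congrArg Subtype.val (ci_invol_eq e (key w hw) (key t ht) (by rw [← orderOf_coe]; exact ci_orderOf w1 hw.2)
    (by rw [← orderOf_coe]; exact ci_orderOf t1 ht.2)))

theorem ne_sixty (h4 : Nat.card S = 4) {t : G} (ht : t ∈ oz S) (t1 : t ≠ 1) (hu : ¬ UniqSyl t) : Nat.card G ≠ 60 := by
  intro h60
  have tc : TC t := ⟨S, hS, ht⟩
  obtain ⟨T, hT, tT, hne⟩ : ∃ T, Syl T ∧ t ∈ T ∧ S ≠ T := by
    by_contra! hh
    exact hu fun P Q hP hQ h1 h2 => (hh P hP h1).symm.trans (hh Q hQ h2)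
  let O : Set G := (fun x => x * t * x⁻¹) '' (⊤ : Subgroup G)
  have key : ∀ {U}, Syl U → t ∈ U → ∃ u ∈ oz U, GW.Four t u ∧ u ∈ O ∧ t * u ∈ O := fun {U} hU tU => by
    have h1 := h.r1.central hU tc tU
    obtain ⟨m, hm, e⟩ := h.move hU h1 t1
    have h2 := (mem_normalizer_iff.1 (N_le_oz _ hm) t).1 h1
    have f : GW.Four t (m * t * m⁻¹) := ⟨ci_orderOf t1 ht.2, ci_orderOf_conj (ci_orderOf t1 ht.2) m, e, oz_comm h1 h2.1.1⟩
    refine ⟨_, h2, f, ⟨m, trivial, rfl⟩, ?_⟩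
    obtain ⟨n, hn, e1⟩ := h.move hU (mul_mem h1 h2) f.w_ne
    obtain ⟨g, rfl⟩ := hS.exists_conj' hU
    rcases f.mem_four.1 ((eq_of_le_of_card_ge (GW.four_le_iff.2 ⟨tU, h2.1.1⟩) (by rw [card_conj, h4, f.card])).ge
      ((mem_normalizer_iff.1 hn _).1 (mul_mem tU h2.1.1))) with e2 | e2 | e2 | e2
    · exact absurd (conj_eq_one_iff.1 e2) f.w_ne
    · refine ⟨n⁻¹, trivial, ?_⟩
      conv_lhs => rw [← e2]
      group
    · refine ⟨n⁻¹ * m, trivial, ?_⟩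
      calc _ = n⁻¹ * (m * t * m⁻¹) * n := by group
        _ = _ := by
          conv_lhs => rw [← e2]
          group
    · exact absurd e2 e1
  obtain ⟨u, hu, f, u1, u2⟩ := key hS ht.1.1
  obtain ⟨w, hw, f', w1, w2⟩ := key hT tT
  have wS : w ∉ S := fun e => hne (h.r1 S T hS hT t w tc t1 ⟨ht.1.1, tT⟩ ⟨e, hw.1.1⟩ hw.2 f'.v_ne f'.ne f'.comm)
  have wS' : t * w ∉ S := by rwa [S.mul_mem_cancel_left ht.1.1]
  have h1 := pg_card_lt_of_lt (lt_of_le_of_ne (le_C1_iff.2 ht.1.2) fun e => wS (e.ge f'.v_mem))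
  obtain ⟨k, hk⟩ := card_dvd_of_le (le_C1_iff.2 ht.1.2)
  have h2 := C1[t].index_mul_card
  have h3 : O.ncard ≤ 5 := by
    rw [Bender.ncard_conj_eq_relIndex, relIndex_top_right]
    rw [h60, hk, h4] at h2
    rw [hk, h4] at h1
    by_contra h3
    obtain rfl : k = 2 := by nlinarith
    omega
  have h5 : {t, u, t * u, w, t * w} = O := Set.eq_of_subset_of_ncard_le (by
    rintro _ (rfl | rfl | rfl | rfl | rfl)
    exacts [⟨1, trivial, by simp⟩, u1, u2, w1, w2]) (by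
      have ne : ∀ x ∈ S, x ≠ w ∧ x ≠ t * w := fun x hx => ⟨fun e => wS (e ▸ hx), fun e => wS' (e ▸ hx)⟩
      rw [Set.ncard_insert_of_notMem, Set.ncard_insert_of_notMem, Set.ncard_insert_of_notMem,
        Set.ncard_pair f'.w_ne_v.symm]
      · exact h3
      · simpa using ne _ (mul_mem ht.1.1 hu.1.1)
      · simpa only [Set.mem_insert_iff, Set.mem_singleton_iff, not_or] using ⟨f.w_ne_v.symm, ne _ hu.1.1⟩
      · simpa only [Set.mem_insert_iff, Set.mem_singleton_iff, not_or] using ⟨f.ne.symm, f.w_ne_t.symm, ne _ ht.1.1⟩)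
  obtain ⟨g, -, rfl⟩ := u1
  obtain ⟨g', -, e⟩ := w1
  have h6 : g⁻¹ * w * g ∈ C1[t] := by
    rcases h5.ge (show g⁻¹ * w * g ∈ O from ⟨g⁻¹ * g', trivial, by rw [← e]; group⟩) with e | e | e | e | e <;> rw [e]
    exacts [mem_C1.2 rfl, f.v_mem, f.alt.v_mem, f'.v_mem, f'.alt.v_mem]
  have h7 : w * (g * t * g⁻¹) = g * t * g⁻¹ * w := by
    calc _ = g * (g⁻¹ * w * g * t) * g⁻¹ := by group
      _ = _ := by rw [mem_C1.1 h6]; group
  refine wS (hS.mem_of_norm (isPGroup_sq hw.2) (conj_eq_iff_mem_normalizer.1 (h.r1 _ _ (hS.conj w) hS t _ tc t1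
    ⟨?_, ht.1.1⟩ ⟨?_, hu.1.1⟩ hu.2 f.v_ne f.ne f.comm)))
  · simpa [f'.comm] using conj_mem_conj ht.1.1 w
  · have := conj_mem_conj hu.1.1 w
    rwa [h7, mul_inv_cancel_right] at this

end Amb

/-- the list -/
def L85 (G : Type*) [Group G] : Prop :=
  Big.IsBender G ∨ (∃ q, (q % 8 = 3 ∨ q % 8 = 5) ∧ 5 < q ∧ Big.IsoPSL2 G q) ∨ IsJ1 G

theorem exists_ne_syl {S : Subgroup G} (hS : Syl S) (h : N[S] ≠ ⊤) : ∃ T, Syl T ∧ S ≠ T := by
  by_contra! hh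
  exact h (eq_top_iff.2 fun g _ => conj_eq_iff_mem_normalizer.1 (hh _ (hS.conj g)).symm)

theorem R1c.amb [IsSimpleGroup G] (hG : ¬ IsMulCommutative G) (h : R1c G) : Amb G :=
  ⟨h, Suz.oddCore_eq_bot_of_simple (even_iff_two_dvd.2 (Big.two_dvd_card_of_simple hG)), fun t ht _ =>
    mem_bot.1 (pg_center_eq_bot_of_simple hG ▸ mem_center_iff.2 ht)⟩

theorem R1c.simple [IsSimpleGroup G] (hG : ¬ IsMulCommutative G) (h : R1c G) : L85 G := by
  obtain ⟨S⟩ : Nonempty (Sylow 2 G) := inferInstance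
  have hS : Syl (S : Subgroup G) := IsSylowIn.of_sylow_top S
  have a := h.amb hG
  obtain ⟨h1, h2⟩ := Big.normalizer_sylow_ne_top hG hS
  by_cases hu : ∀ z ∈ oz (S : Subgroup G), z ≠ 1 → UniqSyl z
  · obtain ⟨D, z⟩ := a.zh hS h1 hu
    obtain ⟨T, hT, hne⟩ := exists_ne_syl hS h2
    exact Or.inl (Big.bender_suzuki hG (z.se (zd2 z) (((inferInstance : (kS G).Normal).eq_bot_or_eq_top).resolve_right
      fun e => h2 (eq_top_iff.2 fun g hg => e.ge hg _ hS)) hS hT hne))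
  push Not at hu
  obtain ⟨t, ht, t1, hu⟩ := hu
  by_cases h3 : PRankLE 2 2 G
  · rcases Big.rank_two_central hG S (a.not_cyclic hS ht t1) h3 with h4 | h4
    · obtain ⟨q, h5, h6, F, _, _, hF, ⟨e⟩⟩ := Big.psl2_of_card_four hG S h4
      refine Or.inr (Or.inl ⟨q, h5, lt_of_le_of_ne h6 fun e1 => a.ne_sixty hS h4 ht t1 hu ?_, F, _, _, hF, ⟨e⟩⟩)
      have := Big.card_psl2_odd (F := F) (by rw [hF, ← e1]; decide)
      rw [← Nat.card_congr e.toEquiv, hF, ← e1] at this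
      omega
    · exact Or.inl (Or.inr (Or.inr ⟨2, le_rfl, h4⟩))
  · rcases (a.main3 hS h3 ht t1 hu).2.2 with ⟨M, hM⟩ | h4
    · exact Or.inl (Big.bender_suzuki hG hM)
    · exact Or.inr (Or.inr (Big.janko_order (sm_index_ne_two hG) ⟨ci_orderOf t1 ht.2, S, ht.1.1,
        fun x hx => oz_comm ht hx⟩ h4))

end Cfsg.Lib.R1
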