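import Cfsg.Agent.Lib.R1.Rk1

/-!
Groups with a central involution `t` in which all other involutions lie in a unique Sylow 2-subgroup:
the case `|O₂(G)| ≥ 4`.
-/

set_option autoImplicit false
set_option linter.unusedSectionVars false
set_option linter.unusedVariables false

namespace Cfsg.Lib.R1
open Subgroup Cfsg.Lib Cfsg.Lib.FT

variable {G X : Type*} [Group G] [Finite G] [Group X] [Finite X]

theorem U1.isCyclic {A : Subgroup G} (h : U1 A) (h2 : IsPGroup 2 A) (hc : A ≤ C[A]) : IsCyclic A := by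
  refine (pg_two_group_unique_involution h2 h.sub).resolve_right fun ⟨m, a, b, hm, _, h3, _, _, _, h7⟩ => ?_
  rw [show b * a = a * b from Subtype.ext (mem_centralizer_iff.1 (hc a.2) b b.2), mul_inv_cancel_right,
    eq_inv_iff_mul_eq_one, ← sq] at h7
  have := Nat.le_of_dvd two_pos (h3 ▸ orderOf_dvd_of_pow_eq_one h7)
  have := Nat.pow_le_pow_right two_pos (Nat.succ_le_succ hm)
  omega

/-- the quotient by `T = F(G)` -/
structure P1 (t : G) (T : Subgroup G) (f : G →* X) : Prop extends UH t where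
  sur : Function.Surjective f
  ker : f.ker = T
  fit : fittingSubgroup G = T
  two : IsPGroup 2 T
  u1 : ∀ x ∈ T, x * x = 1 → x = 1 ∨ x = t
  tT : t ∈ T

namespace P1

variable {t : G} {T : Subgroup G} {f : G →* X} (h : P1 t T f)
include h

theorem normal : T.Normal := h.ker ▸ inferInstance

theorem eq_one {x : G} : f x = 1 ↔ x ∈ T := h.ker ▸ Iff.rfl

theorem kS : f.ker ≤ kS G := le_kS_of_normal (h.ker ▸ h.two)

theorem U1 : U1 T := fun x hx y hy x2 y2 => by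
  rw [(h.u1 x hx (ci_mul_self x2)).resolve_left (ne_one_of_orderOf_two x2),
    (h.u1 y hy (ci_mul_self y2)).resolve_left (ne_one_of_orderOf_two y2)]

theorem split {v : G} (h1 : v * v = 1) (h2 : f v ≠ 1) : UniqSyl (f v) :=
  uniq_map h.sur h.kS (isPGroup_sq h1) (h.uq v h1 (fun e => h2 (by rw [e, map_one]))
    fun e => h2 (h.eq_one.2 (e ▸ h.tT)))

theorem cs {c : G} (hc : c ∈ C[T]) (h1 : f c ∈ solvRad X) : f c = 1 := by
  have := h.normal
  refine h.eq_one.2 (h.fit.le (le_fitting_of_isSolvable_of_le_centralizer (N := C[T] ⊓ (solvRad X).comap f)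
    (Normal.isSubnormal inferInstance) (isSolvable_of_le inf_le_right (isSolvable_comap f _
      (isSolvable_of_isPGroup (h.ker ▸ h.two)) inferInstance)) (h.fit ▸ inf_le_left) ⟨hc, h1⟩))

theorem sq_mul {c e : G} (hc : c ∈ C[T]) (he : e ∈ C[T]) (h1 : f c * f c = 1) (h2 : f c * f e = f e * f c) :
    c * e = e * c ∨ c * e = t * (e * c) := by
  have h3 : c * e * (e * c)⁻¹ ∈ T := h.eq_one.1 (by rw [map_mul, map_inv, map_mul, map_mul, h2, mul_inv_cancel])
  have h4 := mem_centralizer_iff.1 he _ (h.eq_one.1 (map_mul f c c ▸ h1))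
  have h5 := mem_centralizer_iff.1 hc _ h3
  obtain ⟨k, hk⟩ : ∃ k, c * e * (e * c)⁻¹ = k := ⟨_, rfl⟩
  rw [hk] at h3 h5
  rw [mul_inv_eq_iff_eq_mul] at hk
  refine (h.u1 k h3 (mul_right_cancel (b := e * c * c) ?_)).imp (fun e1 => by rw [hk, e1, one_mul]) fun e1 => by rw [hk, e1]
  calc _ = k * (k * (e * c)) * c := by group
    _ = c * (k * (e * c)) := by rw [← hk, ← mul_assoc k, h5, hk]; group
    _ = _ := by rw [← hk, ← mul_assoc, h4]; group

/-- `⟨t⟩ Z(T)²` -/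
def B : Subgroup G where
  carrier := {y | ∃ a ∈ T ⊓ C[T], y = a * a ∨ y = t * (a * a)}
  one_mem' := ⟨1, one_mem _, Or.inl (one_mul 1).symm⟩
  mul_mem' := by
    rintro _ _ ⟨a, ha, e1⟩ ⟨b, hb, e2⟩
    have h1 : a * a * (b * b) = a * b * (a * b) := by
      rw [mul_assoc a b, ← mul_assoc b, mem_centralizer_iff.1 ha.2 b hb.1]; group
    refine ⟨a * b, mul_mem ha hb, ?_⟩
    rcases e1 with rfl | rfl <;> rcases e2 with rfl | rfl
    · exact Or.inl h1
    · exact Or.inr (by rw [← mul_assoc, h.cen, mul_assoc, h1])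
    · exact Or.inr (by rw [mul_assoc, h1])
    · exact Or.inl (by rw [mul_assoc, ← mul_assoc (a * a), h.cen, mul_assoc, cl h.tt, h1])
  inv_mem' := by
    rintro _ ⟨a, ha, e1⟩
    refine ⟨a⁻¹, inv_mem ha, e1.imp (fun e => by rw [e, mul_inv_rev]) fun e => ?_⟩
    rw [e, mul_inv_rev, inv_eq h.tt, h.cen, mul_inv_rev]

theorem B_normal : h.B.Normal := ⟨fun _ ⟨a, ha, e⟩ g =>
  have := h.normal
  ⟨g * a * g⁻¹, Normal.conj_mem inferInstance a ha g, e.imp (fun e => by rw [e]; group) fun e => by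
    rw [e, ← mul_assoc, h.cen]; group⟩⟩

theorem t_B : t ∈ h.B := ⟨1, one_mem _, Or.inr (by group)⟩

theorem sq_B {c e : G} (hc : c ∈ C[T]) (he : e ∈ C[T]) (h1 : f c * f c = 1) (h2 : f c * f e = f e * f c)
    (h3 : c * c * (e * e) ∈ h.B) : c * e * (c * e) ∈ h.B := by
  rcases h.sq_mul hc he h1 h2 with e1 | e1
  · rwa [mul_assoc, ← mul_assoc e, ← e1, mul_assoc, ← mul_assoc]
  · have : e * c = t * (c * e) := by rw [e1, cl h.tt]
    rw [mul_assoc, ← mul_assoc e, this, mul_assoc, ← mul_assoc, h.cen, mul_assoc, mul_assoc, ← mul_assoc c]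
    exact mul_mem h.t_B h3

theorem mul_B {y z : G} (hy : y ∈ T ⊓ C[T]) (hz : z ∈ T ⊓ C[T]) (h1 : y ∉ h.B) (h2 : z ∉ h.B) : y * z ∈ h.B := by
  obtain ⟨a, ha⟩ := (U1.isCyclic (A := T ⊓ C[T]) (fun x hx y hy => h.U1 x hx.1 y hy.1) h.two.to_inf_left
    (inf_le_right.trans (centralizer_mono inf_le_left))).exists_zpow_surjective
  have key : ∀ k : ℤ, Even k → ((a ^ k : ↥(T ⊓ C[T])) : G) ∈ h.B := fun _ ⟨j, e⟩ =>
    ⟨_, (a ^ j).2, Or.inl (by rw [e, zpow_add]; rfl)⟩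
  obtain ⟨i, hi⟩ := ha ⟨y, hy⟩
  obtain ⟨j, hj⟩ := ha ⟨z, hz⟩
  have := key (i + j) (Int.even_add.2 (iff_of_false (fun e => h1 (by simpa only [hi] using key i e))
    fun e => h2 (by simpa only [hj] using key j e)))
  rwa [zpow_add, show a ^ i = _ from hi, show a ^ j = _ from hj] at this

theorem split_B {d : G} (hd : d ∈ T) (dd : d * d = t) {c : G} (hc : c ∈ C[T]) (h1 : c * c ∈ h.B) (h2 : f c ≠ 1) :
    UniqSyl (f c) := by
  obtain ⟨a, ha, e⟩ := h1
  obtain ⟨x, hx, e1⟩ : ∃ x ∈ T, c * c * (x * x) = 1 := by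
    rcases e with e | e
    · exact ⟨a⁻¹, inv_mem ha.1, by rw [e]; group⟩
    · refine ⟨d * a⁻¹, mul_mem hd (inv_mem ha.1), ?_⟩
      rw [e, mul_assoc d, ← mul_assoc a⁻¹, ← mem_centralizer_iff.1 (inv_mem ha.2) d hd, mul_assoc d, ← mul_assoc d, dd,
        mul_assoc, ← mul_assoc (a * a), h.cen, mul_assoc, cl h.tt]; group
  have e2 : f (c * x) = f c := by rw [map_mul, h.eq_one.2 hx, mul_one]
  exact e2 ▸ h.split (by rw [mul_assoc, ← mul_assoc x, mem_centralizer_iff.1 hc x hx, ← e1]; group) (e2 ▸ h2)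

theorem big (hns : ¬ Group.IsSolvable G) {d : G} (hd : d ∈ T) (dd : d * d = t) :
    ∃ D : Set X, ZH D ∧ D ⊆ C[T].map f := by
  have := h.normal
  have := h.B_normal
  have : (C[T].map f).Normal := Normal.map inferInstance f h.sur
  obtain ⟨S, hS⟩ := exists_isSylowIn 2 (⊤ : Subgroup X)
  let U : Subgroup X :=
    { carrier := {x | x ∈ oz S ∧ ∃ c ∈ C[T], f c = x ∧ c * c ∈ h.B}
      one_mem' := ⟨one_mem _, 1, one_mem _, map_one f, by simp⟩
      mul_mem' := by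
        rintro _ _ ⟨h1, c, hc, rfl, h2⟩ ⟨h3, e, he, rfl, h4⟩
        exact ⟨mul_mem h1 h3, c * e, mul_mem hc he, map_mul f c e,
          h.sq_B hc he h1.2 (oz_comm h3 h1.1.1) (mul_mem h2 h4)⟩
      inv_mem' := by
        rintro _ ⟨h1, c, hc, rfl, h2⟩
        exact ⟨inv_mem h1, c⁻¹, inv_mem hc, map_inv f c, mul_inv_rev c c ▸ inv_mem h2⟩ }
  rcases zh_or_bot (U := U) hS (fun x hx => hx.1) (fun m hm => mem_normalizer_fintype (by
      rintro _ ⟨h1, c, hc, rfl, h2⟩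
      obtain ⟨m, rfl⟩ := h.sur m
      exact ⟨(mem_normalizer_iff.1 (N_le_oz S hm) _).1 h1, _, Normal.conj_mem inferInstance c hc m, by simp,
        by rw [conj_mul]; exact Normal.conj_mem inferInstance _ h2 m⟩))
    (by rintro _ ⟨-, c, hc, rfl, h2⟩ h3; exact h.split_B hd dd hc h2 h3)
    (by rintro _ ⟨-, c, hc, rfl, h2⟩ h3; exact h.cs hc (mem_solvRad_of_inZStar h3)) with hU | ⟨D, hD, h1⟩
  swap
  · refine ⟨D, hD, fun x hx => ?_⟩
    obtain ⟨P, hP, h2⟩ := hD.exists_pt hx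
    obtain ⟨g, rfl⟩ := Syl.exists_conj' hS hP
    obtain ⟨⟨-, c, hc, e⟩, -⟩ := (h1 _).1 ⟨hD.conj' hx g, mem_map_conj.1 h2⟩
    exact mem_of_mem_of_eq (this.conj_mem _ ⟨c, hc, e.1⟩ g) (by group)
  exfalso
  obtain ⟨_, ⟨z1, z, hz, rfl⟩, z2, z3⟩ := pg_exists_fixed_of_order_p (H := S ⊓ C[T].map f) hS.isPGroup.to_inf_left
    hS.isPGroup (le_normalizer_inf le_normalizer le_normalizer_of_normal) fun e => by
      have h1 := (hS.inf_of_le_normalizer (N := C[T].map f) le_top le_normalizer_of_normal).not_dvd_relIndex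
      rw [e, relIndex_bot_left] at h1
      exact hns (h.U1.solv h.two (isSolvable_of_le (fun c hc => h.eq_one.1 (h.cs hc (le_solvRad this
        (isSolvable_of_not_two_dvd h1) (mem_map_of_mem f hc)))) (isSolvable_of_isPGroup h.two)))
  have zz : f z ∈ oz S := ⟨⟨z1, z3⟩, ci_mul_self z2⟩
  have z4 : z * z ∉ h.B := fun e => ne_one_of_orderOf_two z2 (hU.le ⟨zz, z, hz, rfl, e⟩)
  have key : ∀ g, f g * f z * (f g)⁻¹ ∈ S → g * z * g⁻¹ * z * (g * z * g⁻¹ * z) ∈ h.B := fun g hg => by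
    have h1 : z * z ∈ T ⊓ C[T] := ⟨h.eq_one.1 (map_mul f z z ▸ zz.2), mul_mem hz hz⟩
    refine h.sq_B (Normal.conj_mem inferInstance z hz g) hz (by simp [zz.2]) (by simpa using oz_comm zz hg) ?_
    rw [conj_mul]
    exact h.mul_B (Normal.conj_mem inferInstance _ h1 g) h1 (fun e => z4 (by simpa [mul_assoc] using Normal.conj_mem' ‹_› _ e g)) z4
  obtain ⟨g, h1, h2⟩ := exists_conj_ne hS zz fun e => ne_one_of_orderOf_two z2 (h.cs hz (mem_solvRad_of_inZStar e))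
  obtain ⟨g, rfl⟩ := h.sur g
  have h3 : ∀ g, f (g * z * g⁻¹ * z) = 1 → f g * f z * (f g)⁻¹ = f z := fun g e =>
    mul_right_cancel (b := f z) (by simpa [zz.2] using e)
  refine h2 (conj_eq_of_uniq hS zz (fun m hm => ?_) (mul_mem h1 z1) (by
    simpa using h.split_B hd dd (mul_mem (Normal.conj_mem inferInstance z hz g) hz) (key g h1) (mt (h3 g) h2))
    (by rw [mul_assoc _ (f z) (_ * _), ← oz_comm zz h1]))
  obtain ⟨m, rfl⟩ := h.sur m
  have h4 := (mem_normalizer_iff.1 (N_le_oz S hm) _).1 zz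
  exact h3 m (hU.le ⟨by simpa using mul_mem h4 zz, _, mul_mem (Normal.conj_mem inferInstance z hz m) hz, rfl,
    key m h4.1.1⟩)

end P1

end Cfsg.Lib.R1
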