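import Cfsg.Agent.Lib.R1.P3
import Cfsg.Agent.Lib.Cor.S3322

/-!
The case `O₂(G) = ⟨t⟩`: the Sylow 2-subgroups of `G/⟨t⟩` are elementary abelian.
-/

set_option autoImplicit false
set_option linter.unusedSectionVars false
set_option linter.unusedVariables false

namespace Cfsg.Lib.R1
open Subgroup Cfsg.Lib Cfsg.Lib.FT

variable {G X : Type*} [Group G] [Finite G] [Group X] [Finite X]

namespace P1

variable {t : G} {f : G →* X} (h : P1 t (zpowers t) f)
include h

theorem one {x : G} : f x = 1 ↔ x = 1 ∨ x = t := h.eq_one.trans (GW.mem_zpowers_two h.tt)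

theorem memC (x : G) : x ∈ C[zpowers t] := by rw [centralizer_zpowers]; exact mem_C1.2 (h.cen x)

theorem sr : solvRad X = ⊥ := eq_bot_iff.2 fun x hx => by
  obtain ⟨x, rfl⟩ := h.sur x
  exact h.cs (h.memC x) hx

theorem comm {c e : G} (h1 : f c * f c = 1) (h2 : f c * f e = f e * f c) : c * e = e * c ∨ c * e = t * (e * c) :=
  h.sq_mul (h.memC c) (h.memC e) h1 h2

theorem sq_t {P : Subgroup X} (hP : ∀ x, f x ∈ P → x * x = 1 → f x = 1) {r : G} (hr : f r ∈ P)
    (r2 : orderOf (f r) = 2) : r * r = t :=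
  (h.one.1 (map_mul f r r ▸ ci_mul_self r2)).resolve_left fun e => ne_one_of_orderOf_two r2 (hP r hr e)

theorem anti {r u : G} (rr : r * r = t) (uu : u * u = t) (ru : r * u * (r * u) = t) : u * r = t * (r * u) := by
  refine mul_left_cancel (a := r) (mul_right_cancel (b := u) ?_)
  rw [← mul_assoc, mul_assoc, ru, ← mul_assoc, h.cen, mul_assoc t, mul_assoc t, ← mul_assoc r, rr, mul_assoc, uu, cl h.tt]

theorem mem_four {P : Subgroup X} (h2 : IsPGroup 2 P) (hP : ∀ x, f x ∈ P → x * x = 1 → f x = 1) {r u : G}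
    (F : GW.Four (f r) (f u)) (rP : f r ∈ P) (uP : f u ∈ P) {y : X} (hy : y ∈ P) (h3 : f r * y = y * f r)
    (h4 : f u * y = y * f u) : y ∈ GW.four (f r) (f u) := by
  have rr := h.sq_t hP rP F.ht
  have uu := h.sq_t hP uP F.hv
  have ru := h.sq_t hP (r := r * u) (map_mul f r u ▸ mul_mem rP uP) (map_mul f r u ▸ F.hw)
  have ur' := h.anti rr uu ru
  have ru' : r * u = t * (u * r) := by rw [ur', cl h.tt]
  obtain ⟨y, rfl⟩ := h.sur y
  have key : ∀ q ∈ P.comap f, f q ∈ GW.four (f r) (f u) → r * (y * q) = y * q * r →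
      u * (y * q) = y * q * u → f y ∈ GW.four (f r) (f u) := fun q hq h1 h5 h6 => by
    have := h.one.2 (q8_cent (h2.comap_of_ker_isPGroup f (h.ker ▸ h.two)) (fun x hx e => h.one.1 (hP x hx e)) h.tt h.t1
      rP rr uu ru (mul_mem hy hq) h5.symm h6.symm)
    rw [map_mul, mul_eq_one_iff_eq_inv] at this
    exact this ▸ inv_mem h1
  rcases h.comm F.tt h3 with e1 | e1 <;> rcases h.comm F.vv h4 with e2 | e2
  · exact key 1 (one_mem _) (by simp) (by simp [e1]) (by simp [e2])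
  · exact key r rP (GW.left_mem_four _ _) (by rw [← mul_assoc, e1])
      (by rw [← mul_assoc, e2, mul_assoc y, ru', ← mul_assoc y, h.cen]; group)
  · exact key u uP (GW.right_mem_four _ _) (by rw [← mul_assoc, e1, mul_assoc y, ur', ← mul_assoc y, h.cen]; group)
      (by rw [← mul_assoc, e2])
  · refine key (r * u) (mul_mem rP uP) (map_mul f r u ▸ mul_mem (GW.left_mem_four _ _) (GW.right_mem_four _ _)) ?_ ?_
    · rw [← mul_assoc, e1, mul_assoc y, mul_assoc r, ur', ← mul_assoc r, h.cen, mul_assoc t r, ← mul_assoc y, h.cen]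
      group
    · rw [← mul_assoc, e2, mul_assoc t, mul_assoc y, ← mul_assoc u, ur', mul_assoc t, ← mul_assoc y, h.cen y, mul_assoc t,
        cl h.tt]
      group

/-- a 2-central involution of `G/⟨t⟩` fixed by the normalizer of a Sylow 2-subgroup is split -/
theorem fixed {S : Subgroup X} (hS : Syl S) {v r : G} (hv : f v ∈ S) (v2 : v * v = 1) (v1 : f v ≠ 1)
    (hr : f r ∈ oz S) (rr : r * r = t) (hf : ∀ m ∈ N[S], m * f r * m⁻¹ = f r) : False := by
  have r1 : f r ≠ 1 := fun e => h.t1 (by rcases h.one.1 e with rfl | rfl; exacts [by rw [← rr, one_mul], rr.symm.trans h.tt])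
  obtain ⟨g, uS, ur⟩ := exists_conj_ne hS hr fun e => r1 (h.sr.le (mem_solvRad_of_inZStar e))
  obtain ⟨g, rfl⟩ := h.sur g
  have hB : ∀ w ∈ S, UniqSyl w → f (g * r * g⁻¹) * w ≠ w * f (g * r * g⁻¹) := fun w hw h1 e =>
    ur (conj_eq_of_uniq hS hr hf hw h1 (by simpa using e))
  have uu : g * r * g⁻¹ * (g * r * g⁻¹) = t := by rw [conj_mul, rr, h.cen, mul_inv_cancel_right]
  rw [← map_inv, ← map_mul, ← map_mul] at uS ur
  generalize g * r * g⁻¹ = u at *
  have u2 : f u * f u = 1 := by rw [← map_mul, uu, h.one.2 (Or.inr rfl)]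
  have F : GW.Four (f r) (f u) := ⟨ci_orderOf r1 hr.2, ci_orderOf (fun e => hB _ hv (h.split v2 v1) (by simp [e])) u2,
    ur, oz_comm hr uS⟩
  have hP : ∀ x, f x ∈ S ⊓ C1[f u] → x * x = 1 → f x = 1 := fun x hx e => by_contra fun e1 =>
    hB _ hx.1 (h.split e e1) (mem_C1.1 hx.2).symm
  have rP : f r ∈ S ⊓ C1[f u] := ⟨hr.1.1, F.t_mem⟩
  have uP : f u ∈ S ⊓ C1[f u] := ⟨uS, mem_C1.2 rfl⟩
  have ur' := h.anti rr uu (h.sq_t hP (r := r * u) (map_mul f r u ▸ mul_mem rP uP) (map_mul f r u ▸ F.hw))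
  have hC : ∀ y ∈ S ⊓ C1[f u], y ∈ GW.four (f r) (f u) := fun y hy =>
    h.mem_four hS.isPGroup.to_inf_left hP F rP uP hy (oz_comm hr hy.1).symm (mem_C1.1 hy.2).symm
  have vu := h.split v2 v1
  have vr : f v ≠ f r := fun e => hB _ hv vu (e ▸ F.comm)
  have F' : GW.Four (⟨f r, hr.1.1⟩ : S) ⟨f u, uS⟩ := four_coe.1 F
  have hC' : C1[(⟨f u, uS⟩ : S)] = GW.four (⟨f r, hr.1.1⟩ : S) ⟨f u, uS⟩ := le_antisymm (fun y hy => by
    simpa only [F.mem_four, F'.mem_four, Subtype.ext_iff, coe_one, coe_mul] using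
      hC y ⟨y.2, mem_C1.2 (congrArg Subtype.val (mem_C1.1 hy))⟩) (F'.le_c.trans inf_le_right)
  obtain ⟨a, h1, h2 | ⟨z, -, -, h2, -⟩⟩ := Cor.dc_pgroup hS.isPGroup F'.hv (hC' ▸ F'.card) fun e =>
    hB _ hv vu (congrArg Subtype.val (mem_C1.1 ((eq_top_of_card_eq _ (by rw [hC', F'.card, e])).ge
      (mem_top (⟨_, hv⟩ : S))))).symm
  swap
  · have h3 := (h2 _ F'.ht).resolve_right fun e => by
      obtain ⟨c, e⟩ := isConj_iff.1 e
      exact ur (by rw [← show (c : X) * f r * (c : X)⁻¹ = f u from congrArg Subtype.val e, oz_comm hr c.2,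
        mul_inv_cancel_right])
    rcases h2 ⟨_, hv⟩ (by rw [← orderOf_coe]; exact ci_orderOf v1 (by rw [← map_mul, v2, map_one])) with e | e
    · exact vr (congrArg Subtype.val (e.trans h3.symm))
    · obtain ⟨c, e⟩ := isConj_iff.1 e
      have e1 : (c : X) * f v * (c : X)⁻¹ = f u := congrArg Subtype.val e
      exact hB _ uS (e1 ▸ vu.conj _) rfl
  have h3 : (⟨f r, hr.1.1⟩ : S) ∈ zpowers a := by_contra fun e => by
    have h4 : ∀ x : S, x * x = 1 := fun x => by_contra fun e1 => by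
      have hx : x ∈ zpowers a := by_contra fun e2 => e1 (h2 x e2)
      have := h2 (x * ⟨f r, hr.1.1⟩) fun e2 => e ((mul_mem_cancel_left hx).1 e2)
      rw [mul_assoc, ← mul_assoc _ x, ← show x * _ = _ * x from Subtype.ext (oz_comm hr x.2), mul_assoc, F'.tt,
        mul_one] at this
      exact e1 this
    have := h4 (⟨_, uS⟩ * ⟨_, hv⟩)
    rw [← eq_inv_iff_mul_eq_one, mul_inv_rev, inv_eq (h4 _), inv_eq (h4 _)] at this
    exact hB _ hv vu (congrArg Subtype.val this)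
  have h4 : ∀ w : S, w * w = 1 → w ∈ zpowers a → (w : X) = 1 ∨ (w : X) = f r := fun w h5 h6 =>
    or_iff_not_imp_left.2 fun e => congrArg Subtype.val (ci_invol_eq inferInstance h6 h3
      (ci_orderOf (fun e1 => e (congrArg Subtype.val e1)) h5) F'.ht)
  have h5 : (⟨f v, hv⟩ : S) ∉ zpowers a := fun e =>
    (h4 _ (Subtype.ext (by rw [coe_mul, ← map_mul, v2, map_one, coe_one])) e).elim v1 vr
  have h6 : v * r * (v * r) = 1 := by
    obtain ⟨b, hb⟩ := h.sur a
    have key : ∀ x (hx : f x ∈ S), (⟨f x, hx⟩ : S) ∈ zpowers a → x ∈ zpowers b ⊔ zpowers t := fun x hx ⟨k, e⟩ => by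
      have := h.eq_one.1 (show f ((b ^ k)⁻¹ * x) = 1 by
        rw [map_mul, map_inv, map_zpow, hb, inv_mul_eq_one]; exact congrArg Subtype.val e)
      simpa using mul_mem (mem_sup_left (zpow_mem (mem_zpowers b) k)) (mem_sup_right this)
    have h7 : ∀ x ∈ zpowers b ⊔ zpowers t, x ∈ C1[b] := fun x hx =>
      sup_le (zpowers_le.2 (mem_C1.2 rfl)) (zpowers_le.2 (mem_C1.2 (h.cen b).symm)) hx
    have h8 := mem_C1.1 (sup_le (zpowers_le.2 (GW.mem_c1_symm (h7 r (key r _ h3)))) (zpowers_le.2 (mem_C1.2 (h.cen r).symm))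
      (key (v * u) (map_mul f v u ▸ mul_mem hv uS) (by
        simp only [map_mul]
        exact h1 _ h5 ⟨_, uS⟩ fun e => (h4 _ F'.vv e).elim F.v_ne ur)))
    rw [mul_assoc, ur', ← mul_assoc v, h.cen, mul_assoc, ← mul_assoc v, ← mul_assoc, ← mul_assoc r,
      mul_right_cancel_iff] at h8
    rw [mul_assoc, ← mul_assoc r, ← h8, mul_assoc t, ← mul_assoc v, h.cen, mul_assoc t, mul_assoc v, cl v2, rr, h.tt]
  refine r1 (h.sr.le (fitting_le_solvRad (inf_centralizer_le_fitting (normalClosure {f r})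
    ⟨subset_normalClosure rfl, GW.le_c1_iff.1 ((closure_le _).2 fun x hx => ?_)⟩)))
  obtain ⟨_, rfl, e⟩ := Group.mem_conjugatesOfSet_iff.1 hx
  obtain ⟨c, rfl⟩ := isConj_iff.1 e
  have v3 : f v * f v = 1 := by rw [← map_mul, v2, map_one]
  have r3 : c * f r * c⁻¹ * (c * f r * c⁻¹) = 1 := by rw [conj_mul, hr.2]; simp
  by_cases ho : Odd (orderOf (f v * (c * f r * c⁻¹)))
  · obtain ⟨k, w, e0, e1, -⟩ := dih_odd v3 r3 ho
    have := vu.conj (c⁻¹ * w)
    rw [mul_inv_rev, inv_eq (a := w) (by rw [e0, conj_mul, v3]; simp), show c⁻¹ * w * f v * (w * c⁻¹⁻¹) =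
      c⁻¹ * (w * f v * w) * c by group, e1] at this
    exact (hB _ hr.1.1 (by simpa [mul_assoc] using this) F.comm).elim
  obtain ⟨w, w2, w1, e1, e2, -⟩ := dih_even v3 r3 ho
  have wS := uniq_mem hS vu hv w2 e1
  have key : UniqSyl w → c * f r * c⁻¹ ∈ C1[f r] := fun e => mem_C1.2 (oz_comm hr (uniq_mem hS e wS r3 e2.symm))
  by_cases h7 : (⟨w, wS⟩ : S) ∈ zpowers a
  · exact mem_C1.2 ((h4 _ (Subtype.ext w2) h7).resolve_left w1 ▸ e2.symm)
  rcases h4 _ (Subtype.ext (by rw [coe_mul, coe_mul, mul_assoc, ← mul_assoc w, e1, mul_assoc, w2, mul_one, v3, coe_one]))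
    (h1 _ h5 _ h7) with e | e
  · exact key (by rwa [← inv_eq v3, ← eq_inv_iff_mul_eq_one.2 (mul_eq_one_comm.1 e)] at vu)
  · have e3 : w = f (v * r) := by rw [map_mul, ← e, coe_mul, cl v3]
    exact key (e3 ▸ h.split h6 (e3 ▸ w1))

theorem elem {S : Subgroup X} (hS : Syl S) {v : G} (hv : f v ∈ S) (v2 : v * v = 1) (v1 : f v ≠ 1) :
    (∃ D : Set X, ZH D) ∨ ∀ s ∈ S, s * s = 1 := by
  have hN : ∀ m, f m ∈ N[S] → m ∈ N[(oz S).comap f] := fun m hm => le_normalizer_comap f (N_le_oz S hm)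
  refine (zh_or_bot (U := (oz ((oz S).comap f)).map f) hS (map_le_iff_le_comap.2 fun x hx => hx.1.1)
    (fun m hm => by
      obtain ⟨m, rfl⟩ := h.sur m
      exact le_normalizer_map f (mem_map_of_mem f (N_le_oz _ (hN m hm))))
    (by rintro _ ⟨x, hx, rfl⟩ e; exact h.split hx.2 e)
    fun z _ e => h.sr.le (mem_solvRad_of_inZStar e)).symm.imp (fun ⟨D, hD, _⟩ => ⟨D, hD⟩) fun hU s hs => ?_
  have h1 : ∀ r ∈ (oz S).comap f ⊓ C[(oz S).comap f], f r = 1 := fun r hr => by_contra fun r1 => by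
    have key : ∀ r ∈ (oz S).comap f ⊓ C[(oz S).comap f], f r ≠ 1 → r * r = t := fun r hr r1 =>
      (h.one.1 (map_mul f r r ▸ hr.1.2)).resolve_left fun e => r1 (hU.le (mem_map_of_mem f ⟨hr, e⟩))
    refine h.fixed hS hv v2 v1 hr.1 (key r hr r1) fun m hm => ?_
    obtain ⟨m, rfl⟩ := h.sur m
    have h2 := (mem_normalizer_iff.1 (le_normalizer_inf le_rfl (normalizer_le_normalizer_centralizer _) (hN m hm)) r).1 hr
    have h3 := hU.le (mem_map_of_mem f (show m * r * m⁻¹ * r ∈ oz _ from ⟨mul_mem h2 hr, by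
      rw [mul_assoc, ← mul_assoc r, mem_centralizer_iff.1 h2.2 r hr.1, mul_assoc _ r r, key r hr r1, ← mul_assoc,
        key _ h2 (by simpa using r1), h.tt]⟩))
    exact mul_right_cancel (b := f r) (by simpa [hr.1.2] using h3)
  obtain ⟨s, rfl⟩ := h.sur s
  by_contra h2
  obtain ⟨_, ⟨z1, z, hz, rfl⟩, z2, z3⟩ := pg_exists_fixed_of_order_p (H := S ⊓ C[(oz S).comap f].map f)
    hS.isPGroup.to_inf_left hS.isPGroup (le_normalizer_inf le_normalizer fun m hm => by
      obtain ⟨m, rfl⟩ := h.sur m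
      exact le_normalizer_map f (mem_map_of_mem f (normalizer_le_normalizer_centralizer _ (hN m (le_normalizer hm)))))
    fun e => h2 (e.le ⟨mul_mem hs hs, s * s, mem_centralizer_iff.2 fun z hz => by
      rcases h.comm hz.2 (oz_comm hz hs).symm with e | e
      · rw [← mul_assoc, e, mul_assoc, e, mul_assoc]
      · rw [← mul_assoc, e, mul_assoc, mul_assoc, e, ← mul_assoc s, h.cen, mul_assoc, cl h.tt, mul_assoc], map_mul f s s⟩)
  exact ne_one_of_orderOf_two z2 (h1 z ⟨⟨⟨z1, z3⟩, ci_mul_self z2⟩, hz⟩)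

end P1

end Cfsg.Lib.R1
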