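import Cfsg.Agent.Lib.R1.P1

/-!
The case `|O₂(G)| ≥ 4`, continued.
-/

set_option autoImplicit false
set_option linter.unusedSectionVars false
set_option linter.unusedVariables false

namespace Cfsg.Lib.R1
open Subgroup Cfsg.Lib Cfsg.Lib.FT

variable {G X : Type*} [Group G] [Finite G] [Group X] [Finite X]

theorem mem_pCore_of_syl {x : G} (h : ∀ T, Syl T → x ∈ T) : x ∈ pCore 2 G := by
  obtain ⟨S, hS⟩ := exists_isSylowIn 2 (⊤ : Subgroup G)
  exact le_pCore inferInstance (hS.isPGroup.to_le S.normalCore_le) fun g => by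
    simpa using mem_map_conj.1 (h _ (Syl.conj hS g⁻¹))

theorem equiv_map (f : G →* X) {A : Subgroup G} (h : A ⊓ f.ker = ⊥) : Nonempty (A ≃* A.map f) :=
  ⟨.ofBijective (f.subgroupMap A) ⟨(injective_iff_map_eq_one _).2 fun x hx =>
    Subtype.ext (h.le ⟨x.2, congrArg Subtype.val hx⟩), f.subgroupMap_surjective _⟩⟩

theorem quot_comap_equiv' {f : G →* X} (hf : Function.Surjective f) {N : Subgroup G} (hk : f.ker = N) (L : Subgroup X)
    [(N.subgroupOf (L.comap f)).Normal] : Nonempty (L.comap f ⧸ N.subgroupOf (L.comap f) ≃* L) :=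
  ⟨(QuotientGroup.quotientMulEquivOfEq (by
    ext x
    exact ⟨fun h => Subtype.ext (hk.ge h), fun h => hk.le (congrArg Subtype.val h)⟩)).trans
    (QuotientGroup.quotientKerEquivOfSurjective _ (MonoidHom.subgroupComap_surjective_of_surjective _ L hf))⟩

theorem isBender_of_equiv (h : Big.IsBender X) (e : G ≃* X) : Big.IsBender G := by
  rcases h with ⟨n, h1, F, _, _, h2, ⟨f⟩⟩ | ⟨n, h1, F, _, _, h2, ⟨f⟩⟩ | ⟨n, h1, F, _, _, h2, ⟨f⟩⟩
  · exact Or.inl ⟨n, h1, F, _, _, h2, ⟨e.trans f⟩⟩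
  · exact Or.inr (Or.inl ⟨n, h1, F, _, _, h2, ⟨e.trans f⟩⟩)
  · exact Or.inr (Or.inr ⟨n, h1, F, _, _, h2, ⟨e.trans f⟩⟩)

theorem mem_of_odd_index {L : Subgroup G} [L.Normal] (h : Odd L.index) {x : G} (hx : x * x = 1) : x ∈ L :=
  (QuotientGroup.eq_one_iff x).1 (GW.eq_one_of_odd_of_mul_self (h.of_dvd_nat (orderOf_dvd_natCard _))
    (by rw [← QuotientGroup.mk_mul, hx, QuotientGroup.mk_one]))

theorem q8_cent {P : Subgroup G} (hP : IsPGroup 2 P) {t r u y : G} (hu : ∀ x ∈ P, x * x = 1 → x = 1 ∨ x = t)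
    (tt : t * t = 1) (t1 : t ≠ 1) (hr : r ∈ P) (rr : r * r = t) (uu : u * u = t) (ru : r * u * (r * u) = t)
    (hy : y ∈ P) (h1 : y * r = r * y) (h2 : y * u = u * y) : y = 1 ∨ y = t := by
  refine hu y hy (by_contra fun h3 => ?_)
  obtain ⟨x, hx, h4, h5⟩ := exists_order_four hP hy h3
  have hx1 := mem_C1.1 (zpowers_le.2 (mem_C1.2 h1) hx)
  have hx2 := mem_C1.1 (zpowers_le.2 (mem_C1.2 h2) hx)
  have hxP := zpowers_le.2 hy hx
  have h6 := (hu _ (mul_mem hxP hxP) h5).resolve_left h4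
  have h7 : x * r * u = u * (x * r) := by
    rcases hu _ (mul_mem hxP hr) (by rw [mul_assoc, ← mul_assoc r, ← hx1, mul_assoc, rr, ← mul_assoc, h6, tt]) with e | e
    · simp [e]
    · rw [e, ← uu, mul_assoc]
  rw [← mul_assoc, ← hx2, mul_assoc, mul_assoc, mul_left_cancel_iff] at h7
  rw [mul_assoc, ← mul_assoc u, ← h7, mul_assoc, uu, ← mul_assoc, rr, tt] at ru
  exact t1 ru.symm

namespace P1

variable {t : G} {T : Subgroup G} {f : G →* X} (h : P1 t T f)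
include h

theorem pCore_eq : pCore 2 X = ⊥ := eq_bot_iff.2 fun x hx => by
  obtain ⟨x, rfl⟩ := h.sur x
  exact h.eq_one.2 (h.fit.le (pCore_le_fitting 2 (le_pCore inferInstance
    (isPGroup_pCore.comap_of_ker_isPGroup f (h.ker ▸ h.two)) hx)))

theorem exists_ne (hns : ¬ Group.IsSolvable G) {S : Subgroup X} (hS : Syl S) : ∃ U, Syl U ∧ S ≠ U :=
  exists_ne_syl hS fun e => hns ((isSolvable_congr topEquiv).1 (comap_top f ▸ isSolvable_comap f ⊤
    (isSolvable_of_isPGroup (h.ker ▸ h.two)) (e ▸ hS.solv_N)))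

theorem bender (hns : ¬ Group.IsSolvable G) {D : Set X} (hD : ZH D) (hC : D ⊆ C[T].map f) :
    ∃ L : Subgroup X, L.Normal ∧ Odd L.index ∧ Big.IsBender L := by
  have := h.normal
  have : (C[T].map f).Normal := Normal.map inferInstance f h.sur
  obtain ⟨S, hS⟩ := exists_isSylowIn 2 (⊤ : Subgroup X)
  obtain ⟨U, hU, hne⟩ := h.exists_ne hns hS
  set π := QuotientGroup.mk' (R1.kS X)
  have hf : Function.Surjective π := QuotientGroup.mk'_surjective _
  have hk : π.ker = R1.kS X := QuotientGroup.ker_mk' _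
  have h' := hD.map hf hk.le hS hU hne
  obtain ⟨L, h1, h2, h3, h4, h5, -⟩ := Big.bender_normal (h'.oddCore_eq kS_quot) (not_pRankLE_of h')
    (h'.se (zd2 h') kS_quot (Syl.map hS hf) (hU.map hf) fun e => hne (Syl.eq_of_map hS hU hk.le e))
  have h6 : L ≤ (C[T].map f).map π := by
    obtain ⟨_, ⟨d, hd, rfl⟩, -⟩ := h'.two
    have := Normal.map this π hf
    refine subgroupOf_eq_top.1 ((Normal.eq_bot_or_eq_top inferInstance).resolve_left fun e => ?_)
    exact h'.ne _ ⟨d, hd, rfl⟩ (congrArg Subtype.val (e.le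
      (show ⟨_, mem_of_odd_index h5 (h'.sq _ ⟨d, hd, rfl⟩)⟩ ∈ _ from mem_map_of_mem π (hC hd))))
  have h7 : (C[T].map f ⊓ L.comap π).map π = L := le_antisymm (map_le_iff_le_comap.2 inf_le_right)
    fun x hx => let ⟨c, hc, e⟩ := h6 hx; ⟨c, ⟨hc, show π c ∈ L from e ▸ hx⟩, e⟩
  obtain ⟨e⟩ := equiv_map π (A := C[T].map f ⊓ L.comap π) (eq_bot_iff.2 (by
    rintro _ ⟨⟨⟨c, hc, rfl⟩, -⟩, h8⟩
    exact h.cs hc (le_solvRad inferInstance (isSolvable_of_le (fun x hx => hk.le hx S hS) (Syl.solv_N hS)) h8)))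
  refine ⟨_, inferInstance, ?_, isBender_of_equiv h4 (e.trans (MulEquiv.subgroupCongr h7))⟩
  rw [← relIndex_mul_index (le_sup_left (b := π.ker)), relIndex_sup_left, ← comap_map_eq, h7,
    index_comap_of_surjective _ hf]
  refine (Odd.of_dvd_nat (GW.odd_of_forall fun x hx x2 => ne_one_of_orderOf_two x2 (h.pCore_eq.le
    (mem_pCore_of_syl fun P hP => hP.mem_of_norm (isPGroup_sq (ci_mul_self x2)) (hk.le hx P hP))))
    (relIndex_dvd_card _ _)).mul h5

theorem rank3 (hns : ¬ Group.IsSolvable G) {D : Set X} (hD : ZH D) (hC : D ⊆ C[T].map f) (hT : ¬ IsCyclic T) :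
    ¬ PRankLE 2 2 G := fun h3 => by
  have := h.normal
  obtain ⟨i, hi, j, hj, ii, jj, ij⟩ : ∃ i ∈ T, ∃ j ∈ T, i * i = t ∧ j * j = t ∧ i * j * (i * j) = t := by
    obtain ⟨m, a, b, hm, -, h2, -, -, h6, h7⟩ := (pg_two_group_unique_involution h.two h.U1.sub).resolve_left hT
    obtain ⟨m, rfl⟩ := Nat.exists_eq_add_of_le' hm
    have h8 : ((a ^ 2 ^ (m + 1) : T) : G) = t := (h.u1 _ (a ^ _).2 (by
      rw [← coe_mul, ← sq, ← pow_mul, ← pow_succ, ← h2, pow_orderOf_eq_one, coe_one])).resolve_left fun e => by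
        have := Nat.le_of_dvd (by positivity) (h2 ▸ orderOf_dvd_of_pow_eq_one (Subtype.ext e))
        rw [pow_succ _ (m + 1)] at this
        have := Nat.two_pow_pos (m + 1)
        omega
    refine ⟨b, b.2, _, (a ^ 2 ^ m).2, by rw [← coe_mul, ← sq, h6, h8], by rw [← coe_mul, ← sq, ← pow_mul, ← pow_succ, h8],
      ?_⟩
    rw [← coe_mul, ← coe_mul, show b * a ^ 2 ^ m * (b * a ^ 2 ^ m) = b * a ^ 2 ^ m * b⁻¹ * b ^ 2 * a ^ 2 ^ m by group,
      ← conj_pow, h7, h6, ← h8]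
    congr 1
    group
  obtain ⟨S, hS⟩ := exists_isSylowIn 2 (⊤ : Subgroup X)
  obtain ⟨U, hU, hne⟩ := h.exists_ne hns hS
  obtain ⟨u, hu, uU, -⟩ := hD.exists_ne hU 1
  obtain ⟨u, uC, rfl⟩ := hC hu
  have hZ : ∀ y ∈ C[T], f y = 1 → y = 1 ∨ y = t := fun y hy e => q8_cent h.two h.u1 h.tt h.t1 hi ii jj ij
    (h.eq_one.1 e) (mem_centralizer_iff.1 hy i hi).symm (mem_centralizer_iff.1 hy j hj).symm
  have key : ∀ c ∈ C[T], f c ∈ D → f c ∈ S → c * c = u * u := fun c hc h1 h2 => by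
    obtain ⟨w, -, e, -⟩ := hD.swap h1 hu hS hU h2 uU hne
    obtain ⟨w, rfl⟩ := h.sur w
    have h4 : u * u = w * (c * c) * w⁻¹ := by
      rw [← conj_mul]
      rcases hZ (u * (w * c * w⁻¹)⁻¹) (mul_mem uC (inv_mem (Normal.conj_mem inferInstance c hc w))) (by simp [← e])
        with e1 | e1 <;> rw [mul_inv_eq_iff_eq_mul.1 e1]
      · rw [one_mul]
      · rw [mul_assoc, ← mul_assoc _ t, h.cen, mul_assoc, cl h.tt]
    rcases hZ (c * c) (mul_mem hc hc) (by rw [map_mul, hD.sq _ h1]) with e1 | e1 <;> rw [h4, e1]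
    · group
    · rw [h.cen, mul_inv_cancel_right]
  obtain ⟨d, hd, e, he, dS, eS, de⟩ := hD.exists_two hS
  obtain ⟨d, dC, rfl⟩ := hC hd
  obtain ⟨e, eC, rfl⟩ := hC he
  have h4 := key _ (mul_mem dC eC) (map_mul f d e ▸ hD.mul_mem' hd he hS dS eS de) (map_mul f d e ▸ mul_mem dS eS)
  obtain ⟨x, hx, y, hy, xx, yy, xy⟩ : ∃ x ∈ T, ∃ y ∈ T, u * u * (x * x) = 1 ∧ u * u * (y * y) = 1 ∧
      u * u * (x * y * (x * y)) = 1 := by
    rcases hZ (u * u) (mul_mem uC uC) (by rw [map_mul, hD.sq _ hu]) with e1 | e1 <;> rw [e1]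
    · exact ⟨1, one_mem _, 1, one_mem _, by simp⟩
    · exact ⟨i, hi, j, hj, by rw [ii, h.tt], by rw [jj, h.tt], by rw [ij, h.tt]⟩
  have sq : ∀ c ∈ C[T], ∀ x ∈ T, c * x * (c * x) = c * c * (x * x) := fun c hc x hx => by
    rw [mul_assoc, ← mul_assoc x, mem_centralizer_iff.1 hc x hx]; group
  have e1 : f (d * x) = f d := by rw [map_mul, h.eq_one.2 hx, mul_one]
  have e2 : f (e * y) = f e := by rw [map_mul, h.eq_one.2 hy, mul_one]
  have v2 : d * x * (d * x) = 1 := by rw [sq d dC x hx, key d dC hd dS, xx]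
  have w2 : e * y * (e * y) = 1 := by rw [sq e eC y hy, key e eC he eS, yy]
  have vw : d * x * (e * y) * (d * x * (e * y)) = 1 := by
    rw [show d * x * (e * y) = d * e * (x * y) by
      rw [mul_assoc, ← mul_assoc x, mem_centralizer_iff.1 eC x hx]; group, sq _ (mul_mem dC eC) _ (mul_mem hx hy), h4, xy]
  generalize d * x = v at *
  generalize e * y = w at *
  have F : GW.Four v w := ⟨ci_orderOf (fun e => hD.ne _ hd (by rw [← e1, e, map_one])) v2,
    ci_orderOf (fun e => hD.ne _ he (by rw [← e2, e, map_one])) w2, fun e => de (by rw [← e1, ← e2, e]),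
    by rw [← inv_eq vw, mul_inv_rev, inv_eq v2, inv_eq w2]⟩
  have h5 := h.eq_one.2 h.tT
  rcases F.mem_four.1 (mem_of_pRankLE_two (pRankLE_top_iff.2 h3) (elemAb_four F) F.card.ge le_top (mem_top t)
    (by rw [pow_two, h.tt]) (mem_centralizer_iff.2 fun g _ => h.cen g)) with e | rfl | rfl | rfl
  · exact h.t1 e
  · exact hD.ne _ hd (e1 ▸ h5)
  · exact hD.ne _ he (e2 ▸ h5)
  · exact hD.ne _ (hD.mul_mem' hd he hS dS eS de) (by rw [← e1, ← e2, ← map_mul, h5])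

end P1

end Cfsg.Lib.R1
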