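import Cfsg.Agent.Lib.R1.P2
import Cfsg.Agent.Lib.Walter.Main
import Cfsg.Agent.Lib.Golay.ProjPerm
import Cfsg.Agent.Lib.Misc.A8Sub

/-!
The case `O₂(G) = ⟨t⟩`: the central product of two copies of `SL₂(5)`.
-/

set_option autoImplicit false
set_option linter.unusedSectionVars false
set_option linter.unusedVariables false

namespace Cfsg.Lib.R1
open Subgroup Cfsg.Lib Cfsg.Lib.FT
open scoped MatrixGroups

variable {G X : Type*} [Group G] [Finite G] [Group X] [Finite X]

/-- 2-subgroups have exponent 2 -/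
def E2 (G : Type*) [Group G] : Prop := ∀ P : Subgroup G, IsPGroup 2 P → ∀ x ∈ P, x * x = 1

theorem E2.of_syl {S : Subgroup G} (hS : Syl S) (h : ∀ s ∈ S, s * s = 1) : E2 G := fun P hP x hx => by
  obtain ⟨g, -, e⟩ := hS.exists_conj_le hP le_top
  simpa [conj_mul] using h _ (e (conj_mem_conj hx g))

theorem E2.comm (h : E2 G) {P : Subgroup G} (hP : IsPGroup 2 P) {x y : G} (hx : x ∈ P) (hy : y ∈ P) : x * y = y * x := by
  rw [← inv_eq (h P hP _ (mul_mem hx hy)), mul_inv_rev, inv_eq (h P hP x hx), inv_eq (h P hP y hy)]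

theorem E2.sub (h : E2 G) (L : Subgroup G) : E2 L := fun P hP x hx =>
  Subtype.ext (h _ (hP.map L.subtype) _ (mem_map_of_mem _ hx))

theorem E2.ab2 (h : E2 G) : Wal.Ab2 G := fun _ hP => isMulCommutative_of_forall fun _ hx _ hy => h.comm hP hx hy

theorem psl2_five [IsSimpleGroup G] (hG : ¬ IsMulCommutative G) (S : Sylow 2 G) (h4 : Nat.card (S : Subgroup G) = 4)
    (hu : ∀ P Q : Subgroup G, Syl P → Syl Q → P ≠ Q → P ⊓ Q = ⊥) : Big.IsoPSL2 G 5 := by
  have hS := IsSylowIn.of_sylow_top S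
  obtain ⟨h1, h2⟩ := Big.normalizer_sylow_ne_top hG hS
  obtain ⟨n, hn, -, -, h3⟩ := Big.bender_suzuki' hG (Big.stronglyEmbedded_of_ti hu hS h1 h2) S
  have h5 : Nat.card G ≤ 60 := by
    rcases h3 with ⟨h3, F, _, _, h5, ⟨e⟩⟩ | ⟨h3, -⟩ | ⟨h3, -⟩
    · have := h9_card_psl2_dvd (F := F)
      rw [h5, ← h3, h4, ← Nat.card_congr e.toEquiv] at this
      exact Nat.le_of_dvd (by norm_num) this
    · exact absurd (h4 ▸ h3 ▸ Nat.pow_le_pow_right (by norm_num : 0 < 4) hn) (by norm_num)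
    · exact absurd (h4 ▸ h3 ▸ Nat.pow_le_pow_right (by norm_num : 0 < 8) hn) (by norm_num)
  obtain ⟨q, h6, h7, F, _, _, rfl, ⟨e⟩⟩ := Big.psl2_of_card_four hG S h4
  have := Big.card_psl2_odd (F := F) (Nat.odd_iff.2 (by omega))
  rw [← Nat.card_congr e.toEquiv] at this
  refine ⟨F, inferInstance, inferInstance, by_contra fun hne => ?_, ⟨e⟩⟩
  clear h3
  have h6 : 6 * (6 ^ 2 - 1) ≤ Fintype.card F * (Fintype.card F ^ 2 - 1) := by gcongr <;> omega
  omega

theorem comp_syl {S L : Subgroup G} (hS : Syl S) (hL : IsComponent L) : IsSylowIn 2 (S ⊓ L) L := by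
  have := (hS.inf_of_le_normalizer (N := layer G) le_top le_normalizer_of_normal).inf_of_le_normalizer hL.le_layer
    hL.layer_le_normalizer
  rwa [inf_assoc, inf_eq_right.2 hL.le_layer] at this

section
variable (hs : solvRad G = ⊥) {S L : Subgroup G}
include hs

theorem comp_inf (hL : IsComponent L) : L ⊓ C[L] = ⊥ :=
  eq_bot_iff.2 ((inf_centralizer_le_fitting_of_isSubnormal hL.isSubnormal).trans (fitting_le_solvRad.trans hs.le))

theorem comp_simple (hL : IsComponent L) : IsSimpleGroup L := hL.isQuasisimple.isSimpleGroup_of_center_eq_bot (by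
  rw [center_eq_subgroupOf_centralizer, ← inf_subgroupOf_left, comp_inf hs hL, bot_subgroupOf])

theorem C_layer : C[layer G] = ⊥ := by
  have := centralizer_fstar_le_fitting (G := G)
  rwa [generalizedFittingSubgroup, fitting_eq_bot_iff_solvRad.2 hs, sup_bot_eq, le_bot_iff] at this

theorem comp_inner (he : E2 G) (hS : Syl S) (hL : IsComponent L) {s : G} (h : s ∈ S) : ∃ g ∈ L, g⁻¹ * s ∈ C[L] := by
  have := comp_simple hs hL
  have hc := hL.isQuasisimple.not_isMulCommutative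
  have h1 := comp_syl hS hL
  have hn : s ∈ N[L] := conj_eq_iff_mem_normalizer.1 (((hL.map_conj s).eq_or_commutator_eq_bot hL).resolve_right fun e =>
    h1.ne_bot (Big.two_dvd_card_of_simple hc) (eq_bot_iff.2 fun q hq => (comp_inf hs hL).le ⟨hq.2,
      commutator_eq_bot_iff_le_centralizer.1 e ⟨q, hq.2, mul_inv_eq_iff_eq_mul.2 (he.comm hS.isPGroup h hq.1)⟩⟩))
  obtain ⟨Q, e⟩ := (syl_sub_iff.2 h1).exists_sylow_top
  obtain ⟨g, hg⟩ := pg_inner_of_fixes_abelian_sylow hc (Big.two_dvd_card_of_simple hc) Q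
    ((he.sub L).ab2 _ Q.isPGroup') (R2.nAut L hn) (k := 1) (R2.nAut_pow hn (by rw [pow_one, sq, he S hS.isPGroup s h]))
    fun x hx => Subtype.ext (mul_inv_eq_iff_eq_mul.2 (he.comm hS.isPGroup h (e.le hx)))
  refine ⟨g, g.2, mem_centralizer_iff.2 fun y hy => ?_⟩
  have : s * y * s⁻¹ = g * y * (g : G)⁻¹ := congrArg Subtype.val (hg ⟨y, hy⟩)
  calc _ = (g : G)⁻¹ * (g * y * (g : G)⁻¹) * s := by group
    _ = _ := by rw [← this]; group

end

namespace P1

variable {t : G} {f : G →* X} (h : P1 t (zpowers t) f) (he : E2 X)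
include h he

theorem comp {L : Subgroup X} (hL : IsComponent L) (ns : ∀ x, f x ∈ L → x * x = 1 → f x = 1) :
    IsComponent (L.comap f) := by
  have := comp_simple h.sr hL
  obtain ⟨a, ha, b, hb, F⟩ := exists_four_of_simple hL.isQuasisimple.not_isMulCommutative
  obtain ⟨h6, h7⟩ := isComponent_commutator_comap f h.sur hL (commutator_eq_bot_iff_le_centralizer.2
    (h.ker ▸ le_centralizer_symm fun x _ => h.memC x))
  obtain ⟨c, hc, e⟩ := h7.ge ha
  rwa [← comap_map_eq_self (f := f) (H := ⁅L.comap f, L.comap f⁆) (by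
    rw [h.ker, ← h.sq_t ns (e ▸ ha) (e ▸ F.ht)]; exact zpowers_le.2 (mul_mem hc hc)), h7] at h6

theorem sl25 {L : Subgroup X} (hL : IsComponent L) (ns : ∀ x, f x ∈ L → x * x = 1 → f x = 1)
    (hu : ∀ x ∈ L, orderOf x = 2 → ∃ y ∈ C[L], UniqSyl (x * y) ∧ x * y * (x * y) = 1) :
    ∃ e : SL(2, ZMod 5) ≃* L.comap f, (e (-1) : G) = t := by
  have := comp_simple h.sr hL
  have hc := hL.isQuasisimple.not_isMulCommutative
  obtain ⟨a, ha, b, hb, F⟩ := exists_four_of_simple hc
  obtain ⟨V, hV, h1⟩ := exists_isSylowIn_ge F.isPGroup (GW.four_le_iff.2 ⟨ha, hb⟩)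
  obtain ⟨a, rfl⟩ := h.sur a
  obtain ⟨b, rfl⟩ := h.sur b
  obtain ⟨aV, bV⟩ := GW.four_le_iff.1 h1
  obtain rfl : V = GW.four (f a) (f b) := le_antisymm (fun y hy => h.mem_four hV.isPGroup (fun x hx => ns x (hV.le hx))
    F aV bV hy (he.comm hV.isPGroup aV hy) (he.comm hV.isPGroup bV hy)) h1
  obtain ⟨Q, e⟩ := (Wal.sylow_sub hV).exists_sylow_top
  have h4 : Nat.card (Q : Subgroup L) = 4 := by rw [e, card_subgroupOf_of_le hV.le, F.card]
  obtain ⟨K, _, _, h5, ⟨e1⟩⟩ := psl2_five hc Q h4 fun P P' hP hP' hne => eq_bot_iff.2 fun x hx => by_contra fun x1 => by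
    obtain ⟨y, hy, h2, h3⟩ := hu x x.2 (by rw [orderOf_coe]; exact ci_orderOf x1 (he.sub L P hP.isPGroup x hx.1))
    obtain ⟨U, hU, h6⟩ := exists_syl (isPGroup_sq h3)
    have key : ∀ P : Subgroup L, Syl P → x ∈ P → U.subgroupOf L = P := fun P hP hx =>
      hP.maximal _ hU.isPGroup.comap_subtype le_top fun p hp => uniq_mem hU h2 h6
        (congrArg Subtype.val (he.sub L P hP.isPGroup p hp)) (by
          rw [← mul_assoc, coe_subtype, ← coe_mul, (he.sub L).comm hP.isPGroup hp hx, coe_mul, mul_assoc,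
            mem_centralizer_iff.1 hy p p.2, mul_assoc])
    exact hne ((key P hP hx.1).symm.trans (key P' hP' hx.2))
  have h8 := (h.comp he hL ns).commutator_self
  have h9 : (f.subgroupComap L).ker = (zpowers t).subgroupOf (L.comap f) := by
    ext x
    exact Subtype.ext_iff.trans h.eq_one
  have h10 : zpowers t ≤ L.comap f := h.ker ▸ ker_le_comap f L
  obtain ⟨e2⟩ := (Wal.dih2_of_four (IsSylowIn.of_sylow_top Q) (he.sub L _ Q.isPGroup') h4).nonempty_sl2 (by
      rw [← map_subtype_inj, map_subtype_commutator, h8, ← MonoidHom.range_eq_map, range_subtype])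
    (MonoidHom.subgroupComap_surjective_of_surjective _ L h.sur)
    (fun x hx => mem_center_iff.2 fun g => Subtype.ext (mem_centralizer_iff.1 (h.memC g) x (h9.le hx)).symm)
    (by rw [h9, card_subgroupOf_of_le h10, Nat.card_zpowers, ci_orderOf h.t1 h.tt]) (by rw [h5]; decide) (by omega) e1
  let e3 := (e2.trans (PC.slCongr (FiniteField.ringEquivOfCardEq (h5.trans (ZMod.card 5).symm)))).symm
  refine ⟨e3, (h.one.1 (ns _ (e3 (-1)).2 ?_)).resolve_left fun e => ?_⟩
  · rw [← coe_mul, ← map_mul, neg_mul_neg, one_mul, map_one, coe_one]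
  · exact absurd (e3.map_eq_one_iff.1 (Subtype.ext e)) (by decide)

theorem cprod {v : G} (v2 : v * v = 1) (v1 : f v ≠ 1) (hI : ¬ ∀ x : X, orderOf x = 2 → UniqSyl x) :
    ∃ E : Subgroup G, E.Normal ∧ Odd E.index ∧ ∃ (Z : Subgroup (SL(2, ZMod 5) × SL(2, ZMod 5))) (_ : Z.Normal),
      Z = zpowers ((-1 : SL(2, ZMod 5)), (-1 : SL(2, ZMod 5))) ∧ Nonempty (E ≃* (SL(2, ZMod 5) × SL(2, ZMod 5)) ⧸ Z) := by
  have one : ∀ L, IsComponent L → (∀ K, IsComponent K → K = L) → ∀ P, Syl P → P ≤ L := fun L hL h1 P hP s hs => by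
    obtain ⟨g, hg, e⟩ := comp_inner h.sr he hP hL hs
    rw [← show layer X = L from le_antisymm (sSup_le fun K hK => (h1 K hK).le) hL.le_layer, C_layer h.sr, mem_bot,
      inv_mul_eq_one] at e
    exact e ▸ hg
  have ns : ∀ L, IsComponent L → ∀ x, f x ∈ L → x * x = 1 → f x = 1 := fun L hL x hx x2 => by_contra fun x1 => by
    have x3 : f x * f x = 1 := by rw [← map_mul, x2, map_one]
    have := comp_simple h.sr hL
    obtain ⟨P, hP, h1⟩ := exists_syl (isPGroup_sq x3)
    have h2 := one L hL (fun K hK => (hK.eq_or_commutator_eq_bot hL).resolve_right fun e => hK.isQuasisimple.not_isSolvable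
      (isSolvable_of_le (commutator_eq_bot_iff_le_centralizer.1 e) (uniq_solv (h.split x2 x1) x3 hx))) P hP
    obtain ⟨-, -, k, -, h3⟩ := (Wal.walter L hL.isQuasisimple.not_isMulCommutative (he.sub L).ab2).tor_sub
      (hP.mono h2 le_top)
    refine hI fun y hy => ?_
    obtain ⟨g, -, e⟩ := hP.exists_conj_le (isPGroup_sq (ci_mul_self hy)) le_top
    obtain ⟨l, -, e1⟩ := h3 _ h1 _ (e (conj_mem_conj (mem_zpowers y) g)) x1 (by simpa using ne_one_of_orderOf_two hy)
    simpa [e1, mul_assoc] using ((h.split x2 x1).conj l).conj g⁻¹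
  obtain ⟨S, hS, hv⟩ := exists_syl (isPGroup_sq (show f v * f v = 1 by rw [← map_mul, v2, map_one]))
  obtain ⟨L, hL, -⟩ := exists_isComponent_le_of_inf_fitting_eq_bot (H := (⊤ : Subgroup X))
    (Normal.isSubnormal inferInstance) (fun e => v1 (e.le (mem_top _))) (by rw [fitting_eq_bot_iff_solvRad.2 h.sr, inf_bot_eq])
  obtain ⟨K, hK, hne⟩ : ∃ K, IsComponent K ∧ K ≠ L := by
    by_contra! e
    exact v1 (ns L hL v (one L hL e S hS hv) v2)
  have cc : ∀ L K, IsComponent L → IsComponent K → K ≠ L → K.comap f ≤ C[L.comap f] := fun L K hL hK hne =>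
    commutator_eq_bot_iff_le_centralizer.1 ((h.comp he hK (ns K hK)).commutator_eq_bot_of_ne (h.comp he hL (ns L hL))
      fun e => hne (comap_injective h.sur e))
  have c1 : ∀ L K : Subgroup X, IsComponent L → IsComponent K → K ≠ L → K ≤ C[L] := fun L K hL hK hne =>
    commutator_eq_bot_iff_le_centralizer.1 (hK.commutator_eq_bot_of_ne hL hne)
  have sp : ∀ L K : Subgroup X, IsComponent L → IsComponent K → K ≠ L → ∀ x ∈ L, orderOf x = 2 → ∃ y ∈ K, UniqSyl (x * y) ∧
      x * y * (x * y) = 1 := fun L K hL hK hne x hx x2 => by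
    have := comp_simple h.sr hK
    obtain ⟨y, hy, _, -, F⟩ := exists_four_of_simple hK.isQuasisimple.not_isMulCommutative
    obtain ⟨x, rfl⟩ := h.sur x
    obtain ⟨y, rfl⟩ := h.sur y
    have h1 : x * y * (x * y) = 1 := by
      rw [mul_assoc, ← mul_assoc y, ← mem_centralizer_iff.1 (cc L K hL hK hne hy) x hx, mul_assoc,
        h.sq_t (ns K hK) hy F.ht, ← mul_assoc, h.sq_t (ns L hL) hx x2, h.tt]
    refine ⟨_, hy, map_mul f x y ▸ h.split h1 fun e => ne_one_of_orderOf_two x2 ((comp_inf h.sr hL).le ⟨hx, ?_⟩),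
      by rw [← map_mul, ← map_mul, h1, map_one]⟩
    rw [map_mul, mul_eq_one_iff_eq_inv] at e
    exact e ▸ C[L].inv_mem (c1 L K hL hK hne hy)
  obtain ⟨e1, h1⟩ := h.sl25 he hL (ns L hL) fun x hx x2 =>
    let ⟨y, hy, e⟩ := sp L K hL hK hne x hx x2; ⟨y, c1 L K hL hK hne hy, e⟩
  obtain ⟨e2, h2⟩ := h.sl25 he hK (ns K hK) fun x hx x2 =>
    let ⟨y, hy, e⟩ := sp K L hK hL hne.symm x hx x2; ⟨y, c1 K L hK hL hne.symm hy, e⟩
  have h3 : layer X = L ⊔ K := le_antisymm (sSup_le fun J hJ => by_contra fun e => by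
    have := comp_simple h.sr hL
    obtain ⟨x, hx, _, -, F⟩ := exists_four_of_simple hL.isQuasisimple.not_isMulCommutative
    obtain ⟨y, hy, h3, h4⟩ := sp L K hL hK hne x hx F.ht
    refine hJ.isQuasisimple.not_isSolvable (isSolvable_of_le ?_
      (uniq_solv h3 h4 (mul_mem (mem_sup_left hx) (mem_sup_right hy))))
    rw [centralizer_sup]
    exact le_inf (c1 L J hL hJ fun e1 => e (e1 ▸ le_sup_left)) (c1 K J hK hJ fun e1 => e (e1 ▸ le_sup_right)))
    (sup_le hL.le_layer hK.le_layer)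
  have h4 : S ≤ layer X := fun s hs => by
    obtain ⟨a, ha, e3⟩ := comp_inner h.sr he hS hL hs
    obtain ⟨b, hb, e4⟩ := comp_inner h.sr he hS hK hs
    have : (a * b)⁻¹ * s ∈ C[layer X] := by
      rw [h3, centralizer_sup]
      refine ⟨by simpa [mul_assoc] using mul_mem (inv_mem (c1 L K hL hK hne hb)) e3, ?_⟩
      rw [mem_centralizer_iff.1 (c1 L K hL hK hne hb) a ha]
      simpa [mul_assoc] using mul_mem (inv_mem (c1 K L hK hL hne.symm ha)) e4
    rw [C_layer h.sr, mem_bot, inv_mul_eq_one] at this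
    exact this ▸ mul_mem (hL.le_layer ha) (hK.le_layer hb)
  let φ := ((L.comap f).subtype.comp e1.toMonoidHom).noncommCoprod ((K.comap f).subtype.comp e2.toMonoidHom)
    fun a b => mem_centralizer_iff.1 (cc L K hL hK hne (e2 b).2) _ (e1 a).2
  have h5 : φ.range = (layer X).comap f := by
    refine (MonoidHom.noncommCoprod_range _ _ _).trans ?_
    rw [h3, ← comap_sup_eq f L K h.sur, MonoidHom.range_comp, MonoidHom.range_comp,
      MonoidHom.range_eq_top.2 e1.surjective, MonoidHom.range_eq_top.2 e2.surjective, ← MonoidHom.range_eq_map,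
      ← MonoidHom.range_eq_map, range_subtype, range_subtype]
  refine ⟨_, inferInstance, ?_, φ.ker, inferInstance, le_antisymm (fun x hx => ?_) (zpowers_le.2 ?_),
    ⟨((QuotientGroup.quotientKerEquivRange φ).trans (MulEquiv.subgroupCongr h5)).symm⟩⟩
  · obtain ⟨S, rfl⟩ := hS.exists_sylow_top
    rw [index_comap_of_surjective _ h.sur]
    exact (sylow_two_index_odd S).of_dvd_nat (index_dvd_of_le h4)
  · have e : (e1 x.1 : G) * e2 x.2 = 1 := hx
    have e' := mul_eq_one_iff_eq_inv.1 e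
    rw [GW.mem_zpowers_two (by decide)]
    refine (h.one.1 ((comp_inf h.sr hL).le ⟨(e1 x.1).2, by
      rw [e', map_inv]; exact C[L].inv_mem (c1 L K hL hK hne (e2 x.2).2)⟩)).imp (fun e3 => ?_) fun e3 => ?_
    · rw [e3, one_mul] at e
      exact Prod.ext (e1.map_eq_one_iff.1 (Subtype.ext e3)) (e2.map_eq_one_iff.1 (Subtype.ext e))
    · rw [e3, eq_inv_iff_mul_eq_one, mul_eq_one_iff_inv_eq, inv_eq h.tt] at e'
      exact Prod.ext (e1.injective (Subtype.ext (e3.trans h1.symm))) (e2.injective (Subtype.ext (e'.symm.trans h2.symm)))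
  · change (e1 (-1) : G) * e2 (-1) = 1
    rw [h1, h2, h.tt]

end P1

end Cfsg.Lib.R1
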