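import Cfsg.Agent.Lib.R1.P4

/-!
Core-free groups in which four-groups lie in a unique Sylow 2-subgroup.
-/

set_option autoImplicit false
set_option linter.unusedSectionVars false
set_option linter.unusedVariables false

namespace Cfsg.Lib.R1
open Subgroup Cfsg.Lib Cfsg.Lib.FT
open scoped MatrixGroups

variable {G : Type*} [Group G] [Finite G]

theorem U1.of_four {A : Subgroup G} (h2 : IsPGroup 2 A) (h : ∀ a ∈ A, ∀ b ∈ A, ¬ GW.Four a b) : U1 A :=
  fun x hx y hy x2 y2 => by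
    obtain ⟨z, hz, z1⟩ := exists_oz h2 fun e => ne_one_of_orderOf_two x2 (e.le hx)
    have key : ∀ x ∈ A, orderOf x = 2 → x = z := fun x hx x2 => by_contra fun e =>
      h z hz.1.1 x hx ⟨ci_orderOf z1 hz.2, x2, e, oz_comm hz hx⟩
    rw [key x hx x2, key y hy y2]

theorem R1a.of_rank (h : ∀ S T : Subgroup G, Syl S → Syl T → S ≠ T → PRankLE 2 1 ↥(S ⊓ T)) : R1a G :=
  fun S T hS hT _ _ f ha hb => by_contra fun e =>
    not_pRankLE_of_le_card (GW.four_le_iff.2 ⟨ha, hb⟩) (elemAb_four f) f.card.ge (h S T hS hT e)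

theorem R1a.odd_le (h : R1a G) (h3 : ¬ PRankLE 2 2 G) : oddCore G ≤ kS G := fun x hx S hS => by
  obtain ⟨E, hE, h1, h8⟩ := exists_elemAb_of_not_pRankLE (mt (pRankLE_iff_of_isSylowIn hS).1 (mt pRankLE_top_iff.1 h3))
  have c := CoprimeAct.of_isPGroup (elemAb_isPGroup h1) (not_dvd_card_pPrimeCore (G := G)) le_normalizer_of_normal
  refine c.le_of_elemAb h1 (by omega) (fun a ha a1 => ?_) hx
  obtain ⟨W, h2, h4, h5⟩ := exists_compl_of_elemAb h1 (zpowers_le.2 ha)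
  have a2 := ci_orderOf a1 (by rw [← sq, h1.2 a ha])
  have hc : ∀ y ∈ E, y * a = a * y := fun y hy => comm_of_isMulCommutative h1.1 hy ha
  have h6 := GW.card_sup_le (A := zpowers a) (B := W)
    (zpowers_le.2 (centralizer_le_normalizer _ (mem_centralizer_iff.2 fun x hx => hc x (h2 hx))))
  rw [h5, Nat.card_zpowers, a2] at h6
  refine (CoprimeAct.of_isPGroup (elemAb_isPGroup (elemAb_mono h1 h2))
    (mt (·.trans (card_dvd_of_le inf_le_left)) not_dvd_card_pPrimeCore) (le_normalizer_inf le_normalizer_of_normal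
      (le_trans (fun x hx => mem_C1.2 (hc x (h2 hx))) le_normalizer))).le_of_elemAb (elemAb_mono h1 h2) (by omega)
    fun b hb b1 y hy => h.norm hS (a := a) (b := b) ⟨a2, ci_orderOf b1 (by rw [← sq, h1.2 b (h2 hb)]),
      fun e => b1 (h4.le ⟨e ▸ mem_zpowers b, hb⟩), hc b (h2 hb)⟩ (hE ha) (hE (h2 hb)) ?_ ?_
  · rw [mem_C1.1 hy.1.2, mul_inv_cancel_right]; exact hE ha
  · rw [mem_C1.1 hy.2, mul_inv_cancel_right]; exact hE (h2 hb)

theorem R1a.struct (h : R1a G) (hO : oddCore G = ⊥) (hns : ¬ Group.IsSolvable G) {S T : Subgroup G} (hS : Syl S)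
    (hT : Syl T) (hne : S ≠ T) (hc : ¬ IsCyclic ↥(S ⊓ T)) (h4 : ¬ PRankLE 2 1 G) :
    (¬ IsCyclic (pCore 2 G) ∧ U1 (pCore 2 G) ∧ ¬ PRankLE 2 2 G ∧
      ∃ L : Subgroup (G ⧸ pCore 2 G), L.Normal ∧ Odd L.index ∧ Big.IsBender L) ∨
    ∃ E : Subgroup G, E.Normal ∧ Odd E.index ∧ ∃ (Z : Subgroup (SL(2, ZMod 5) × SL(2, ZMod 5))) (_ : Z.Normal),
      Z = zpowers ((-1 : SL(2, ZMod 5)), (-1 : SL(2, ZMod 5))) ∧ Nonempty (E ≃* (SL(2, ZMod 5) × SL(2, ZMod 5)) ⧸ Z) := by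
  have hF := fitting_eq_pCore_of_pPrimeCore_eq_bot 2 hO
  have hP : ∀ U, Syl U → pCore 2 G ≤ U := fun U hU => hU.le_of_normal isPGroup_pCore
  have u1 : U1 (S ⊓ T) := U1.of_four hS.isPGroup.to_inf_left fun a ha b hb f => hne (h S T hS hT a b f ha hb)
  have tim : TIm G → S ⊓ T = pCore 2 G := fun e => le_antisymm
    (fun x hx => mem_pCore_of_syl fun U hU => e S T U hS hT hU hne hx) (le_inf (hP S hS) (hP T hT))
  by_cases h0 : pCore 2 G = ⊥
  · have : Nontrivial G := not_subsingleton_iff_nontrivial.1 fun _ => hns inferInstance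
    rcases h.ti_or (fitting_eq_bot_iff_solvRad.1 (hF.trans h0)) hS with ⟨D, hD⟩ | ⟨-, -, -, -, -, e⟩
    · exact (hc (by rw [tim (zd2 hD), h0]; infer_instance)).elim
    · exact (hc (u1.isCyclic hS.isPGroup.to_inf_left fun x hx => mem_centralizer_iff.2 fun y hy =>
        (E2.of_syl hS e).comm hS.isPGroup hy.1 hx.1)).elim
  obtain ⟨t, ht, t1⟩ := exists_oz isPGroup_pCore h0
  have t2 := ci_orderOf t1 ht.2
  have h1 : ∀ x ∈ pCore 2 G, x * x = 1 → x = 1 ∨ x = t := fun x hx e => or_iff_not_imp_left.2 fun x1 =>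
    u1 x ⟨hP S hS hx, hP T hT hx⟩ t ⟨hP S hS ht.1.1, hP T hT ht.1.1⟩ (ci_orderOf x1 e) t2
  have h2 : ∀ g, g * t = t * g := fun g => mul_inv_eq_iff_eq_mul.1 ((h1 _ (Normal.conj_mem inferInstance t ht.1.1 g)
    (ci_mul_self (ci_orderOf_conj t2 g))).resolve_left (by simpa using t1))
  have p : P1 t (pCore 2 G) (QuotientGroup.mk' (pCore 2 G)) := ⟨⟨h2, ht.2, t1, fun v v2 v1 vt P Q hP' hQ h3 h5 =>
    h P Q hP' hQ t v ⟨t2, ci_orderOf v1 v2, vt, h2 v⟩ ⟨hP P hP' ht.1.1, hP Q hQ ht.1.1⟩ ⟨h3, h5⟩⟩,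
    QuotientGroup.mk'_surjective _, QuotientGroup.ker_mk' _, hF, isPGroup_pCore, h1, ht.1.1⟩
  by_cases hd : ∃ d ∈ pCore 2 G, d * d = t
  · obtain ⟨d, hd, dd⟩ := hd
    obtain ⟨D, hD, hC⟩ := p.big hns hd dd
    rw [tim ((zd2 hD).of_map p.sur p.kS)] at hc
    exact Or.inl ⟨hc, p.U1, p.rank3 hns hD hC hc, p.bender hns hD hC⟩
  have h3 : pCore 2 G = zpowers t := le_antisymm (fun x hx => (GW.mem_zpowers_two ht.2).2 (h1 x hx (by_contra fun e => by
    obtain ⟨y, hy, h3, h5⟩ := exists_order_four isPGroup_pCore hx e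
    have := zpowers_le.2 hx hy
    exact hd ⟨y, this, (h1 _ (mul_mem this this) h5).resolve_left h3⟩))) (zpowers_le.2 ht.1.1)
  generalize QuotientGroup.mk' (pCore 2 G) = f at p
  replace p : P1 t (zpowers t) f := (congrArg (P1 t · f) h3).mp p
  obtain ⟨v, v2, v1⟩ : ∃ v, v * v = 1 ∧ f v ≠ 1 := by
    obtain ⟨a, b, F⟩ := exists_four_of_rank h4
    by_contra! e
    exact F.ne (((p.one.1 (e b F.vv)).resolve_left F.v_ne).trans ((p.one.1 (e a F.tt)).resolve_left F.t_ne).symm)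
  obtain ⟨U, hU, h5⟩ := exists_syl (isPGroup_sq (show f v * f v = 1 by rw [← map_mul, v2, map_one]))
  rcases p.elem hU h5 v2 v1 with ⟨D, hD⟩ | e
  · exact (hc (by rw [tim ((zd2 hD).of_map p.sur p.kS), h3]; infer_instance)).elim
  refine Or.inr (p.cprod (.of_syl hU e) v2 v1 fun e1 => hc (isCyclic_of_le (H' := zpowers t) fun x hx =>
    p.eq_one.1 (by_contra fun x1 => hne (hS.eq_of_map hT p.kS (e1 _ (ci_orderOf x1 (E2.of_syl hU e _
      (hS.isPGroup.map f) _ (mem_map_of_mem f hx.1))) _ _ (hS.map p.sur) (hT.map p.sur) (mem_map_of_mem f hx.1)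
      (mem_map_of_mem f hx.2))))))

end Cfsg.Lib.R1
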