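import Mathlib

/-!
An integrality condition for an involutory automorphism of a partial geometry.
-/

set_option autoImplicit false

namespace Cfsg.Lib.R1
open Matrix Finset

theorem trace_of_sq {ι : Type*} [Fintype ι] [DecidableEq ι] {Y : Matrix ι ι ℚ} {θ : ℚ} (h0 : θ ≠ 0)
    (h : Y * Y = θ • Y) : ∃ k : ℕ, Y.trace = θ * k := by
  have h1 : IsIdempotentElem (Matrix.toLin' (θ⁻¹ • Y)) := by
    rw [IsIdempotentElem, Module.End.mul_eq_comp, ← Matrix.toLin'_mul, Matrix.smul_mul, Matrix.mul_smul, h,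
      smul_smul θ⁻¹ θ, inv_mul_cancel₀ h0, one_smul]
  have h2 := (LinearMap.IsIdempotentElem.isProj_range _ h1).trace
  rw [Matrix.trace_toLin'_eq, trace_smul, smul_eq_mul] at h2
  exact ⟨_, by rw [← h2, mul_inv_cancel_left₀ h0]⟩

theorem sum_ite_ncard {ι : Type*} [Fintype ι] (p : ι → Prop) [DecidablePred p] :
    ∑ i, (if p i then (1 : ℚ) else 0) = ({i | p i}.ncard : ℚ) := by
  rw [Finset.sum_boole, Set.ncard_eq_toFinset_card', Set.toFinset_ofPred]

theorem pg_dvd {Ω 𝔅 : Type*} [Finite Ω] [Finite 𝔅] (inc : Ω → 𝔅 → Prop) {b m c : ℕ}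
    (hb : ∀ α, {B | inc α B}.ncard = b) (hm : ∀ B, {α | inc α B}.ncard = m)
    (h1 : ∀ α γ B B', α ≠ γ → inc α B → inc γ B → inc α B' → inc γ B' → B = B')
    (hc : ∀ α B, ¬ inc α B → {γ | inc γ B ∧ ∃ B', inc α B' ∧ inc γ B'}.ncard = c)
    (π : Ω → Ω) (hπ : ∀ α, π (π α) = α) (σ : 𝔅 ≃ 𝔅) (hσ : ∀ α B, inc (π α) (σ B) ↔ inc α B)
    (B₀ : 𝔅) (α₀ : Ω) (hfix : ∀ α, inc α B₀ → π α = α)
    (hmov : ∀ α, ¬ inc α B₀ → π α ≠ α ∧ ∃ B, inc α B ∧ inc (π α) B) :
    (c : ℤ) * (Nat.card Ω - m) = m * (m - 1) * (b - 1) ∧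
      ((b : ℤ) + m - 1 - c ≠ 0 → (b : ℤ) + m - 1 - c ∣ Nat.card Ω - m) := by
  classical
  have := Fintype.ofFinite Ω
  have := Fintype.ofFinite 𝔅
  set n := Nat.card Ω with hn
  have hn0 : (n : ℚ) ≠ 0 := by have : Nonempty Ω := ⟨α₀⟩; exact_mod_cast Nat.card_pos.ne'
  let N : Matrix Ω 𝔅 ℚ := Matrix.of fun α B => if inc α B then 1 else 0
  let X : Matrix Ω Ω ℚ := N * Nᵀ
  let J : Matrix Ω Ω ℚ := Matrix.of fun _ _ => 1
  let P : Matrix Ω Ω ℚ := Matrix.of fun α γ => if π α = γ then 1 else 0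
  set θ : ℚ := b + m - 1 - c with hθ
  have eb : ∀ α, ∑ B, N α B = b := fun α => by rw [← hb α, ← sum_ite_ncard]; rfl
  have em : ∀ B, ∑ α, N α B = m := fun B => by rw [← hm B, ← sum_ite_ncard]; rfl
  have eX : ∀ α γ, X α γ = ∑ B, if inc α B ∧ inc γ B then 1 else 0 := fun α γ => by
    simp only [X, mul_apply, transpose_apply, N, of_apply, ite_zero_mul_ite_zero, one_mul]
  have eX1 : ∀ α, X α α = b := fun α => by rw [eX, ← eb α]; simp [N]
  have eX2 : ∀ α γ, α ≠ γ → X α γ = if ∃ B, inc α B ∧ inc γ B then 1 else 0 := fun α γ hne => by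
    rw [eX]
    split_ifs with h
    · obtain ⟨B, h2, h3⟩ := h
      rw [Finset.sum_eq_single B (fun B' _ h4 => if_neg fun h5 => h4 (h1 α γ _ _ hne h5.1 h5.2 h2 h3)) (by simp),
        if_pos ⟨h2, h3⟩]
    · exact Finset.sum_eq_zero fun B _ => if_neg fun h2 => h ⟨B, h2⟩
  have eXN : ∀ α B, (X * N) α B = θ * N α B + c := fun α B => by
    rw [mul_apply]
    by_cases h : inc α B
    · have : ∀ γ, X α γ * N γ B = N γ B + if γ = α then (b : ℚ) - 1 else 0 := fun γ => by
        by_cases e : γ = α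
        · subst e; simp [eX1, N, h]
        · rw [eX2 α γ (Ne.symm e)]
          by_cases h2 : inc γ B
          · simp [N, h2, e, show ∃ B, inc α B ∧ inc γ B from ⟨B, h, h2⟩]
          · simp [N, h2, e]
      simp only [this, Finset.sum_add_distrib, em, Finset.sum_ite_eq', Finset.mem_univ, if_true]
      simp only [N, of_apply, h, hθ, if_true]
      ring
    · rw [← hc α B h, ← sum_ite_ncard]
      simp only [N, of_apply, h, if_false, mul_zero, zero_add]
      refine Finset.sum_congr rfl fun γ _ => ?_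
      by_cases h2 : inc γ B
      · rw [eX2 α γ (by rintro rfl; exact h h2)]; simp [h2]
      · simp [h2]
  have eXX : X * X = θ • X + ((c : ℚ) * b) • J := by
    ext α γ
    change (X * (N * Nᵀ)) α γ = _
    rw [← Matrix.mul_assoc, mul_apply]
    simp only [eXN, add_mul, Finset.sum_add_distrib, transpose_apply, mul_assoc, ← Finset.mul_sum, eb]
    simp [X, mul_apply, J]
  have eXs : ∀ γ, ∑ α, X α γ = b * m := fun γ => by
    simp only [X, mul_apply, transpose_apply]
    rw [Finset.sum_comm]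
    simp only [← Finset.sum_mul, em, ← Finset.mul_sum, eb, mul_comm]
  have eJX : J * X = ((b : ℚ) * m) • J := by ext α γ; simp [mul_apply, J, eXs]
  have eXJ : X * J = ((b : ℚ) * m) • J := by
    have := congrArg transpose eJX
    rw [transpose_mul, transpose_smul, show Jᵀ = J from rfl] at this
    simpa [X, transpose_mul] using this
  have eJJ : J * J = (n : ℚ) • J := by ext α γ; simp [mul_apply, J, hn]
  have id1 : (b : ℚ) * m * m = θ * m + c * n := by
    have : ∑ α, (X * N) α B₀ = b * m * m := by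
      simp only [mul_apply]
      rw [Finset.sum_comm]
      simp only [← Finset.sum_mul, eXs, ← Finset.mul_sum, em]
    rw [← this]
    simp [eXN, Finset.sum_add_distrib, ← Finset.mul_sum, em, hn, mul_comm]
  refine ⟨by
    have : (c : ℚ) * (n - m) = m * (m - 1) * (b - 1) := by rw [hθ] at id1; linear_combination -id1
    exact_mod_cast this, fun h0 => ?_⟩
  have h0' : θ ≠ 0 := by rw [hθ]; exact_mod_cast h0
  obtain ⟨k₁, hk₁⟩ := trace_of_sq (Y := X - ((b : ℚ) * m / n) • J) h0' (by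
    simp only [Matrix.sub_mul, Matrix.mul_sub, Matrix.smul_mul, Matrix.mul_smul, eXX, eJX, eXJ, eJJ, smul_smul,
      smul_sub]
    have : (c : ℚ) * b = b * m / n * (b * m) - θ * (b * m / n) := by field_simp; linear_combination -b * id1
    rw [this, show (b : ℚ) * m / n * (b * m / n * n) = b * m / n * (b * m) by field_simp]
    module)
  have ePM : ∀ (M : Matrix Ω Ω ℚ) α γ, (P * M) α γ = M (π α) γ := fun M α γ => by simp [mul_apply, P]
  have eMP : ∀ (M : Matrix Ω Ω ℚ) α γ, (M * P) α γ = M α (π γ) := fun M α γ => by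
    have : ∀ δ, π δ = γ ↔ δ = π γ := fun δ => ⟨fun e => by rw [← e, hπ], fun e => by rw [e, hπ]⟩
    simp [mul_apply, P, this]
  have ePX : X * P = P * X := by
    ext α γ
    rw [ePM, eMP, eX, eX]
    refine Fintype.sum_equiv σ _ _ fun B => ?_
    rw [hσ, ← hσ (π γ), hπ]
  have ePP : P * P = 1 := by ext α γ; rw [ePM]; simp [P, hπ, one_apply]
  have ePJ : P * J = J := by ext α γ; rw [ePM]; rfl
  obtain ⟨k₂, hk₂⟩ := trace_of_sq (Y := X - P * X) (θ := 2 * θ) (by simpa using h0') (by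
    have e1 : P * X * (P * X) = X * X := by
      rw [Matrix.mul_assoc, ← Matrix.mul_assoc X, ePX, Matrix.mul_assoc P X X, ← Matrix.mul_assoc P P, ePP, Matrix.one_mul]
    have e2 : X * (P * X) = P * (X * X) := by rw [← Matrix.mul_assoc X P X, ePX, Matrix.mul_assoc P X X]
    simp only [Matrix.sub_mul, Matrix.mul_sub, e1, e2, Matrix.mul_assoc P X X, eXX, Matrix.mul_add, Matrix.mul_smul, ePJ]
    module)
  have t1 : X.trace = n * b := by simp [trace, eX1, hn]
  have t2 : (P * X).trace = n + m * (b - 1) := by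
    have : ∀ α, (P * X) α α = 1 + N α B₀ * (b - 1) := fun α => by
      rw [ePM]
      by_cases h : inc α B₀
      · simp [hfix α h, eX1, N, h]
      · obtain ⟨h2, B, h3, h4⟩ := hmov α h
        simp [eX2 _ _ h2, N, h, show ∃ B, inc (π α) B ∧ inc α B from ⟨B, h4, h3⟩]
    simp [trace, this, Finset.sum_add_distrib, ← Finset.sum_mul, em, hn]
  rw [trace_sub, t1, trace_smul, show J.trace = n by simp [trace, J, hn], smul_eq_mul, div_mul_cancel₀ _ hn0] at hk₁
  rw [trace_sub, t1, t2] at hk₂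
  refine ⟨k₁ - 2 * k₂, ?_⟩
  have : (n : ℚ) - m = (b + m - 1 - c) * (k₁ - 2 * k₂) := by rw [← hθ]; linear_combination hk₁ - hk₂
  exact_mod_cast this

/-- the arithmetic -/
theorem pg_arith {q s b c : ℤ} (hq : 4 ≤ q) (h2 : Even q) (hs : q ∣ s) (hs0 : 0 < s) (hb : q ∣ b) (hc0 : 0 ≤ c)
    (hs2 : ∀ x, Odd x → IsCoprime x s)
    (h1 : c * ((s + 1) * (q - 1) * s) = (s + 1) * (s + 1 - 1) * (b - 1))
    (h3 : b + (s + 1) - 1 - c ≠ 0 → b + (s + 1) - 1 - c ∣ (s + 1) * (q - 1) * s) :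
    c = s + 1 ∧ b = q + (q - 1) * s := by
  have e1 : c * (q - 1) = b - 1 := by
    have : (s + 1) * s * (c * (q - 1) - (b - 1)) = 0 := by linear_combination h1
    have h4 : (s + 1) * s ≠ 0 := by positivity
    linarith [(mul_eq_zero.1 this).resolve_left h4]
  obtain ⟨s', rfl⟩ := hs
  obtain ⟨b', rfl⟩ := hb
  have e2 : c = 1 + q * (c - b') := by linear_combination -e1
  generalize c - b' = c' at e2
  have hc' : 0 ≤ c' := by nlinarith
  have e3 : q * b' + (q * s' + 1) - 1 - c = q * (s' + 1 + (q - 2) * c') - 1 := by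
    rw [e2] at e1 ⊢; linear_combination -e1
  rw [e3] at h3
  have hs' : 0 < s' := by nlinarith
  have hpos : q * s' + 1 < q * (s' + 1 + (q - 2) * c') - 1 := by nlinarith [mul_nonneg (by linarith : 0 ≤ q - 2) hc']
  obtain ⟨g, hg⟩ := (hs2 _ ((h2.mul_right _).sub_odd odd_one)).dvd_of_dvd_mul_right (h3 (by nlinarith))
  have hg0 : 0 < g := by nlinarith
  have hg1 : g < q - 1 := by nlinarith
  have hg2 : g - 1 = q * (g * (s' + 1 + (q - 2) * c') - (s' * (q - 1) + 1)) := by linear_combination hg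
  have hg3 : g = 1 := by
    generalize g * (s' + 1 + (q - 2) * c') - (s' * (q - 1) + 1) = y at hg2
    have : y = 0 := by nlinarith
    rw [this] at hg2; linarith
  subst hg3
  have e4 : c' = s' := by
    have : q * (q - 2) * (c' - s') = 0 := by linear_combination -hg
    have h4 : q * (q - 2) ≠ 0 := by nlinarith
    linarith [(mul_eq_zero.1 this).resolve_left h4]
  subst e4
  refine ⟨by linarith, ?_⟩
  rw [e2] at e1; linear_combination -e1

end Cfsg.Lib.R1
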