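import Cfsg.Agent.Lib.R1.Spl
import Cfsg.Agent.Lib.Small.Order24

/-!
Automorphisms of 2-groups with a unique involution.
-/

set_option autoImplicit false
set_option linter.unusedSectionVars false
set_option linter.unusedVariables false

namespace Cfsg.Lib.R1
open Subgroup Cfsg.Lib Cfsg.Lib.FT

variable {G : Type*} [Group G] [Finite G]

/-- at most one involution -/
def U1 (T : Subgroup G) : Prop := ∀ x ∈ T, ∀ y ∈ T, orderOf x = 2 → orderOf y = 2 → x = y

theorem U1.sub {T : Subgroup G} (h : U1 T) (x y : T) (hx : orderOf x = 2) (hy : orderOf y = 2) : x = y :=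
  Subtype.ext (h x x.2 y y.2 ((orderOf_coe x).trans hx) ((orderOf_coe y).trans hy))

theorem U1.le_C {T A : Subgroup G} (h : U1 T) (hT : IsPGroup 2 T) {p : ℕ} [hp : Fact p.Prime] (h5 : 5 ≤ p)
    (hA : IsPGroup p A) (hn : A ≤ N[T]) : A ≤ C[T] := by
  have ho : ¬ 2 ∣ Nat.card A := by
    obtain ⟨k, hk⟩ := IsPGroup.iff_card.1 hA
    exact fun e => by
      have := (Nat.prime_dvd_prime_iff_eq Nat.prime_two hp.out).1 (Nat.prime_two.dvd_of_dvd_pow (hk ▸ e)); omega
  rcases pg_two_group_unique_involution hT h.sub with hc | ⟨m, a, b, hm, h1, h2, h3, h4, h6, h7⟩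
  · exact ci_le_centralizer hc hT ho hn
  obtain ⟨m, rfl⟩ := Nat.exists_eq_add_of_le' hm
  have h8 : ∀ x : T, x * x ∈ zpowers (a * a) := fun x => by
    have key : ∀ k : ℤ, a ^ k * a ^ k ∈ zpowers (a * a) := fun k => ⟨k, (Commute.refl a).mul_zpow k⟩
    by_cases hx : x ∈ zpowers a
    · obtain ⟨k, rfl⟩ := hx; exact key k
    obtain ⟨k, hk⟩ := (mul_mem_iff_of_index_two h3).2 (iff_of_false (mt (inv_mem_iff.1) h4) hx)
    have h9 : b * a ^ k * b⁻¹ = (a ^ k)⁻¹ := by rw [← conj_zpow, h7, inv_zpow]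
    obtain rfl : x = b * a ^ k := by rw [show a ^ k = _ from hk, mul_inv_cancel_left]
    rw [show b * a ^ k * (b * a ^ k) = b * a ^ k * b⁻¹ * b ^ 2 * a ^ k by group, h9, h6]
    refine ⟨(2 ^ m : ℕ), ?_⟩
    simp only [← sq, zpow_natCast, ← pow_mul]
    group
  have hV : zpowers ((a * a : T) : G) ≤ T ⊓ C[A] := le_inf (zpowers_le.2 (a * a).2)
    (le_centralizer_symm (ci_le_centralizer inferInstance (isPGroup_zpowers hT (a * a).2) ho fun g hg =>
      mem_normalizer_fintype fun x hx => by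
        obtain ⟨k, rfl⟩ := hx
        obtain ⟨j, hj⟩ := h8 ⟨_, (mem_normalizer_iff.1 (hn hg) a).1 a.2⟩
        rw [← conj_zpow]
        refine zpow_mem (mem_zpowers_iff.2 ⟨j, ?_⟩) k
        simpa [conj_mul] using congrArg Subtype.val hj))
  have h9 := card_dvd_of_le hV
  have h10 := card_dvd_of_le (inf_le_left (a := T) (b := C[A]))
  have h11 := (sm_card_modEq_card_inf_centralizer hA hn).symm
  rw [Nat.card_zpowers, orderOf_coe, ← sq, orderOf_pow_of_dvd two_ne_zero (by rw [h2]; exact dvd_pow_self 2 (by omega)),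
    h2, pow_succ, Nat.mul_div_cancel _ two_pos] at h9
  refine le_centralizer_symm (inf_eq_left.1 (eq_of_le_of_card_ge inf_le_left ?_))
  obtain ⟨c, hc⟩ := h9
  rw [h1, hc, pow_add _ _ 2] at h10 h11 ⊢
  have h12 := Nat.le_of_dvd (by norm_num) (Nat.dvd_of_mul_dvd_mul_left (by positivity) h10)
  have h13 := (Nat.modEq_iff_dvd' (Nat.mul_le_mul_left _ h12)).1 h11
  rw [← Nat.mul_sub] at h13
  have h14 := (hp.out.dvd_mul.1 h13).resolve_left fun e => by
    have := Nat.le_of_dvd two_pos (hp.out.dvd_of_dvd_pow e); omega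
  by_contra! h15
  have h16 := Nat.lt_of_mul_lt_mul_left h15
  have := Nat.le_of_dvd (by omega) h14
  omega

theorem U1.solv {T : Subgroup G} [T.Normal] (h : U1 T) (hT : IsPGroup 2 T) (hC : Group.IsSolvable C[T]) :
    Group.IsSolvable G := by
  refine isSolvable_of_normal_quotient C[T] hC (burnside_solvable_of_card_dvd (a := C[T].index) (b := C[T].index)
    Nat.prime_two Nat.prime_three ((Nat.dvd_iff_prime_pow_dvd_dvd _ _).2 fun p k hp hk => ?_))
  rcases k with _ | k
  · simp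
  have := Fact.mk hp
  have h1 : p ^ (k + 1) ∣ p ^ C[T].index :=
    pow_dvd_pow _ ((Nat.lt_pow_self hp.one_lt).le.trans (Nat.le_of_dvd Nat.card_pos hk))
  by_cases h5 : 5 ≤ p
  · obtain ⟨P⟩ : Nonempty (Sylow p G) := inferInstance
    exact (not_dvd_index_of_sylow_le P (h.le_C hT h5 P.isPGroup' le_normalizer_of_normal)
      ((dvd_pow_self p k.succ_ne_zero).trans hk)).elim
  have := hp.two_le
  obtain rfl | rfl | rfl : p = 2 ∨ p = 3 ∨ p = 4 := by omega
  exacts [h1.mul_right _, h1.mul_left _, absurd hp (by norm_num)]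

end Cfsg.Lib.R1
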