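import Cfsg.Agent.Lib.R1.Semi

/-!
Two fusion lemmas for involutions lying in a unique Sylow 2-subgroup.
-/

set_option autoImplicit false
set_option linter.unusedSectionVars false
set_option linter.unusedVariables false

namespace Cfsg.Lib.R1
open Subgroup Cfsg.Lib Cfsg.Lib.FT

variable {G : Type*} [Group G] [Finite G]

theorem Syl.le_of_normal {S N : Subgroup G} (hS : Syl S) [N.Normal] (hN : IsPGroup 2 N) : N ≤ S := by
  obtain ⟨g, -, h⟩ := hS.exists_conj_le hN le_top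
  rwa [conj_eq_iff_mem_normalizer.2 (le_normalizer_of_normal (mem_top g))] at h

theorem le_kS_of_normal {N : Subgroup G} [N.Normal] (hN : IsPGroup 2 N) : N ≤ kS G :=
  fun _ hx _ hT => le_normalizer (hT.le_of_normal hN hx)

theorem uniq_map {X : Type*} [Group X] {f : G →* X} (hf : Function.Surjective f) (hk : f.ker ≤ kS G) {v : G}
    (h2 : IsPGroup 2 (zpowers v)) (hv : UniqSyl v) : UniqSyl (f v) := fun P Q hP hQ h3 h4 => by
  obtain ⟨T, hT, rfl⟩ := Syl.exists_map hP hf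
  obtain ⟨U, hU, rfl⟩ := Syl.exists_map hQ hf
  rw [hv T U hT hU (hT.mem_of_map hk h2 h3) (hU.mem_of_map hk h2 h4)]

theorem uniq_mem {S : Subgroup G} (hS : Syl S) {v w : G} (hv : UniqSyl v) (h1 : v ∈ S) (h2 : w * w = 1)
    (hc : w * v = v * w) : w ∈ S :=
  hS.mem_of_norm (isPGroup_sq h2) (UniqSyl.norm hv hS h1 (by rwa [hc, mul_inv_cancel_right]))

theorem uniq_solv {X : Subgroup G} {v : G} (hv : UniqSyl v) (h2 : v * v = 1) (hX : v ∈ X) :
    Group.IsSolvable C[X] := by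
  obtain ⟨S, hS, h1⟩ := exists_syl (isPGroup_sq h2)
  exact isSolvable_of_le (fun g hg => UniqSyl.norm hv hS h1
    (by rwa [← mem_centralizer_iff.1 hg v hX, mul_inv_cancel_right])) hS.solv_N

theorem zh_or_bot {S U : Subgroup G} (hS : Syl S) (h1 : U ≤ oz S) (h2 : N[S] ≤ N[U])
    (h3 : ∀ z ∈ U, z ≠ 1 → UniqSyl z) (h4 : ∀ z ∈ U, InZStar 2 z → z = 1) :
    U = ⊥ ∨ ∃ D : Set G, ZH D ∧ ∀ x, x ∈ D ∧ x ∈ S ↔ x ∈ U ∧ x ≠ 1 := by
  refine or_iff_not_imp_left.2 fun h5 => ZH.of_subgroup hS (fun x hx => (h1 hx).1) (fun x hx => (h1 hx).2) h2 h3 ?_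
  obtain ⟨z, hz, z1⟩ := (bot_or_exists_ne_one _).resolve_left h5
  by_contra! h6
  obtain ⟨S, rfl⟩ := hS.exists_sylow_top
  exact z1 (h4 z hz (zstar (by rw [sq, (h1 hz).2]) (isIsolated_of_sylow S (h1 hz).1.1 fun g hg =>
    h6 _ ((mem_normalizer_iff.1 (h2 (UniqSyl.norm (h3 z hz z1) hS (h1 hz).1.1 hg)) z).1 hz) z hz (by simpa using z1) z1)))

theorem conj_eq_of_uniq {S : Subgroup G} (hS : Syl S) {z v g : G} (hz : z ∈ oz S)
    (hf : ∀ m ∈ N[S], m * z * m⁻¹ = z) (h1 : v ∈ S) (hv : UniqSyl v)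
    (hc : g * z * g⁻¹ * v = v * (g * z * g⁻¹)) : g * z * g⁻¹ = z := by
  have h2 : IsSylowIn 2 (g •ᶜ S) C1[g * z * g⁻¹] := (hS.conj g).mono
    (fun y hy => mem_C1.2 (oz_comm (oz_conj hz g) hy)) le_top
  obtain ⟨c, hc1, h3⟩ := h2.exists_conj_le (isPGroup_zpowers hS.isPGroup h1) (zpowers_le.2 (mem_C1.2 hc.symm))
  have h4 := h3 (conj_mem_conj (mem_zpowers v) c)
  have h5 := hf _ (inv_mem (UniqSyl.norm (g := g⁻¹ * c) hv hS h1 (by simpa [mul_assoc] using mem_map_conj.1 h4)))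
  calc _ = c⁻¹ * (c * (g * z * g⁻¹)) := by group
    _ = _ := by rw [mem_C1.1 hc1]; exact Eq.trans (by group) h5

theorem exists_conj_ne {S : Subgroup G} (hS : Syl S) {z : G} (hz : z ∈ oz S) (h : ¬ InZStar 2 z) :
    ∃ g : G, g * z * g⁻¹ ∈ S ∧ g * z * g⁻¹ ≠ z := by
  by_contra! h6
  obtain ⟨S, rfl⟩ := hS.exists_sylow_top
  exact h (zstar (by rw [sq, hz.2]) (isIsolated_of_sylow S hz.1.1 h6))

theorem mem_solvRad_of_inZStar {z : G} (h : InZStar 2 z) : z ∈ solvRad G :=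
  le_solvRad inferInstance (isSolvable_comap (QuotientGroup.mk' (pPrimeCore 2 G)) (center _)
    (by rw [QuotientGroup.ker_mk']; exact isSolvable_of_not_two_dvd not_dvd_card_pPrimeCore)
    (isSolvable_of_isMulCommutative inferInstance)) (mem_center_iff.2 fun g => by
      obtain ⟨g, rfl⟩ := QuotientGroup.mk'_surjective _ g
      have := (QuotientGroup.eq_one_iff _).2 (h g)
      simpa [mul_inv_eq_one, mul_inv_eq_iff_eq_mul] using this)

end Cfsg.Lib.R1
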