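import Cfsg.Agent.Lib.CI.Main
import Cfsg.Agent.Lib.FT.GW.Count
import Cfsg.Agent.Lib.Cor.Tools8

/-!
Invariant sets of 2-central involutions lying in a unique Sylow 2-subgroup: basic facts.
-/

set_option autoImplicit false
set_option linter.unusedSectionVars false

namespace Cfsg.Lib.R1
open Subgroup Cfsg.Lib Cfsg.Lib.FT

variable {G : Type*} [Group G]

/-- Sylow 2-subgroup -/
abbrev Syl (S : Subgroup G) : Prop := IsSylowIn 2 S ⊤

/-- the hypothesis on the set `D` -/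
structure ZH (D : Set G) : Prop where
  sq : ∀ d ∈ D, d * d = 1
  ne : ∀ d ∈ D, d ≠ 1
  conj : ∀ d ∈ D, ∀ g : G, g * d * g⁻¹ ∈ D
  uniq : ∀ d ∈ D, UniqSyl d
  cent : ∀ d ∈ D, ∀ T, Syl T → d ∈ T → d ∈ C[T]
  mul : ∀ d ∈ D, ∀ e ∈ D, d ≠ e → d * e = e * d → d * e ∈ D
  two : ∃ d ∈ D, ∃ e ∈ D, d ≠ e ∧ d * e = e * d

/-- the intersection of two distinct Sylow 2-subgroups is `O₂(G)` -/
def TIm (G : Type*) [Group G] : Prop := ∀ S T U : Subgroup G, Syl S → Syl T → Syl U → S ≠ T → S ⊓ T ≤ U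

theorem Syl.conj {S : Subgroup G} (h : Syl S) (g : G) : Syl (g •ᶜ S) := IsSylowIn.conj_top h g

theorem inv_eq {a : G} (h : a * a = 1) : a⁻¹ = a := inv_eq_of_mul_eq_one_right h

theorem cl {a : G} (h : a * a = 1) (x : G) : a * (a * x) = x := by rw [← mul_assoc, h, one_mul]

variable [Finite G]

theorem isPGroup_zpowers {x : G} {X : Subgroup G} (hX : IsPGroup 2 X) (hx : x ∈ X) :
    IsPGroup 2 (zpowers x) := hX.to_le (zpowers_le.2 hx)

theorem isPGroup_sq {x : G} (hx : x * x = 1) : IsPGroup 2 (zpowers x) :=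
  elemAb_isPGroup (elemAb_zpowers (by rw [sq, hx]))

theorem Syl.mem_of_norm {S : Subgroup G} (h : Syl S) {x : G} (hx : IsPGroup 2 (zpowers x))
    (hn : x ∈ N[S]) : x ∈ S :=
  h.le_of_le_normalizer hx le_top (zpowers_le.2 hn) (mem_zpowers x)

theorem exists_syl {x : G} (hx : IsPGroup 2 (zpowers x)) : ∃ T, Syl T ∧ x ∈ T := by
  obtain ⟨T, hT, h⟩ := exists_isSylowIn_ge hx le_top
  exact ⟨T, hT, h (mem_zpowers x)⟩

theorem Syl.exists_conj' {S T : Subgroup G} (h : Syl S) (h' : Syl T) : ∃ g, g •ᶜ S = T := by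
  obtain ⟨g, -, e⟩ := h.exists_conj h'; exact ⟨g, e⟩

theorem exists_syl_pair {a b : G} (ha : a * a = 1) (hb : b * b = 1) (h : a * b = b * a) :
    ∃ T, Syl T ∧ a ∈ T ∧ b ∈ T := by
  have := elemAb_sup (p := 2) (elemAb_zpowers (x := b) (by rw [sq, hb])) (elemAb_zpowers (x := a) (by rw [sq, ha]))
    (by rw [centralizer_zpowers]; exact zpowers_le.2 (mem_C1.2 h.symm))
  obtain ⟨P, hP, hle⟩ := exists_isSylowIn_ge (elemAb_isPGroup this) le_top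
  exact ⟨P, hP, hle (mem_sup_right (mem_zpowers a)), hle (mem_sup_left (mem_zpowers b))⟩

theorem exists_invol_pow {x : G} (hx : IsPGroup 2 (zpowers x)) (h1 : x ≠ 1) :
    ∃ v ∈ zpowers x, v * v = 1 ∧ v ≠ 1 := by
  obtain ⟨v, hv, h2⟩ := exists_mem_orderOf_eq_of_dvd (p := 2) (H := zpowers x) (by
    obtain ⟨n, hn⟩ := IsPGroup.iff_card.1 hx
    rcases n with _ | n
    · exact absurd (zpowers_eq_bot.1 (card_eq_one.1 hn)) h1
    · rw [hn]; exact dvd_pow_self 2 n.succ_ne_zero)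
  exact ⟨v, hv, ci_mul_self h2, ne_one_of_orderOf_two h2⟩

theorem dih_inv {a c : G} (ha : a * a = 1) (hc : c * c = 1) (n : ℕ) :
    a * (a * c) ^ n = ((a * c) ^ n)⁻¹ * a ∧ c * (a * c) ^ n = ((a * c) ^ n)⁻¹ * c := by
  have key : ∀ s : G, s * (a * c) * s⁻¹ = (a * c)⁻¹ → s * (a * c) ^ n = ((a * c) ^ n)⁻¹ * s := fun s hs => by
    rw [← inv_pow, ← hs, conj_pow]; group
  refine ⟨key a ?_, key c ?_⟩
  · rw [mul_inv_rev, inv_eq ha, inv_eq hc, cl ha]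
  · rw [mul_inv_rev, inv_eq ha, inv_eq hc, mul_assoc, mul_assoc, hc, mul_one]

/-- odd product: a conjugate of `a` interchanges `a` and `c` -/
theorem dih_odd {a c : G} (ha : a * a = 1) (hc : c * c = 1) (ho : Odd (orderOf (a * c))) :
    ∃ g w : G, w = g * a * g⁻¹ ∧ w * a * w = c ∧ ∀ x, Commute x a → Commute x c → Commute x w := by
  obtain ⟨j, hj⟩ := Suz.exists_sqrt_of_odd ho
  obtain ⟨i, hi⟩ := Suz.exists_sqrt_of_odd (d := (a * c) ^ j) (ho.of_dvd_nat (orderOf_pow_dvd j))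
  rw [← pow_mul] at hi
  refine ⟨((a * c) ^ (j * i))⁻¹, a * (a * c) ^ j, ?_, ?_, fun x h1 h2 => h1.mul_right ((h1.mul_right h2).pow_right j)⟩
  · rw [inv_inv, ← (dih_inv ha hc _).1, mul_assoc, hi]
  · calc a * (a * c) ^ j * a * (a * (a * c) ^ j) = a * ((a * c) ^ j * (a * (a * (a * c) ^ j))) := by group
      _ = c := by rw [cl ha, hj, cl ha]

/-- even product: the central involution -/
theorem dih_even {a c : G} (ha : a * a = 1) (hc : c * c = 1) (ho : ¬ Odd (orderOf (a * c))) :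
    ∃ u : G, u * u = 1 ∧ u ≠ 1 ∧ u * a = a * u ∧ u * c = c * u ∧
      ((∃ g, g * c * g⁻¹ = c * u) ∧ (∃ g, g * a * g⁻¹ = a * u) ∨ ∃ g, g * c * g⁻¹ = a * u) := by
  obtain ⟨m, hm⟩ := Nat.not_odd_iff_even.1 ho
  have hpos := orderOf_pos (a * c)
  have h1 : (a * c) ^ m * (a * c) ^ m = 1 := by rw [← pow_add, ← hm, pow_orderOf_eq_one]
  refine ⟨(a * c) ^ m, h1, pow_ne_one_of_lt_orderOf (by omega) (by omega), ?_, ?_, ?_⟩
  · rw [(dih_inv ha hc m).1, inv_eq h1]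
  · rw [(dih_inv ha hc m).2, inv_eq h1]
  rcases Nat.even_or_odd' m with ⟨j, rfl | rfl⟩
  · refine Or.inl ⟨⟨((a * c) ^ j)⁻¹, ?_⟩, ⟨((a * c) ^ j)⁻¹, ?_⟩⟩
    · rw [inv_inv, ← (dih_inv ha hc _).2, mul_assoc, ← pow_add, two_mul]
    · rw [inv_inv, ← (dih_inv ha hc _).1, mul_assoc, ← pow_add, two_mul]
  · refine Or.inr ⟨((a * c) ^ j)⁻¹, ?_⟩
    rw [inv_inv, ← (dih_inv ha hc _).2, mul_assoc, ← pow_add, pow_succ', mul_assoc a c, cl ha, ← two_mul]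

namespace ZH

variable {D : Set G} (h : ZH D)
include h

theorem eq {d : G} (hd : d ∈ D) {S T : Subgroup G} (hS : Syl S) (hT : Syl T) (h1 : d ∈ S) (h2 : d ∈ T) :
    S = T := h.uniq d hd S T hS hT h1 h2

theorem conj' {d : G} (hd : d ∈ D) (g : G) : g⁻¹ * d * g ∈ D := by simpa using h.conj d hd g⁻¹

theorem comm {d x : G} (hd : d ∈ D) {S : Subgroup G} (hS : Syl S) (h1 : d ∈ S) (hx : x ∈ S) :
    x * d = d * x := mem_centralizer_iff.1 (h.cent d hd S hS h1) x hx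

theorem norm {d g : G} (hd : d ∈ D) {S : Subgroup G} (hS : Syl S) (h1 : d ∈ S) (h2 : g * d * g⁻¹ ∈ S) :
    g ∈ N[S] :=
  conj_eq_iff_mem_normalizer.1 (h.eq (h.conj d hd g) (hS.conj g) hS (conj_mem_conj h1 g) h2)

theorem norm_of_comm {d g : G} (hd : d ∈ D) {S : Subgroup G} (hS : Syl S) (h1 : d ∈ S) (e : g * d = d * g) :
    g ∈ N[S] := h.norm hd hS h1 (by rwa [e, mul_inv_cancel_right])

theorem mem_of_comm {d x : G} (hd : d ∈ D) {S : Subgroup G} (hS : Syl S) (h1 : d ∈ S)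
    (hx : IsPGroup 2 (zpowers x)) (e : x * d = d * x) : x ∈ S :=
  hS.mem_of_norm hx (h.norm_of_comm hd hS h1 e)

theorem exists_pt {d : G} (hd : d ∈ D) : ∃ T, Syl T ∧ d ∈ T := exists_syl (isPGroup_sq (h.sq d hd))

theorem exists_two {S : Subgroup G} (hS : Syl S) : ∃ d ∈ D, ∃ e ∈ D, d ∈ S ∧ e ∈ S ∧ d ≠ e := by
  obtain ⟨d, hd, e, he, hne, hc⟩ := h.two
  obtain ⟨T, hT, h1, h2⟩ := exists_syl_pair (h.sq d hd) (h.sq e he) hc
  obtain ⟨g, rfl⟩ := hT.exists_conj' hS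
  exact ⟨_, h.conj d hd g, _, h.conj e he g, conj_mem_conj h1 g, conj_mem_conj h2 g, by simpa using hne⟩

theorem exists_ne {S : Subgroup G} (hS : Syl S) (z : G) : ∃ d ∈ D, d ∈ S ∧ d ≠ z := by
  obtain ⟨d, hd, e, he, h1, h2, hne⟩ := h.exists_two hS
  by_cases hz : d = z
  · exact ⟨e, he, h2, hz ▸ hne.symm⟩
  · exact ⟨d, hd, h1, hz⟩

theorem mul_mem' {d e : G} (hd : d ∈ D) (he : e ∈ D) {S : Subgroup G} (hS : Syl S) (h1 : d ∈ S) (h2 : e ∈ S)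
    (hne : d ≠ e) : d * e ∈ D := h.mul d hd e he hne (h.comm he hS h2 h1)

theorem odd_mul {d e : G} (hd : d ∈ D) (he : e ∈ D) {S T : Subgroup G} (hS : Syl S) (hT : Syl T)
    (h1 : d ∈ S) (h2 : e ∈ T) (hne : S ≠ T) : Odd (orderOf (d * e)) := by
  by_contra ho
  obtain ⟨u, hu, hu1, c1, c2, h3⟩ := dih_even (h.sq d hd) (h.sq e he) ho
  have uS := h.mem_of_comm hd hS h1 (isPGroup_sq hu) c1
  have uT := h.mem_of_comm he hT h2 (isPGroup_sq hu) c2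
  have h4 : d * u ∈ D := by
    rcases h3 with ⟨-, g, hg⟩ | ⟨g, hg⟩
    · exact hg ▸ h.conj d hd g
    · exact hg ▸ h.conj e he g
  have := h.mul_mem' hd h4 hS h1 (mul_mem h1 uS) (by simpa using hu1)
  rw [cl (h.sq d hd)] at this
  exact hne (h.eq this hS hT uS uT)

theorem swap {d e : G} (hd : d ∈ D) (he : e ∈ D) {S T : Subgroup G} (hS : Syl S) (hT : Syl T)
    (h1 : d ∈ S) (h2 : e ∈ T) (hne : S ≠ T) :
    ∃ w ∈ D, w * d * w⁻¹ = e ∧ w •ᶜ S = T ∧ ∀ x, Commute x d → Commute x e → Commute x w := by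
  obtain ⟨g, w, e1, e2, e3⟩ := dih_odd (h.sq d hd) (h.sq e he) (h.odd_mul hd he hS hT h1 h2 hne)
  have hw : w ∈ D := e1 ▸ h.conj d hd g
  have e4 : w * d * w⁻¹ = e := by rw [inv_eq (h.sq w hw), e2]
  exact ⟨w, hw, e4, h.eq he (hS.conj w) hT (e4 ▸ conj_mem_conj h1 w) h2, e3⟩

/-- two Sylow subgroups containing `X` are conjugate under `C(X)` -/
theorem exists_cent {S T X : Subgroup G} (hS : Syl S) (hT : Syl T) (h1 : X ≤ S) (h2 : X ≤ T) :
    ∃ w ∈ C[X], w •ᶜ S = T := by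
  by_cases hne : S = T
  · exact ⟨1, one_mem _, by rw [hne, map_conj_one]⟩
  obtain ⟨d, hd, dS, -⟩ := h.exists_ne hS 1
  obtain ⟨e, he, eT, -⟩ := h.exists_ne hT 1
  obtain ⟨w, -, -, e1, e2⟩ := h.swap hd he hS hT dS eT hne
  exact ⟨w, mem_centralizer_iff.2 fun x hx => e2 x (h.comm hd hS dS (h1 hx)) (h.comm he hT eT (h2 hx)), e1⟩

/-- an involution outside `D` and a point it moves -/
theorem special {t : G} (ht : t * t = 1) (htD : t ∉ D) {T : Subgroup G} (hT : Syl T) (h1 : t ∉ T) :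
    ∃ d ∈ D, t * d = d * t ∧ t * d ∈ T := by
  obtain ⟨d, hd, dT, -⟩ := h.exists_ne hT 1
  by_cases ho : Odd (orderOf (d * t))
  · obtain ⟨g, w, e1, e2, -⟩ := dih_odd (h.sq d hd) ht ho
    have hw : w ∈ D := e1 ▸ h.conj d hd g
    exact absurd (by rw [← e2]; nth_rw 2 [← inv_eq (h.sq w hw)]; exact h.conj d hd w) htD
  have ho' : ¬ Odd (orderOf (t * d)) := by
    rwa [show t * d = (d * t)⁻¹ by rw [mul_inv_rev, inv_eq ht, inv_eq (h.sq d hd)], orderOf_inv]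
  obtain ⟨u, hu, hu1, c1, c2, h3⟩ := dih_even ht (h.sq d hd) ho'
  have uT := h.mem_of_comm hd hT dT (isPGroup_sq hu) c2
  rcases h3 with ⟨⟨g, hg⟩, -⟩ | ⟨g, hg⟩
  · have := h.mul_mem' hd (hg ▸ h.conj d hd g) hT dT (mul_mem dT uT) (by simpa using hu1)
    rw [cl (h.sq d hd)] at this
    exact absurd (h.mem_of_comm this hT uT (isPGroup_sq ht) c1.symm) h1
  · refine ⟨t * u, hg ▸ h.conj d hd g, by rw [mul_assoc, c1], by rwa [cl ht]⟩

end ZH

/-- `Z_S` -/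
def ZH.zs {D : Set G} (h : ZH D) {S : Subgroup G} (hS : Syl S) : Subgroup G where
  carrier := {x | x = 1 ∨ (x ∈ D ∧ x ∈ S)}
  one_mem' := Or.inl rfl
  mul_mem' := by
    rintro a b (rfl | ⟨ha, ha'⟩) (rfl | ⟨hb, hb'⟩)
    · exact Or.inl (one_mul 1)
    · exact Or.inr (by rw [one_mul]; exact ⟨hb, hb'⟩)
    · exact Or.inr (by rw [mul_one]; exact ⟨ha, ha'⟩)
    · by_cases e : a = b
      · exact Or.inl (e ▸ h.sq a ha)
      · exact Or.inr ⟨h.mul_mem' ha hb hS ha' hb' e, mul_mem ha' hb'⟩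
  inv_mem' := by
    rintro a (rfl | ⟨ha, ha'⟩)
    · exact Or.inl inv_one
    · exact Or.inr (by rw [inv_eq (h.sq a ha)]; exact ⟨ha, ha'⟩)

namespace ZH

variable {D : Set G} (h : ZH D) {S : Subgroup G} (hS : Syl S)

theorem mem_zs {x : G} : x ∈ h.zs hS ↔ x = 1 ∨ (x ∈ D ∧ x ∈ S) := Iff.rfl

theorem zs_le : h.zs hS ≤ S := by
  rintro x (rfl | hx)
  exacts [one_mem _, hx.2]

theorem zs_sq {x : G} (hx : x ∈ h.zs hS) : x * x = 1 := by
  rcases hx with rfl | hx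
  exacts [one_mul 1, h.sq x hx.1]

theorem zs_comm {x y : G} (hx : x ∈ h.zs hS) (hy : y ∈ S) : y * x = x * y := by
  rcases hx with rfl | hx
  exacts [by simp, h.comm hx.1 hS hx.2 hy]

theorem zs_conj {x g : G} (hx : x ∈ h.zs hS) (hg : g ∈ N[S]) : g * x * g⁻¹ ∈ h.zs hS := by
  rcases hx with rfl | hx
  exacts [Or.inl (by simp), Or.inr ⟨h.conj x hx.1 g, (mem_normalizer_iff.1 hg x).1 hx.2⟩]

theorem zs_eq_one {x : G} (hx : x ∈ h.zs hS) {T : Subgroup G} (hT : Syl T) (hne : S ≠ T) (h2 : x ∈ T) :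
    x = 1 := hx.resolve_right fun hx => hne (h.eq hx.1 hS hT hx.2 h2)

theorem card_zs : ∃ n, 2 ≤ n ∧ Nat.card (h.zs hS) = 2 ^ n := by
  obtain ⟨n, hn⟩ := IsPGroup.iff_card.1 (hS.isPGroup.to_le (h.zs_le hS))
  refine ⟨n, ?_, hn⟩
  obtain ⟨d, hd, e, he, h1, h2, hne⟩ := h.exists_two hS
  have : 2 < Nat.card (h.zs hS) := by
    rw [← GW.ncard_coe]
    exact (Set.two_lt_ncard (Set.toFinite _)).2 ⟨1, Or.inl rfl, d, Or.inr ⟨hd, h1⟩, e, Or.inr ⟨he, h2⟩,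
      (h.ne d hd).symm, (h.ne e he).symm, hne⟩
  rw [hn] at this
  by_contra h3
  have : n = 0 ∨ n = 1 := by omega
  rcases this with rfl | rfl <;> simp at this

theorem ncard_zs : {x | x ∈ D ∧ x ∈ S}.ncard + 1 = Nat.card (h.zs hS) := by
  rw [← GW.ncard_coe, ← Set.ncard_insert_of_notMem (a := 1) (fun e => h.ne 1 e.1 rfl)]
  rfl

end ZH

end Cfsg.Lib.R1
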