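import Cfsg.Agent.Lib.R1.ZGeom

/-!
A special case of Aschbacher's criterion for strong embedding.
-/

set_option autoImplicit false
set_option linter.unusedSectionVars false
set_option linter.unusedVariables false

namespace Cfsg.Lib.R1
open Subgroup Cfsg.Lib Cfsg.Lib.FT

universe u

variable {G : Type*} [Group G] [Finite G]

theorem exists_index_two_avoid {A B : Subgroup G} (hAB : A ≤ B) (hsq : ∀ x ∈ B, x * x ∈ A) {t : G} (ht : t ∈ B)
    (htA : t ∉ A) : ∃ M : Subgroup G, A ≤ M ∧ t ∉ M ∧ M.relIndex B = 2 := by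
  obtain ⟨M, hAM, hM, hmax⟩ := Finite.exists_le_maximal (p := fun M => M ≤ B ∧ t ∉ M) ⟨hAB, htA⟩
  refine ⟨M, hAM, hM.2, relIndex_eq_two_iff_exists_notMem_and.2 ⟨t, ht, hM.2, fun x hx => ?_⟩⟩
  by_contra! hh
  have cj : ∀ m ∈ M, x⁻¹ * m * x ∈ M := fun m hm => by
    have := mul_mem (mul_mem (inv_mem (hAM (hsq x hx))) (hAM (hsq _ (mul_mem hx (hM.1 hm))))) (inv_mem hm)
    simpa [mul_assoc] using this
  let M' : Subgroup G :=
    { carrier := {g | g ∈ M ∨ x⁻¹ * g ∈ M}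
      one_mem' := Or.inl (one_mem _)
      mul_mem' := by
        rintro g h (hg | hg) (hh | hh)
        · exact Or.inl (mul_mem hg hh)
        · exact Or.inr (by simpa [mul_assoc] using mul_mem (cj g hg) hh)
        · exact Or.inr (by simpa [mul_assoc] using mul_mem hg hh)
        · exact Or.inl (by simpa [mul_assoc] using mul_mem (mul_mem (hAM (hsq x hx)) (cj _ hg)) hh)
      inv_mem' := by
        rintro g (hg | hg)
        · exact Or.inl (inv_mem hg)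
        · refine Or.inr ?_
          simpa [mul_assoc] using mul_mem (cj _ (inv_mem hg)) (inv_mem (hAM (hsq x hx))) }
  refine hh.2 (hmax (y := M') ⟨?_, ?_⟩ (fun g hg => Or.inl hg) (Or.inr (by simp)))
  · rintro g (hg | hg)
    · exact hM.1 hg
    · simpa using mul_mem hx (hM.1 hg)
  · rintro (hg | hg)
    · exact hM.2 hg
    · exact hh.1 (by simpa [mul_assoc] using mul_mem (hAM (hsq x hx)) hg)

theorem eq_of_card_two {R : Subgroup G} (h : Nat.card R = 2) {t v : G} (ht : t ∈ R) (t1 : t ≠ 1) (hv : v ∈ R) :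
    v = 1 ∨ v = t := by
  by_contra! hh
  have := (Set.two_lt_ncard (Set.toFinite (R : Set G))).2 ⟨1, one_mem _, t, ht, v, hv, t1.symm, hh.1.symm, hh.2.symm⟩
  rw [GW.ncard_coe] at this
  omega

theorem ncard_coset (x : G) (A : Subgroup G) : {y | x⁻¹ * y ∈ A}.ncard = Nat.card A := by
  rw [← GW.ncard_coe, ← Set.ncard_image_of_injective (A : Set G) (mul_right_injective x)]
  congr 1
  ext y
  exact ⟨fun h => ⟨_, h, by simp⟩, by rintro ⟨a, ha, rfl⟩; simpa using ha⟩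

theorem eq_one_of_odd_mul {a o₁ o₂ x : ℕ} (h : 2 ^ a * o₁ = o₂ * x) (h2 : Odd o₂) (hx : Odd x) : 2 ^ a = 1 := by
  rcases a with _ | a
  · rfl
  · have := h2.mul hx
    rw [← h, pow_succ', mul_assoc] at this
    exact absurd this (by simp)

/-- the involutions of `S` lying in a second Sylow subgroup -/
def bad (S R : Subgroup G) : Set G := {x | x ≠ 1 ∧ ∃ m ∈ N[S], x ∈ m •ᶜ R}

namespace Cx

variable {D : Set G} {S T K : Subgroup G} (c : Cx D S T K) {t : G}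
include c

local notation "R" => S ⊓ T
local notation "P" => S ⊓ N[S ⊓ T]
local notation "Z" => ZH.zs c.mc.toZH c.hS
local notation "N₂" => ZH.n2 c.mc.toZH c.hS
local notation "I" => bad S (S ⊓ T)

theorem bad_S {y : G} (hy : y ∈ I) : y ∈ S := by
  obtain ⟨-, m, hm, h⟩ := hy
  exact map_conj_le_of_mem_normalizer inf_le_left hm h

theorem bad_sq {y : G} (hy : y ∈ I) : y * y = 1 := by
  obtain ⟨-, m, hm, v, hv, rfl⟩ := hy
  rw [← map_mul, c.R_sq hv, map_one]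

theorem bad_Z {y : G} (hy : y ∈ I) : y ∉ Z := fun hz => by
  obtain ⟨h1, m, -, h⟩ := hy
  exact h1 (c.Z_eq_one h hz)

theorem bad_cent {y m : G} (y1 : y ≠ 1) (hm : m ∈ N[S]) (hy : y ∈ m •ᶜ R) : S ⊓ C1[y] = m •ᶜ P := by
  obtain ⟨v, hv, rfl⟩ := hy
  rw [← c.P_eq hv (fun e => y1 (by rw [e, map_one])), conj_inf, conj_eq_iff_mem_normalizer.2 hm,
    conj_centralizer_singleton]
  rfl

theorem ncard_bad : (I).ncard = N[R].relIndex N[S] * (Nat.card ↥(R) - 1) := by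
  rw [← GW.ncard_conjs]
  refine ncard_fib (fun B x => x ∈ B) (fun y hy => ?_) ?_ ?_
  · obtain ⟨-, m, hm, h⟩ := hy
    exact ⟨_, ⟨m, hm, rfl⟩, h⟩
  · rintro _ ⟨m, -, rfl⟩ _ ⟨m', -, rfl⟩ y hy h1 h2
    exact c.conj_eq hy.1 h1 h2
  · rintro _ ⟨m, hm, rfl⟩
    rw [← card_conj m R, ← GW.ncard_coe, ← Set.ncard_sdiff_singleton_of_mem (one_mem _)]
    congr 1
    ext x
    exact ⟨fun h => ⟨h.2, h.1.1⟩, fun h => ⟨⟨h.2, m, hm, h.1⟩, h.1⟩⟩

theorem mem_ZR {y : G} (hy : y ∈ P) (h : y * y ∈ R) : y ∈ Z ⊔ R := by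
  obtain ⟨z, hz, h1⟩ := c.dec hy h
  simpa using mul_mem (mem_sup_left (T := R) (inv_mem hz)) (mem_sup_right h1)

theorem ncard_out : (Nat.card Z - 1) * (R).relIndex P * (Nat.card ↥(R) - 1) ≤ (I \ (P : Subgroup G)).ncard := by
  have h1 : (I ∩ (P : Subgroup G)).ncard ≤ Nat.card Z * Nat.card ↥(R) - Nat.card Z := by
    rw [← c.card_ZR, ← GW.ncard_diff le_sup_left]
    exact Set.ncard_le_ncard fun y hy => ⟨c.mem_ZR hy.2 (c.bad_sq hy.1 ▸ one_mem _), c.bad_Z hy.1⟩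
  have h2 := Set.ncard_inter_add_ncard_sdiff_eq_ncard I (P : Subgroup G)
  rw [c.ncard_bad, c.two_trans.1, add_mul] at h2
  rw [← Nat.mul_sub_one] at h1
  omega

theorem two_le_R : 2 ≤ Nat.card ↥(R) := (one_lt_card_iff_ne_bot _).2 c.nb

theorem P_eq_of (h : (R).relIndex P = Nat.card Z) : Z ⊔ R = P :=
  eq_of_le_of_card_ge (sup_le c.Z_P c.R_P) (by rw [c.card_ZR, ← relIndex_mul_card c.R_P, h])

theorem iota_eq (ht : t ∈ R) (t1 : t ≠ 1) : (P).relIndex S = Nat.card Z * (N₂ t).relIndex S := by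
  rw [← relIndex_mul_relIndex _ _ _ (c.P_le_n2 ht) (fun x hx => hx.1), c.relIndex_n2 ht t1]

theorem pow_relIndex (X : Subgroup G) {Y : Subgroup G} (hY : Y ≤ S) : ∃ a, X.relIndex Y = 2 ^ a := by
  obtain ⟨a, ha⟩ := IsPGroup.iff_card.1 (c.hS.isPGroup.to_le hY)
  obtain ⟨b, -, hb⟩ := (Nat.dvd_prime_pow Nat.prime_two).1 (ha ▸ relIndex_dvd_card X Y)
  exact ⟨b, hb⟩

theorem bad_comm {y v : G} (hy : y ∈ S) (hv : v ∈ R) (v1 : v ≠ 1) (h1 : y * y = 1) (h2 : y * v * (y * v) = 1) :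
    y ∈ P := by
  refine ⟨hy, c.cent_le v1 hv ?_⟩
  rw [eq_inv_of_mul_eq_one_left h2, mul_inv_rev, inv_eq h1, inv_eq (c.R_sq hv)]

theorem s_eq : (R).relIndex P = Nat.card Z := by
  by_contra hs
  obtain ⟨n, n2, hn⟩ := c.mc.card_zs c.hS
  have q4 := c.mc.four_le c.hS
  have r2 := c.two_le_R
  obtain ⟨t, ht, t1⟩ := (bot_or_exists_ne_one R).resolve_left c.nb
  have hN : ∀ v ∈ R, v ≠ 1 → (N₂ v).relIndex S = 1 := fun v hv v1 => by
    obtain ⟨o₁, o₂, -, ho, e⟩ := c.iota_b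
    obtain ⟨a, ha⟩ := c.pow_relIndex (N₂ v) le_rfl
    obtain ⟨s', hs'⟩ := c.q_dvd_s
    obtain ⟨j, hj⟩ := c.pow_relIndex R (inf_le_left (b := N[R]))
    have h1 : Even s' := by
      by_contra h1
      have := ((Nat.coprime_two_right.2 (Nat.not_even_iff_odd.1 h1)).pow_right j).eq_one_of_dvd
        (hj ▸ hs' ▸ dvd_mul_left _ _)
      exact hs (by rw [hs', this, mul_one])
    rw [c.iota_eq hv v1, c.two_trans.1, hs', ha] at e
    rw [ha]
    refine eq_one_of_odd_mul (o₁ := o₁) (Nat.eq_of_mul_eq_mul_left (by omega : 0 < Nat.card Z) ?_) ho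
      ((h1.mul_left (Nat.card Z - 1)).add_one)
    linear_combination e
  have hI : ∀ y ∈ I, ∀ x ∈ S, x * y * x⁻¹ * y⁻¹ ∈ Z := by
    rintro _ ⟨y1, m, hm, v, hv, rfl⟩ x hx
    have := c.mc.zs_conj c.hS (relIndex_eq_one.1 (hN v hv fun e => y1 (by rw [e, map_one]))
      ((mem_normalizer_iff''.1 hm x).1 hx)).2 hm
    simpa [mul_assoc] using this
  have h1 : (I \ (P : Subgroup G)).ncard * Nat.card ↥(R) ≤ {x | ∃ y ∈ I \ (P : Subgroup G), y⁻¹ * x ∈ R}.ncard :=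
    GW.ncard_mul_le (Set.toFinite _) (B := fun y => {x | y⁻¹ * x ∈ R}) (fun y hy x hx => ⟨y, hy, hx⟩)
      (fun y _ => (ncard_coset y R).ge) fun y hy y' hy' x h2 h3 => by
        by_contra h4
        refine hy.2 (c.bad_comm (c.bad_S hy.1) (mul_mem h2 (inv_mem h3)) (fun e => h4 ?_) (c.bad_sq hy.1) ?_)
        · simpa [mul_assoc, inv_mul_eq_one] using e
        · simpa [mul_assoc] using c.bad_sq hy'.1
  have h2 : {x | ∃ y ∈ I \ (P : Subgroup G), y⁻¹ * x ∈ R} ⊆ (S : Set G) \ (P : Subgroup G) := by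
    rintro x ⟨y, hy, h2⟩
    exact ⟨by simpa using mul_mem (c.bad_S hy.1) h2.1, fun h3 => hy.2
      (by simpa using mul_mem h3 (inv_mem (c.R_P h2)))⟩
  have h3 : ((S : Set G) \ (P : Subgroup G)).ncard = (Nat.card Z - 1) * (R).relIndex P * Nat.card ↥(R) := by
    rw [GW.ncard_diff inf_le_left, ← relIndex_mul_card (inf_le_left (a := S) (b := N[R])), c.iota_eq ht t1,
      hN t ht t1, mul_one, mul_assoc, relIndex_mul_card c.R_P, Nat.sub_one_mul]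
  have h4 := c.ncard_out
  have h5 := Set.ncard_le_ncard h2
  have hpos : 0 < (Nat.card Z - 1) * (R).relIndex P :=
    Nat.mul_pos (by omega) (Nat.pos_of_ne_zero index_ne_zero_of_finite)
  rw [h3] at h5
  generalize (Nat.card Z - 1) * (R).relIndex P = m at h3 h4 h5 hpos
  have hr : Nat.card ↥(R) = 2 := by
    have := Nat.le_of_mul_le_mul_left (Nat.le_of_mul_le_mul_right
      (((Nat.mul_le_mul_right _ h4).trans h1).trans (h5.trans_eq (by rw [mul_one])) :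
      m * (Nat.card ↥(R) - 1) * Nat.card ↥(R) ≤ m * 1 * Nat.card ↥(R)) (by omega)) hpos
    omega
  have h6 := Set.eq_of_subset_of_ncard_le h2 (by rw [h3]; rw [hr] at h1 h4 ⊢; omega)
  obtain ⟨y, hy⟩ : (I \ (P : Subgroup G)).Nonempty := Set.nonempty_of_ncard_ne_zero (by rw [hr] at h4; omega)
  have yy := c.bad_sq hy.1
  have φm : ∀ a ∈ S, ∀ b ∈ S, a * b * y * (a * b)⁻¹ * y⁻¹ = a * y * a⁻¹ * y⁻¹ * (b * y * b⁻¹ * y⁻¹) :=
    fun a ha b hb => by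
      rw [c.mc.zs_comm c.hS (hI y hy.1 b hb) (c.mc.zs_le c.hS (hI y hy.1 a ha))]
      calc _ = a * (b * y * b⁻¹ * y⁻¹) * (y * a⁻¹ * y⁻¹) := by group
        _ = _ := by rw [c.mc.zs_comm c.hS (hI y hy.1 b hb) ha]; group
  set z := t * y * t⁻¹ * y⁻¹ with hz
  have zZ : z ∈ Z := hI y hy.1 t ht.1
  have h7 : ∀ p ∈ P, (p * y * p⁻¹ * y⁻¹)⁻¹ * (p * p) ∈ zpowers z := fun p hp => by
    obtain ⟨y', hy', h7⟩ := h6.ge (show y * p ∈ (S : Set G) \ (P : Subgroup G) from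
      ⟨mul_mem (c.bad_S hy.1) hp.1, fun e => hy.2 (by simpa using mul_mem e (inv_mem hp))⟩)
    obtain ⟨w, hw, rfl⟩ : ∃ w ∈ R, y' = y * (p * w) := ⟨_, inv_mem h7, by group⟩
    have e1 : p * w * y * (p * w)⁻¹ * y⁻¹ = p * p := by
      have e2 := c.bad_sq hy'.1
      have e3 := mem_centralizer_iff.1 (c.R_C hw) p hp
      rw [← mul_assoc] at e2
      rw [inv_eq_of_mul_eq_one_left e2, mul_assoc _ y, mul_assoc y, cl yy, mul_assoc, mul_inv_cancel_right,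
        mul_assoc, ← mul_assoc w, ← e3, mul_assoc, c.R_sq hw, mul_one]
    rw [← e1, φm p hp.1 w hw.1, inv_mul_cancel_left]
    rcases eq_of_card_two hr ht t1 hw with rfl | rfl
    exacts [by simp, mem_zpowers _]
  have h8 : ∀ p ∈ P, ∀ p' ∈ P, p⁻¹ * (p'⁻¹ * p⁻¹ * p' * p) * p ∈ zpowers z := fun p hp p' hp' => by
    have := mul_mem (inv_mem (h7 _ (mul_mem hp' hp))) (mul_mem (h7 p' hp') (h7 p hp))
    rw [φm p' hp'.1 p hp.1] at this
    have e := c.mc.zs_comm c.hS (hI y hy.1 p hp.1)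
      (mul_mem (inv_mem (c.mc.zs_le c.hS (hI y hy.1 p' hp'.1))) (mul_mem hp'.1 hp'.1))
    generalize p * y * p⁻¹ * y⁻¹ = a at this e
    generalize p' * y * p'⁻¹ * y⁻¹ = b at this e
    convert this using 1
    calc _ = (p' * p * (p' * p))⁻¹ * b * (b⁻¹ * (p' * p') * a) * (a⁻¹ * (p * p)) := by group
      _ = _ := by rw [e]; group
  have h9 : ∀ p ∈ P, ∀ p' ∈ P, p⁻¹ * (p'⁻¹ * p⁻¹ * p' * p) * p = 1 := fun p hp p' hp' => by
    by_contra h9
    have h10 := ((GW.mem_zpowers_two (c.mc.zs_sq c.hS zZ)).1 (h8 p hp p' hp')).resolve_left h9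
    obtain ⟨d, hd, dS, h11⟩ := c.mc.exists_ne c.hS z
    have hzD := zZ.resolve_left (h10 ▸ h9)
    obtain ⟨k, hk, e⟩ := c.blk.tr z hzD.1 hzD.2 d hd dS
    have := h8 _ (conj_mem_of_le_normalizer c.blk.KS hk hp) _ (conj_mem_of_le_normalizer c.blk.KS hk hp')
    rw [show (k * p * k⁻¹)⁻¹ * ((k * p' * k⁻¹)⁻¹ * (k * p * k⁻¹)⁻¹ * (k * p' * k⁻¹) * (k * p * k⁻¹)) * (k * p * k⁻¹) =
      k * (p⁻¹ * (p'⁻¹ * p⁻¹ * p' * p) * p) * k⁻¹ by group, h10, e, GW.mem_zpowers_two (c.mc.zs_sq c.hS zZ)] at this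
    exact this.elim (c.mc.ne d hd) h11
  have h10 : P ≤ Z ⊔ R := fun p hp => c.mem_ZR hp (c.blk.b4 p hp fun p' hp' => by
    have := h9 p' hp' p hp
    rw [mul_assoc, inv_mul_eq_one, eq_comm, mul_eq_right] at this
    exact this ▸ one_mem _)
  have h11 := c.card_ZR
  rw [le_antisymm (sup_le c.Z_P c.R_P) h10, ← relIndex_mul_card c.R_P] at h11
  exact hs (Nat.eq_of_mul_eq_mul_right (by omega) h11)

theorem ZR_eq : Z ⊔ R = P := c.P_eq_of c.s_eq

theorem P_dec {p : G} (hp : p ∈ P) : ∃ z ∈ Z, ∃ r ∈ R, z * r = p :=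
  (mem_sup_of_le_normalizer_right (c.Z_C.trans (centralizer_le_normalizer _))).1 (c.ZR_eq.ge hp)

theorem P_sq {p : G} (hp : p ∈ P) : p * p = 1 := by
  obtain ⟨z, hz, r, hr, rfl⟩ := c.P_dec hp
  rw [mul_assoc, ← mul_assoc r, c.mc.zs_comm c.hS hz hr.1, mul_assoc, c.R_sq hr, mul_one, c.mc.zs_sq c.hS hz]

theorem b_eq : N[R].relIndex N[S] = Nat.card Z * Nat.card Z := by
  have q4 := c.mc.four_le c.hS
  rw [c.two_trans.1, c.s_eq]
  zify [show 1 ≤ Nat.card Z by omega]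
  ring

theorem iota_sq : (P).relIndex S = Nat.card Z * Nat.card Z := by
  obtain ⟨o₁, o₂, h1, h2, e⟩ := c.iota_b
  obtain ⟨n, -, hn⟩ := c.mc.card_zs c.hS
  obtain ⟨a, ha⟩ := c.pow_relIndex P le_rfl
  rw [c.b_eq, ha, hn, ← pow_add] at e
  rw [ha, hn, ← pow_add]
  exact Nat.dvd_antisymm (((Nat.coprime_two_left.2 h2).pow_left a).dvd_of_dvd_mul_left (e ▸ dvd_mul_right _ _))
    (((Nat.coprime_two_left.2 h1).pow_left _).dvd_of_dvd_mul_right (e ▸ dvd_mul_left _ _))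

theorem n2_index (ht : t ∈ R) (t1 : t ≠ 1) : (N₂ t).relIndex S = Nat.card Z :=
  Nat.eq_of_mul_eq_mul_left Nat.card_pos ((c.iota_eq ht t1).symm.trans c.iota_sq)

theorem bad_conj {y : G} (hy : y ∈ I) : ∃ x ∈ S, y ∈ x •ᶜ R := by
  obtain ⟨-, m, hm, h⟩ := hy
  obtain ⟨x, hx, e⟩ := (Set.eq_of_subset_of_ncard_le (Set.image_mono (f := fun g => g •ᶜ R)
    (show (S : Set G) ⊆ N[S] from le_normalizer)) (by
      rw [GW.ncard_conjs, GW.ncard_conjs, c.b_eq, ← c.iota_sq, inf_comm S N[R], inf_relIndex_right])).ge ⟨m, hm, rfl⟩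
  exact ⟨x, hx, e.ge h⟩

theorem cover {L x y : _} (hL : L ≤ S) (hR : R ≤ L) (hK : K ≤ N[L]) (hq : L.relIndex S = Nat.card Z) (hx : x ∈ S)
    (hxL : x ∉ L) (hy : y ∈ S) (hyL : y ∉ L) : ∃ k ∈ K, (k * x * k⁻¹)⁻¹ * y ∈ L := by
  obtain ⟨d, hd, dS, -⟩ := c.mc.exists_ne c.hS 1
  choose! κ hκ e using c.blk.tr d hd dS
  have h1 := GW.ncard_mul_le (Set.toFinite {x | x ∈ D ∧ x ∈ S}) (B := fun a => {y | (κ a * x * (κ a)⁻¹)⁻¹ * y ∈ L})
    (Ω := {y | ∃ k ∈ K, (k * x * k⁻¹)⁻¹ * y ∈ L}) (fun a ha y hy => ⟨_, hκ a ha.1 ha.2, hy⟩)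
    (fun a _ => (ncard_coset _ L).ge) fun a ha a' ha' y h1 h2 => by
      have k1 := hκ a ha.1 ha.2
      have k2 := hκ a' ha'.1 ha'.2
      by_contra h3
      refine hxL (c.cc (mul_mem (inv_mem k2) k1) hd dS (fun e1 => h3 ?_) hL hR (hK (mul_mem (inv_mem k2) k1)) hx ?_)
      · rw [← e a ha.1 ha.2, ← e a' ha'.1 ha'.2]
        calc _ = κ a' * ((κ a')⁻¹ * κ a * d) * (κ a)⁻¹ := by group
          _ = _ := by rw [e1]; group
      · simpa [mul_assoc] using (mem_normalizer_iff''.1 (hK k2) _).1 (mul_mem h2 (inv_mem h1))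
  refine (Set.eq_of_subset_of_ncard_le (t := (S : Set G) \ L) ?_ (le_trans ?_ h1)).ge ⟨hy, hyL⟩
  · rintro y ⟨k, hk, h⟩
    exact ⟨by simpa [mul_assoc] using mul_mem ((mem_normalizer_iff.1 (c.KS hk) x).1 hx) (hL h), fun h2 =>
      hxL ((mem_normalizer_iff.1 (hK hk) x).2 (by simpa using mul_mem h2 (inv_mem h)))⟩
  · rw [GW.ncard_diff hL, ← relIndex_mul_card hL, hq, ← c.mc.ncard_zs c.hS, add_mul, one_mul, Nat.add_sub_cancel]

theorem n2_norm (ht : t ∈ R) (t1 : t ≠ 1) {y : G} (hy : y ∈ S) : y ∈ N[N₂ t] ∧ y * y ∈ N₂ t := by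
  have q4 := c.mc.four_le c.hS
  have hL : N₂ t ≤ S := fun x hx => hx.1
  by_cases h1 : y ∈ N₂ t
  · exact ⟨le_normalizer h1, mul_mem h1 h1⟩
  have hK : K ≤ N[N₂ t] := fun k hk => mem_normalizer_fintype fun x hx =>
    ⟨(mem_normalizer_iff.1 (c.KS hk) x).1 hx.1, by
      have e := mem_centralizer_iff.1 (c.blk.KR hk) t ht
      convert c.mc.zs_conj c.hS hx.2 (c.KS hk) using 1
      calc _ = k * x * k⁻¹ * (t * k) * x⁻¹ * (t * k)⁻¹ := by group
        _ = _ := by rw [e]; group⟩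
  obtain ⟨x₀, hx₀, h2, h3⟩ := exists_mem_normalizer_not_mem (isNilpotent_of_isPGroup c.hS.isPGroup)
    (lt_of_le_of_ne hL fun e => h1 (e.ge hy))
  obtain ⟨x, hx, h4, h5, -⟩ := pg_exists_fixed_mod (A := ⊥) (c.hS.isPGroup.to_le (inf_le_left (b := N[N₂ t])))
    IsPGroup.of_bot bot_le (lt_of_le_of_ne (le_inf hL le_normalizer) fun e => h3 (e.ge ⟨hx₀, h2⟩)) inf_le_right bot_le
  obtain ⟨k, hk, h6⟩ := c.cover hL (c.R_P.trans (c.P_le_n2 ht)) hK (c.n2_index ht t1) hx.1 h4 hy h1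
  have h7 : k * x * k⁻¹ ∈ N[N₂ t] := mul_mem (mul_mem (hK hk) hx.2) (inv_mem (hK hk))
  refine ⟨by simpa [mul_assoc] using mul_mem h7 (le_normalizer h6), ?_⟩
  have := mul_mem (mul_mem ((mem_normalizer_iff.1 (hK hk) _).1 h5) ((mem_normalizer_iff''.1 h7 _).1 h6)) h6
  simpa [sq, mul_assoc] using this

theorem bad_n2 (ht : t ∈ R) (t1 : t ≠ 1) {y : G} (hy : y ∈ I) : y ∈ N₂ t := by
  obtain ⟨x, hx, h⟩ := c.bad_conj hy
  exact map_conj_le_of_mem_normalizer (c.R_P.trans (c.P_le_n2 ht)) (c.n2_norm ht t1 hx).1 h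

theorem card_n2 (ht : t ∈ R) (t1 : t ≠ 1) : Nat.card (N₂ t) = Nat.card Z * Nat.card Z * Nat.card ↥(R) := by
  rw [← relIndex_mul_card (c.P_le_n2 ht), c.relIndex_n2 ht t1, ← c.ZR_eq, c.card_ZR, mul_assoc]

theorem card_R : Nat.card ↥(R) = 2 := by
  obtain ⟨t, ht, t1⟩ := (bot_or_exists_ne_one R).resolve_left c.nb
  have q4 := c.mc.four_le c.hS
  have r2 := c.two_le_R
  have h1 := c.ncard_out
  have h2 : (fun y => t * y) '' (I \ (P : Subgroup G)) ⊆ ((N₂ t : Set G) \ Z) \ I := by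
    rintro _ ⟨y, hy, rfl⟩
    refine ⟨⟨mul_mem (c.P_le_n2 ht (c.R_P ht)) (c.bad_n2 ht t1 hy.1), fun h => hy.2 ?_⟩, fun h => hy.2 ?_⟩
    · simpa using mul_mem (inv_mem (c.R_P ht)) (c.Z_P h)
    · refine c.bad_comm (c.bad_S hy.1) ht t1 (c.bad_sq hy.1) ?_
      have := congrArg (fun x => t⁻¹ * x * t) (c.bad_sq h)
      simpa [mul_assoc] using this
  have h3 := Set.ncard_le_ncard h2
  rw [Set.ncard_image_of_injective _ (mul_right_injective t),
    Set.ncard_sdiff (s := I) (fun y hy => Set.mem_sdiff_of_mem (c.bad_n2 ht t1 hy) (c.bad_Z hy)), GW.ncard_diff (c.Z_P.trans (c.P_le_n2 ht)),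
    c.card_n2 ht t1, c.ncard_bad, c.b_eq] at h3
  rw [c.s_eq] at h1
  have h4 := h1.trans h3
  generalize Nat.card Z = q at h4 q4
  obtain ⟨r, hr⟩ := Nat.exists_eq_add_of_le r2
  obtain ⟨q, rfl⟩ := Nat.exists_eq_add_of_le (show 1 ≤ q by omega)
  rw [hr, show 2 + r - 1 = 1 + r by omega, show (1 + q) * (1 + q) * (2 + r) = q * (1 + q) + (1 + q) * (1 + q) * (1 + r) + (1 + q)
    by ring, Nat.add_sub_cancel, Nat.add_sub_cancel, Nat.add_sub_cancel_left] at h4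
  have : r = 0 := by
    by_contra h5
    have := Nat.le_of_mul_le_mul_left (h4.trans_eq (mul_one _).symm) (Nat.mul_pos (by omega) (by omega))
    omega
  omega

theorem bad_mul {a y : G} (ha : a ∈ I) (hy : y ∈ I) : a * y ∉ I := fun h => by
  obtain ⟨a1, m, hm, h1⟩ := ha
  have h2 : y ∈ m •ᶜ P := c.bad_cent a1 hm h1 ▸ ⟨c.bad_S hy, mem_C1.2 (by
    rw [eq_inv_of_mul_eq_one_left (c.bad_sq h), mul_inv_rev, inv_eq (c.bad_sq hy), inv_eq (c.bad_sq ⟨a1, m, hm, h1⟩)])⟩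
  obtain ⟨v, hv, rfl⟩ := h1
  obtain ⟨p, hp, rfl⟩ := h2
  obtain ⟨z, hz, r, hr, rfl⟩ := c.P_dec hp
  rcases eq_of_card_two c.card_R hv (fun e => a1 (by rw [e, map_one])) hr with rfl | rfl
  · exact c.bad_Z hy (by simpa using c.mc.zs_conj c.hS hz hm)
  · rw [← map_mul, ← mul_assoc, c.mc.zs_comm c.hS hz hr.1, mul_assoc, c.R_sq hr, mul_one] at h
    exact c.bad_Z h (c.mc.zs_conj c.hS hz hm)

theorem mul_bad (ht : t ∈ R) (t1 : t ≠ 1) {a u : G} (ha : a ∈ I) (hu : u ∈ N₂ t) (h : u ∉ I) : a * u ∈ I := by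
  obtain ⟨y, hy, rfl⟩ := (Set.eq_of_subset_of_ncard_le (s := (fun y => a * y) '' I) (t := (N₂ t : Set G) \ I)
    (by rintro _ ⟨y, hy, rfl⟩; exact ⟨mul_mem (c.bad_n2 ht t1 ha) (c.bad_n2 ht t1 hy), c.bad_mul ha hy⟩)
    (by rw [Set.ncard_image_of_injective _ (mul_right_injective a), Set.ncard_sdiff fun y hy => c.bad_n2 ht t1 hy,
      GW.ncard_coe, c.card_n2 ht t1, c.ncard_bad, c.b_eq, c.card_R]; omega)).ge ⟨hu, h⟩
  rwa [cl (c.bad_sq ha)]

theorem not_mem_res (ht : t ∈ R) (t1 : t ≠ 1) : t ∉ pResidual 2 G := fun h => by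
  have tI : t ∈ I := ⟨t1, 1, one_mem _, by rwa [map_conj_one]⟩
  have tt := c.R_sq ht
  let E : Subgroup G :=
    { carrier := (N₂ t : Set G) \ I
      one_mem' := ⟨one_mem _, fun e => e.1 rfl⟩
      mul_mem' := fun {a b} ha hb => ⟨mul_mem ha.1 hb.1, by
        have := c.bad_mul tI (c.mul_bad ht t1 (c.mul_bad ht t1 tI ha.1 ha.2) hb.1 hb.2)
        rwa [mul_assoc, cl tt] at this⟩
      inv_mem' := fun {a} ha => ⟨inv_mem ha.1, fun e => ha.2 (by rwa [← inv_eq (c.bad_sq e), inv_inv] at e)⟩ }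
  obtain ⟨M, h1, h2, h3⟩ := exists_index_two_avoid (A := E) (B := S) (fun x hx => hx.1.1)
    (fun x hx => ⟨(c.n2_norm ht t1 hx).2, fun e => by
      obtain ⟨e1, m, hm, e2⟩ := e
      obtain ⟨p, hp, rfl⟩ := (c.bad_cent e1 hm e2).le ⟨hx, mem_C1.2 (mul_assoc _ _ _).symm⟩
      exact e1 (by rw [← map_mul, c.P_sq hp, map_one])⟩) ht.1 fun e => e.2 tI
  obtain ⟨S', e⟩ := c.hS.exists_sylow_top
  obtain ⟨g, hg⟩ := thompson_transfer S' (M := M ⊓ S) (by rwa [e, inf_relIndex_right]) (by rw [sq, tt]) h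
  obtain ⟨m, hm, e1⟩ := c.blk_norm (g := g) (by
    rintro _ ⟨v, hv, rfl⟩
    rcases eq_of_card_two c.card_R ht t1 hv with rfl | rfl
    exacts [by simp, hg.2])
  have h4 : g * t * g⁻¹ ∈ I := ⟨by simpa using t1, m, hm, e1 ▸ conj_mem_conj ht g⟩
  have := mul_mem (h1 ⟨mul_mem (c.bad_n2 ht t1 tI) (c.bad_n2 ht t1 h4), c.bad_mul tI h4⟩) (inv_mem hg.1)
  exact h2 (by simpa [mul_assoc] using this)

theorem odd_res {k : G} (hk : k ∈ K) : k ∈ pResidual 2 G :=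
  mem_pResidual_of_coprime (Nat.coprime_two_right.2 (Nat.not_even_iff_odd.1 fun e =>
    c.blk.odd ((even_iff_two_dvd.1 e).trans (K.orderOf_dvd_natCard hk))))

theorem D_res {d : G} (hd : d ∈ D) : d ∈ pResidual 2 G := by
  obtain ⟨U, hU, dU⟩ := c.mc.exists_pt hd
  obtain ⟨g, rfl⟩ := hU.exists_conj' c.hS
  have hz := c.mc.conj d hd g
  have zS := conj_mem_conj dU g
  obtain ⟨e, he, eS, h1⟩ := c.mc.exists_ne c.hS (g * d * g⁻¹)
  obtain ⟨k, hk, h2⟩ := c.blk.tr e he eS _ (c.mc.mul_mem' he hz c.hS eS zS h1) (mul_mem eS zS)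
  have h3 := mul_mem ((inferInstance : (pResidual 2 G).Normal).conj_mem _ (c.odd_res hk) e⁻¹) (inv_mem (c.odd_res hk))
  rw [inv_inv, mul_assoc, mul_assoc, ← mul_assoc k, h2, inv_mul_cancel_left] at h3
  simpa [mul_assoc] using (inferInstance : (pResidual 2 G).Normal).conj_mem _ h3 g⁻¹

theorem step (ht : t ∈ R) (t1 : t ≠ 1) {a x : G} (ha : a ∈ N[S]) (h1 : ∀ p ∈ P, a * p = p * a) (hx : x ∈ S)
    (h2 : a * (x * t * x⁻¹) = x * t * x⁻¹ * a) : a * a * x = x * (a * a) := by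
  have h3 : x⁻¹ * (a * x * a⁻¹) ∈ P := c.P_eq ht t1 ▸ ⟨S.mul_mem (S.inv_mem hx) ((mem_normalizer_iff.1 ha x).1 hx),
    mem_C1.2 (by
      have e := h1 t (c.R_P ht)
      calc _ = x⁻¹ * a * x * a⁻¹ * (t * a) * a⁻¹ := by group
        _ = x⁻¹ * (a * (x * t * x⁻¹)) * x * a⁻¹ := by rw [← e]; group
        _ = _ := by rw [h2]; group)⟩
  have h4 := h1 _ h3
  have h5 := c.P_sq h3
  calc _ = x * (x⁻¹ * (a * x * a⁻¹)) * (a * (x⁻¹ * (a * x * a⁻¹))) * a := by group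
    _ = _ := by rw [h4, ← mul_assoc, mul_assoc x, h5]; group

theorem false : False := by
  obtain ⟨t, ht, t1⟩ := (bot_or_exists_ne_one R).resolve_left c.nb
  have q4 := c.mc.four_le c.hS
  have h0 := c.not_mem_res ht t1
  set G₀ := pResidual 2 G
  have hz : ∀ {U} (hU : Syl U), c.mc.zs hU ≤ G₀ := fun hU x hx => hx.elim (fun e => e ▸ one_mem _) fun e => c.D_res e.1
  obtain ⟨K', b⟩ := c.mc.blk (c.mc.ih G₀ (fun e => h0 (e.ge (mem_top t))) (c.mc.sub c.hS (hz c.hS))) c.hS c.hT c.ne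
    (hz _) (hz _)
  rw [show R ⊓ G₀ = ⊥ from eq_bot_iff.2 fun x hx => (eq_of_card_two c.card_R ht t1 hx.1).resolve_right
    fun e => h0 (e ▸ hx.2)] at b
  have h1 : S ≤ S ⊓ G₀ ⊔ R := fun x hx => by
    obtain ⟨k, hk, d, hd, dS, h1⟩ := c.exists_k
    refine c.cc hk hd dS h1 (sup_le inf_le_left inf_le_left) le_sup_right (le_normalizer_sup
      (le_normalizer_inf c.KS le_normalizer_of_normal) (c.blk.KR.trans (centralizer_le_normalizer _)) hk) hx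
      (mem_sup_left ⟨by simpa [mul_assoc] using mul_mem (inv_mem hx) ((mem_normalizer_iff.1 (c.KS hk) x).1 hx), ?_⟩)
    simpa using mul_mem ((inferInstance : G₀.Normal).conj_mem _ (c.odd_res hk) x⁻¹) (inv_mem (c.odd_res hk))
  have h2 : Nat.card Z * Nat.card Z * Nat.card Z ≤ Nat.card ↥(S ⊓ G₀) := by
    have h3 := card_le_of_le h1
    rw [sup_comm] at h3
    have h4 := h3.trans (GW.card_sup_le (le_normalizer_inf (inf_le_left.trans le_normalizer) le_normalizer_of_normal))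
    rw [← relIndex_mul_card (inf_le_left (a := S) (b := N[R])), c.iota_sq, ← c.ZR_eq, c.card_ZR, c.card_R] at h4
    linarith
  rcases b.b6 with h3 | h3 | ⟨a, -, ⟨e, he, -, eS, e', he', c1, c2⟩, h3, x, hx, h4⟩
  · have := card_le_of_le (show S ⊓ G₀ ≤ Z from fun y hy => (b.b1 y hy (h3 y hy)).elim Or.inl fun ⟨d, hd, dS, h⟩ => by
      rw [eq_inv_of_mul_eq_one_right h]; exact inv_mem (Or.inr ⟨hd, dS⟩))
    nlinarith
  · rw [relIndex_bot_left, c.mc.ncard_zs c.hS] at h3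
    nlinarith
  obtain ⟨U, hU, eU⟩ := c.mc.exists_pt he
  obtain ⟨m, hm, h5⟩ := c.two_trans.2 U hU fun e => eS (e ▸ eU)
  obtain ⟨d, hd, dS, -⟩ := c.mc.exists_ne c.hS 1
  have aS := c.mc.norm_of_comm hd c.hS dS (h3 d hd dS)
  have aU := c.mc.norm he hU eU (c2 ▸ c.mc.mem_of_comm he hU eU (isPGroup_sq (c.mc.sq e' he')) c1)
  have h6 : m⁻¹ * a * m ∈ N[R] := by
    have := conj_mem_conj (h5 ▸ inf_normalizer_le_normalizer_inf ⟨aS, aU⟩ : a ∈ N[m •ᶜ R]) m⁻¹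
    rwa [conj_normalizer, map_conj_inv_map_conj, inv_inv] at this
  have h7 : m⁻¹ * a * m ∈ N[S] := mul_mem (mul_mem (inv_mem hm) aS) hm
  have h8 : ∀ p ∈ P, m⁻¹ * a * m * p = p * (m⁻¹ * a * m) := fun p hp => by
    obtain ⟨z, hz, r, hr, rfl⟩ := c.P_dec hp
    refine Commute.mul_right ?_ ?_
    · rcases c.mc.zs_conj c.hS hz hm with e | e
      · rw [show z = 1 by simpa using e]; exact Commute.one_right _
      · calc _ = m⁻¹ * (a * (m * z * m⁻¹)) * m := by group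
          _ = _ := by rw [h3 _ e.1 e.2]; group
    · by_cases r1 : r = 1
      · rw [r1]; exact Commute.one_right _
      exact mul_inv_eq_iff_eq_mul.1 ((eq_of_card_two c.card_R hr r1
        ((mem_normalizer_iff.1 h6 r).1 hr)).resolve_left (by rwa [conj_eq_one_iff]))
  generalize hb : m⁻¹ * a * m = β at h7 h8
  have h9 : ∀ y ∈ N₂ t, β * β * y = y * (β * β) := fun y hy => c.step ht t1 h7 h8 hy.1 (h8 _ (by
    simpa using mul_mem (c.Z_P hy.2) (c.R_P ht)))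
  have h10 := c.step ht t1 (mul_mem h7 h7) (fun p hp => h9 p (c.P_le_n2 ht hp)) ((mem_normalizer_iff''.1 hm x).1 hx.1)
    (h9 _ ((mem_normalizer_iff.1 (c.n2_norm ht t1 ((mem_normalizer_iff''.1 hm x).1 hx.1)).1 t).1
      (c.P_le_n2 ht (c.R_P ht))))
  refine h4 2 (mem_bot.2 ?_)
  rw [← hb] at h10
  calc _ = x⁻¹ * (a ^ 2 ^ 2)⁻¹ * m * (m⁻¹ * x * m * (m⁻¹ * a * m * (m⁻¹ * a * m) * (m⁻¹ * a * m * (m⁻¹ * a * m)))) * m⁻¹ := by
        simp [pow_succ, mul_assoc]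
    _ = _ := by rw [← h10]; simp [pow_succ, mul_assoc]

end Cx

theorem zd2 {G : Type u} [Group G] [Finite G] {D : Set G} (h : ZH D) : TIm G := by
  induction hn : Nat.card G using Nat.strong_induction_on generalizing G with
  | _ n ih =>
  intro S T U hS hT hU hne
  by_cases hk : kS G = ⊥
  · have mc : MC D := ⟨h, hk, fun H hH h1 => ih _ (hn ▸ pg_card_subgroup_lt hH) h1 rfl⟩
    by_cases h1 : S ⊓ T = ⊥
    · exact h1 ▸ bot_le
    · obtain ⟨K, c⟩ := mc.cx hS hT hne h1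
      exact c.false.elim
  · have hf := QuotientGroup.mk'_surjective (kS G)
    have h1 := (QuotientGroup.ker_mk' (kS G)).le
    exact TIm.of_map (ih _ (hn ▸ pg_card_quotient_lt _ hk) (h.map hf h1 hS hT hne) rfl) hf h1 S T U hS hT hU hne

end Cfsg.Lib.R1
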