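import Cfsg.Agent.Lib.R1.ZLocal
import Cfsg.Agent.Lib.R1.PG

/-!
A minimal counterexample: double transitivity.
-/

set_option autoImplicit false
set_option linter.unusedSectionVars false
set_option linter.unusedVariables false

namespace Cfsg.Lib.R1
open Subgroup Cfsg.Lib Cfsg.Lib.FT

theorem ncard_sub {ι : Type*} (p q : ι → Prop) : {x : {a // p a} | q x.1}.ncard = {a | p a ∧ q a}.ncard := by
  rw [← Set.ncard_image_of_injective _ Subtype.val_injective]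
  congr 1
  ext a
  exact ⟨by rintro ⟨x, hx, rfl⟩; exact ⟨x.2, hx⟩, fun h => ⟨⟨a, h.1⟩, h.2, rfl⟩⟩

theorem ncard_fib {α β : Type*} [Finite α] [Finite β] {A : Set α} {Ω : Set β} (r : α → β → Prop) {k : ℕ}
    (h1 : ∀ y ∈ Ω, ∃ a ∈ A, r a y) (h2 : ∀ a ∈ A, ∀ a' ∈ A, ∀ y ∈ Ω, r a y → r a' y → a = a')
    (h3 : ∀ a ∈ A, {y | y ∈ Ω ∧ r a y}.ncard = k) : Ω.ncard = A.ncard * k :=
  le_antisymm (GW.ncard_le_mul (Set.toFinite A) (B := fun a => {y | y ∈ Ω ∧ r a y})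
      (fun y hy => (h1 y hy).imp fun a ha => ⟨ha.1, hy, ha.2⟩) fun a ha => (h3 a ha).le)
    (GW.ncard_mul_le (Set.toFinite A) (B := fun a => {y | y ∈ Ω ∧ r a y}) (fun a _ y hy => hy.1)
      (fun a ha => (h3 a ha).ge) fun a ha a' ha' y hy hy' => h2 a ha a' ha' y hy.1 hy.2 hy'.2)

variable {G : Type*} [Group G] [Finite G]

theorem ncard_conj_set (g : G) {A B : Set (Subgroup G)} (h : ∀ X, g •ᶜ X ∈ B ↔ X ∈ A) : A.ncard = B.ncard := by
  rw [← Set.ncard_image_of_injective A (f := fun X => g •ᶜ X) fun _ _ => conj_inj.1]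
  congr 1
  ext Y
  refine ⟨by rintro ⟨X, hX, rfl⟩; exact (h X).2 hX, fun hY => ⟨g⁻¹ •ᶜ Y, (h _).1 ?_, map_conj_map_conj_inv Y g⟩⟩
  rwa [map_conj_map_conj_inv]

theorem syl_conj_iff {X : Subgroup G} {g : G} : Syl (g •ᶜ X) ↔ Syl X :=
  ⟨fun h => by simpa only [map_conj_inv_map_conj] using h.conj g⁻¹, fun h => h.conj g⟩

theorem cls_conj_iff {X Y : Subgroup G} {g : G} : (∃ k, g •ᶜ X = k •ᶜ Y) ↔ ∃ k, X = k •ᶜ Y :=
  ⟨fun ⟨k, h⟩ => ⟨g⁻¹ * k, by rw [← conj_conj, ← h, map_conj_inv_map_conj]⟩,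
    fun ⟨k, h⟩ => ⟨g * k, by rw [h, conj_conj]⟩⟩

theorem Syl.odd_relIndex' {S Y : Subgroup G} (hS : Syl S) (h : Y ≤ N[S]) : Odd (S.relIndex Y) := by
  have : IsSylowIn 2 (S ⊓ Y) Y := ⟨inf_le_right, hS.isPGroup.to_le inf_le_left, fun X hX h1 h2 =>
    le_antisymm (le_inf (hS.le_of_le_normalizer hX le_top (h1.trans h)) h1) h2⟩
  have := this.not_dvd_relIndex
  rwa [Nat.two_dvd_ne_zero, ← Nat.odd_iff, inf_relIndex_right] at this

/-- `N₂` -/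
def ZH.n2 {D : Set G} (h : ZH D) {S : Subgroup G} (hS : Syl S) (t : G) : Subgroup G where
  carrier := {x | x ∈ S ∧ x * t * x⁻¹ * t⁻¹ ∈ h.zs hS}
  one_mem' := ⟨one_mem _, by simp⟩
  mul_mem' := by
    rintro a b ⟨ha, h1⟩ ⟨hb, h2⟩
    refine ⟨mul_mem ha hb, ?_⟩
    have := mul_mem (h.zs_conj hS h2 (le_normalizer ha)) h1
    simpa [mul_assoc] using this
  inv_mem' := by
    rintro a ⟨ha, h1⟩
    refine ⟨inv_mem ha, ?_⟩
    have := h.zs_conj hS (inv_mem h1) (le_normalizer (inv_mem ha))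
    simpa [mul_assoc] using this

namespace Cx

variable {D : Set G} {S T K : Subgroup G} (c : Cx D S T K) {t : G}
include c

local notation "R" => S ⊓ T
local notation "P" => S ⊓ N[S ⊓ T]
local notation "Z" => ZH.zs c.mc.toZH c.hS
local notation "N₂" => ZH.n2 c.mc.toZH c.hS

theorem P_le_n2 (ht : t ∈ R) : P ≤ N₂ t := fun x hx =>
  ⟨hx.1, by rw [mem_centralizer_iff.1 (c.R_C ht) x hx]; simp⟩

theorem relIndex_n2 (ht : t ∈ R) (t1 : t ≠ 1) : (P).relIndex (N₂ t) = Nat.card Z := by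
  rw [← c.P_eq ht t1, ← GW.ncard_coe, ← Set.ncard_image_of_injective _ (mul_left_injective t),
    ← inf_relIndex_right, inf_right_comm, inf_eq_right.2 (show N₂ t ≤ S from fun x hx => hx.1), inf_comm,
    inf_relIndex_right, ← Bender.ncard_conj_eq_relIndex]
  congr 1
  ext y
  constructor
  · rintro ⟨x, hx, rfl⟩
    exact ⟨_, hx.2, by simp⟩
  · rintro ⟨z, hz, rfl⟩
    obtain ⟨x, hx, -, e⟩ := c.pencil ht t1 (c.R_sq ht) hz
    exact ⟨x, ⟨hx, by rw [e]; simpa using hz⟩, e⟩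

theorem n2_le (ht : t ∈ R) (t1 : t ≠ 1) : N₂ t ≤ N[P] := fun x hx => by
  obtain ⟨y, hy, h1, e⟩ := c.pencil ht t1 (c.R_sq ht) hx.2
  have : y⁻¹ * x ∈ P := c.P_eq ht t1 ▸ ⟨S.mul_mem (S.inv_mem hy) hx.1, mem_C1.2 (by
    calc y⁻¹ * x * t = y⁻¹ * (x * t * x⁻¹ * t⁻¹ * t) * x := by group
      _ = _ := by rw [← e]; group)⟩
  simpa using mul_mem h1 (le_normalizer this)

theorem card_ZR : Nat.card ↥(Z ⊔ R) = Nat.card Z * Nat.card ↥(R) := by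
  rw [← card_sup_mul_card_inf (c.Z_C.trans (centralizer_le_normalizer _)),
    show Z ⊓ R = ⊥ from eq_bot_iff.2 fun x hx => c.mc.zs_eq_one c.hS hx.1 c.hT c.ne hx.2.2, card_bot, mul_one]

theorem q_dvd_s : Nat.card Z ∣ (R).relIndex P := by
  have h1 := card_dvd_of_le (sup_le c.Z_P c.R_P)
  rw [c.card_ZR, ← relIndex_mul_card c.R_P] at h1
  exact Nat.dvd_of_mul_dvd_mul_right Nat.card_pos h1

theorem iota_b : ∃ o₁ o₂, Odd o₁ ∧ Odd o₂ ∧ (P).relIndex S * o₁ = o₂ * N[R].relIndex N[S] := by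
  refine ⟨_, _, c.hS.odd_relIndex' le_rfl, c.hS.odd_relIndex' (inf_le_right (a := N[R])), ?_⟩
  rw [relIndex_mul_relIndex _ _ _ inf_le_left le_normalizer, ← inf_relIndex_right N[R],
    ← inf_relIndex_right S (N[R] ⊓ N[S]), relIndex_mul_relIndex _ _ _ inf_le_right inf_le_right, ← inf_assoc,
    inf_eq_left.2 (inf_le_left.trans le_normalizer)]

theorem R_le (ht : t ∈ R) (t1 : t ≠ 1) {U : Subgroup G} (hU : Syl U) (h : t ∈ U) : R ≤ U :=
  c.mc.ti c.hS c.hT hU c.ne t1 ht h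

theorem blk_eq {U W : Subgroup G} (hU : Syl U) (hW : Syl W) (hne : U ≠ W) {g x : G} (x1 : x ≠ 1)
    (h1 : x ∈ g •ᶜ R) (h2 : x ∈ U ⊓ W) : U ⊓ W = g •ᶜ R := by
  rw [conj_inf] at h1 ⊢
  exact c.mc.inf_eq hU hW (c.hS.conj g) (c.hT.conj g) hne (conj_ne c.ne g) x1 h2 h1

theorem blk_norm {g : G} (h : g •ᶜ R ≤ S) : ∃ m ∈ N[S], g •ᶜ R = m •ᶜ R := by
  obtain ⟨w, hw, e⟩ := c.mc.exists_cent (c.hS.conj g) c.hS (map_mono inf_le_left) h
  exact ⟨w * g, conj_eq_iff_mem_normalizer.1 (by rw [← conj_conj, e]), by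
    rw [← conj_conj, conj_eq_of_mem_centralizer hw]⟩

theorem count_b {U : Subgroup G} (hU : Syl U) :
    {B | (∃ g, B = g •ᶜ R) ∧ B ≤ U}.ncard = N[R].relIndex N[S] := by
  obtain ⟨g, rfl⟩ := c.hS.exists_conj' hU
  rw [← ncard_conj_set g (A := {B | (∃ g, B = g •ᶜ R) ∧ B ≤ S}) fun X => by
    simp only [Set.mem_ofPred_eq, cls_conj_iff, conj_le_conj_iff], ← GW.ncard_conjs]
  congr 1
  ext B
  constructor
  · rintro ⟨⟨g, rfl⟩, h⟩
    obtain ⟨m, hm, e⟩ := c.blk_norm h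
    exact ⟨m, hm, e.symm⟩
  · rintro ⟨m, hm, rfl⟩
    exact ⟨⟨m, rfl⟩, map_conj_le_of_mem_normalizer inf_le_left hm⟩

theorem trans_P {U W : Subgroup G} (hU : Syl U) (hW : Syl W) (h1 : R ≤ U) (h2 : R ≤ W) (h3 : U ≠ S)
    (h4 : W ≠ S) : ∃ p ∈ P, p •ᶜ U = W := by
  have key : ∀ {U}, Syl U → R ≤ U → ∃ d ∈ D, d ∈ U ⊓ N[R] := fun hU h1 => by
    obtain ⟨d, hd, dU, -⟩ := c.mc.exists_ne hU 1
    exact ⟨d, hd, dU, centralizer_le_normalizer _ (c.mc.zs_le_C hU h1 (Or.inr ⟨hd, dU⟩))⟩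
  exact c.blk.b3 U W hU hW (key hU h1) (key hW h2) h3 h4

theorem count_m (g : G) : {U | Syl U ∧ g •ᶜ R ≤ U}.ncard = (R).relIndex P + 1 := by
  rw [← ncard_conj_set g (A := {U | Syl U ∧ R ≤ U}) fun X => by
    simp only [Set.mem_ofPred_eq, syl_conj_iff, conj_le_conj_iff]]
  have e : N[T].relIndex P = (R).relIndex P := by
    rw [← inf_relIndex_right, ← inf_relIndex_right R]
    congr 1
    exact le_antisymm (fun x hx => ⟨⟨hx.2.1, c.hT.mem_of_norm (isPGroup_zpowers c.hS.isPGroup hx.2.1) hx.1⟩, hx.2⟩)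
      (inf_le_inf_right _ (inf_le_right.trans le_normalizer))
  rw [← e, ← GW.ncard_conjs, ← Set.ncard_insert_of_notMem (a := S) (by
    rintro ⟨p, hp, e⟩
    exact c.ne ((conj_eq_iff.1 e).trans (conj_eq_of_mem (S.inv_mem hp.1))).symm)]
  congr 1
  ext U
  constructor
  · rintro ⟨h1, h2⟩
    by_cases h3 : U = S
    · exact Or.inl h3
    · exact Or.inr (c.trans_P c.hT h1 inf_le_right h2 c.ne.symm h3)
  · rintro (rfl | ⟨p, hp, rfl⟩)
    · exact ⟨c.hS, inf_le_left⟩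
    · exact ⟨c.hT.conj p, (conj_eq_iff_mem_normalizer.2 hp.2).ge.trans (map_mono inf_le_right)⟩

theorem normal_form (ht : t ∈ R) (t1 : t ≠ 1) {d z : G} (hd : d ∈ D) (h1 : t * d = d * t) (hz : z ∈ D)
    (zS : z ∈ S) : ∃ g ∈ C[R], g * d * g⁻¹ = z := by
  obtain ⟨W, hW, dW⟩ := c.mc.exists_pt hd
  obtain ⟨w, hw, rfl⟩ := c.mc.exists_cent hW c.hS
    (c.R_le ht t1 hW (c.mc.mem_of_comm hd hW dW (isPGroup_sq (c.R_sq ht)) h1)) inf_le_left
  obtain ⟨k, hk, e⟩ := c.blk.tr _ (c.mc.conj d hd w) (conj_mem_conj dW w) z hz zS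
  exact ⟨k * w, mul_mem (c.blk.KR hk) hw, by rw [← e]; group⟩

theorem conj_td (ht : t ∈ R) (t1 : t ≠ 1) {d : G} (hd : d ∈ D) (h1 : t * d = d * t) :
    ∃ g, g * t * g⁻¹ = t * d := by
  obtain ⟨z, hz, zS, -⟩ := c.mc.exists_ne c.hS 1
  obtain ⟨g, hg, e⟩ := c.normal_form ht t1 hd h1 hz zS
  obtain ⟨x, -, -, e1⟩ := c.pencil ht t1 (c.R_sq ht) (Or.inr ⟨hz, zS⟩)
  refine ⟨g⁻¹ * x, ?_⟩
  calc _ = g⁻¹ * (x * t * x⁻¹) * g := by group
    _ = d * (g⁻¹ * (t * g)) := by rw [e1, ← e]; group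
    _ = _ := by rw [mem_centralizer_iff.1 hg t ht, h1]; group

theorem not_D' (ht : t ∈ R) : t ∉ D := c.not_D (g := 1) (by rwa [map_conj_one])

theorem trans_out (ht : t ∈ R) (t1 : t ≠ 1) {U W : Subgroup G} (hU : Syl U) (hW : Syl W) (h1 : t ∉ U)
    (h2 : t ∉ W) : ∃ g ∈ N[R], g •ᶜ U = W := by
  obtain ⟨z, hz, zS, -⟩ := c.mc.exists_ne c.hS 1
  obtain ⟨x, hx, hx', e1⟩ := c.pencil ht t1 (c.R_sq ht) (Or.inr ⟨hz, zS⟩)
  have key : ∀ {U}, Syl U → t ∉ U → ∃ g ∈ C[R], R ≤ (x⁻¹ * g) •ᶜ U ∧ (x⁻¹ * g) •ᶜ U ≠ S := fun {U} hU h1 => by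
    obtain ⟨d, hd, c1, c2⟩ := c.mc.special (c.R_sq ht) (c.not_D' ht) hU h1
    obtain ⟨g, hg, e⟩ := c.normal_form ht t1 hd c1 hz zS
    have e2 := mem_centralizer_iff.1 hg t ht
    refine ⟨g, hg, c.R_le ht t1 (hU.conj _) ?_, fun e3 => h1 ?_⟩
    · have := conj_mem_conj c2 (x⁻¹ * g)
      rwa [show x⁻¹ * g * (t * d) * (x⁻¹ * g)⁻¹ = x⁻¹ * (g * d * g⁻¹ * (g * t * g⁻¹)) * x by rw [c1]; group, e,
        ← e2, mul_inv_cancel_right, ← e1, show x⁻¹ * (x * t * x⁻¹) * x = t by group] at this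
    · rw [← conj_conj, conj_eq_iff, inv_inv, conj_eq_of_mem hx] at e3
      have := mem_map_conj.1 (e3.ge ht.1)
      rwa [mul_assoc, e2, inv_mul_cancel_left] at this
  obtain ⟨g, hg, h3, h4⟩ := key hU h1
  obtain ⟨g', hg', h5, h6⟩ := key hW h2
  obtain ⟨p, hp, e⟩ := c.trans_P (hU.conj _) (hW.conj _) h3 h5 h4 h6
  refine ⟨g'⁻¹ * (x * p * x⁻¹) * g, mul_mem (mul_mem (inv_mem (centralizer_le_normalizer _ hg'))
    (conj_mem_of_le_normalizer le_rfl hx' hp).2) (centralizer_le_normalizer _ hg), ?_⟩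
  rw [conj_conj, conj_eq_iff, conj_conj] at e
  rw [e, conj_conj, show _ * ((p * (x⁻¹ * g))⁻¹ * (x⁻¹ * g')) = (1 : G) by group, map_conj_one]

theorem count_n (ht : t ∈ R) (t1 : t ≠ 1) : {U : Subgroup G | Syl U}.ncard =
    (R).relIndex P + 1 + ((R).relIndex P + 1) * (Nat.card Z - 1) * (R).relIndex P := by
  have tt := c.R_sq ht
  have hm := c.count_m 1
  rw [map_conj_one] at hm
  have h1 : {d | d ∈ D ∧ t * d = d * t}.ncard = ((R).relIndex P + 1) * (Nat.card Z - 1) := by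
    rw [← hm]
    refine ncard_fib (fun U d => d ∈ U) (fun d hd => ?_) (fun U hU W hW d hd => c.mc.eq hd.1 hU.1 hW.1) fun U hU => ?_
    · obtain ⟨W, hW, dW⟩ := c.mc.exists_pt hd.1
      exact ⟨W, ⟨hW, c.R_le ht t1 hW (c.mc.mem_of_comm hd.1 hW dW (isPGroup_sq tt) hd.2)⟩, dW⟩
    · obtain ⟨g, rfl⟩ := c.hS.exists_conj' hU.1
      rw [← c.mc.ncard_zs c.hS, Nat.add_sub_cancel, ← GW.ncard_conj_image g {x | x ∈ D ∧ x ∈ S}]
      congr 1
      ext d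
      constructor
      · rintro ⟨h1, y, hy, rfl⟩
        exact ⟨y, ⟨by simpa [mul_assoc] using c.mc.conj' h1.1 g, hy⟩, rfl⟩
      · rintro ⟨y, hy, rfl⟩
        have h2 := conj_mem_conj hy.2 g
        exact ⟨⟨c.mc.conj y hy.1 g, c.mc.comm (c.mc.conj y hy.1 g) hU.1 h2 (hU.2 ht)⟩, h2⟩
  have h2 : {U | Syl U ∧ t ∉ U}.ncard = {d | d ∈ D ∧ t * d = d * t}.ncard * (R).relIndex P := by
    refine ncard_fib (fun d U => t * d ∈ U) (fun U hU => ?_) (fun d hd e he U hU h2 h3 => ?_) fun d hd => ?_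
    · obtain ⟨d, hd, c1, c2⟩ := c.mc.special tt (c.not_D' ht) hU.1 hU.2
      exact ⟨d, ⟨hd, c1⟩, c2⟩
    · by_contra hne
      have h4 : d * e ∈ U := by
        have := mul_mem h2 h3
        rwa [hd.2, mul_assoc, cl tt] at this
      obtain ⟨W, hW, dW⟩ := c.mc.exists_pt hd.1
      obtain ⟨W', hW', eW⟩ := c.mc.exists_pt he.1
      by_cases h5 : W = W'
      · subst h5
        rw [c.mc.eq (c.mc.mul_mem' hd.1 he.1 hW dW eW hne) hU.1 hW h4 (mul_mem dW eW)] at hU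
        exact hU.2 (c.mc.mem_of_comm hd.1 hW dW (isPGroup_sq tt) hd.2)
      · have h6 := c.mc.odd_mul hd.1 he.1 hW hW' dW eW h5
        obtain ⟨n, hn⟩ := hU.1.isPGroup ⟨_, h4⟩
        have := ci_mem_of_odd (O := ⊥) h6 (i := n) (congrArg Subtype.val hn)
        exact hne (by rw [eq_inv_of_mul_eq_one_left this, inv_eq (c.mc.sq e he.1)])
    · obtain ⟨g, hg⟩ := c.conj_td ht t1 hd.1 hd.2
      obtain ⟨W, hW, dW⟩ := c.mc.exists_pt hd.1
      have tW := c.mc.mem_of_comm hd.1 hW dW (isPGroup_sq tt) hd.2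
      have h3 := c.count_m g
      rw [← Nat.add_right_cancel_iff (n := 1), ← h3, ← Set.ncard_insert_of_notMem (a := W) fun e => e.1.2 tW]
      have key : ∀ U, Syl U → (g •ᶜ R ≤ U ↔ t * d ∈ U) := fun U hU =>
        ⟨fun e => e (hg ▸ conj_mem_conj ht g), fun e => map_conj_le_iff.2 (c.R_le ht t1 (hU.conj _)
          (mem_map_conj.2 (by rwa [inv_inv, hg])))⟩
      congr 1
      ext U
      constructor
      · rintro (rfl | ⟨h4, h5⟩)
        exacts [⟨hW, (key _ hW).2 (mul_mem tW dW)⟩, ⟨h4.1, (key _ h4.1).2 h5⟩]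
      · rintro ⟨h4, h5⟩
        by_cases h6 : t ∈ U
        · exact Or.inl (c.mc.eq hd.1 h4 hW (by simpa [cl tt] using mul_mem h6 ((key _ h4).1 h5)) dW)
        · exact Or.inr ⟨⟨h4, h6⟩, (key _ h4).1 h5⟩
  rw [← h1, ← h2, ← hm, ← Set.ncard_union_eq (Set.disjoint_left.2 fun U h3 h4 => h4.2 (h3.2 ht))]
  congr 1
  ext U
  by_cases h3 : t ∈ U
  · exact ⟨fun h => Or.inl ⟨h, c.R_le ht t1 h h3⟩, fun h => h.elim (·.1) (·.1)⟩
  · exact ⟨fun h => Or.inr ⟨h, h3⟩, fun h => h.elim (·.1) (·.1)⟩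

theorem two_trans : N[R].relIndex N[S] = Nat.card Z + (Nat.card Z - 1) * (R).relIndex P ∧
    ∀ U, Syl U → U ≠ S → ∃ m ∈ N[S], S ⊓ U = m •ᶜ R := by
  obtain ⟨t, ht, t1⟩ := (bot_or_exists_ne_one R).resolve_left c.nb
  have tt := c.R_sq ht
  obtain ⟨U₀, hU₀, tU₀⟩ : ∃ U, Syl U ∧ t ∉ U := by
    by_contra! hh
    exact t1 (c.mc.eq_one fun U hU => le_normalizer (hh U hU))
  let cnt : Subgroup G → Subgroup G → Set (Subgroup G) := fun U B =>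
    {W | Syl W ∧ B ≤ W ∧ ∃ B', (∃ g, B' = g •ᶜ R) ∧ B' ≤ U ∧ B' ≤ W}
  have hcnt : ∀ g U B, (cnt U B).ncard = (cnt (g •ᶜ U) (g •ᶜ B)).ncard := fun g U B =>
    ncard_conj_set g fun W => by
      simp only [cnt, Set.mem_ofPred_eq, syl_conj_iff, conj_le_conj_iff]
      refine and_congr_right fun _ => and_congr_right fun _ => ⟨?_, ?_⟩
      · rintro ⟨B', h1, h2, h3⟩
        exact ⟨g⁻¹ •ᶜ B', cls_conj_iff.2 h1, le_conj_iff.1 h2, le_conj_iff.1 h3⟩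
      · rintro ⟨B', h1, h2, h3⟩
        exact ⟨g •ᶜ B', cls_conj_iff.2 h1, map_mono h2, map_mono h3⟩
  have hc : ∀ U, Syl U → t ∉ U → (cnt U R).ncard = (cnt U₀ R).ncard := fun U hU h1 => by
    obtain ⟨g, hg, e⟩ := c.trans_out ht t1 hU hU₀ h1 tU₀
    rw [hcnt g, e, conj_eq_iff_mem_normalizer.2 hg]
  have tc : ∀ X : Subgroup G, t •ᶜ t •ᶜ X = X := fun X => by rw [conj_conj, tt, map_conj_one]
  obtain ⟨h1, h2⟩ := pg_dvd (Ω := {U : Subgroup G // Syl U}) (𝔅 := {B : Subgroup G // ∃ g, B = g •ᶜ R})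
    (fun U B => B.1 ≤ U.1) (b := N[R].relIndex N[S]) (m := (R).relIndex P + 1) (c := (cnt U₀ R).ncard)
    (fun U => (ncard_sub _ (· ≤ U.1)).trans (c.count_b U.2))
    (by rintro ⟨_, g, rfl⟩; exact (ncard_sub _ (g •ᶜ R ≤ ·)).trans (c.count_m g))
    (by
      rintro U W ⟨_, g, rfl⟩ ⟨_, g', rfl⟩ hne h1 h2 h3 h4
      have key : ∀ g, g •ᶜ R ≤ U.1 → g •ᶜ R ≤ W.1 → U.1 ⊓ W.1 = g •ᶜ R := fun g h1 h2 =>
        c.blk_eq U.2 W.2 (fun e => hne (Subtype.ext e)) (by simpa using t1) (conj_mem_conj ht g)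
          ⟨h1 (conj_mem_conj ht g), h2 (conj_mem_conj ht g)⟩
      exact Subtype.ext ((key g h1 h2).symm.trans (key g' h3 h4)))
    (by
      rintro U ⟨_, g, rfl⟩ h1
      rw [← hc (g⁻¹ •ᶜ U.1) (U.2.conj _) fun e => h1 (map_conj_le_iff.2 (c.R_le ht t1 (U.2.conj _) e)), hcnt g,
        map_conj_map_conj_inv]
      refine Eq.trans ?_ (ncard_sub _ _)
      simp only [Subtype.exists, exists_prop])
    (fun U => ⟨t •ᶜ U.1, U.2.conj t⟩) (fun U => Subtype.ext (tc _))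
    ⟨fun B => ⟨t •ᶜ B.1, cls_conj_iff.2 B.2⟩, fun B => ⟨t •ᶜ B.1, cls_conj_iff.2 B.2⟩,
      fun B => Subtype.ext (tc _), fun B => Subtype.ext (tc _)⟩
    (fun U B => conj_le_conj_iff) ⟨R, 1, (map_conj_one _).symm⟩ ⟨S, c.hS⟩
    (fun U hU => Subtype.ext (conj_eq_of_mem (hU ht)))
    (fun U hU => by
      have h1 : t ∉ U.1 := fun e => hU (c.R_le ht t1 U.2 e)
      have h2 : t •ᶜ U.1 ≠ U.1 := fun e => h1 (U.2.mem_of_norm (isPGroup_sq tt) (conj_eq_iff_mem_normalizer.1 e))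
      obtain ⟨d, hd, c1, c2⟩ := c.mc.special tt (c.not_D' ht) U.2 h1
      obtain ⟨g, hg⟩ := c.conj_td ht t1 hd c1
      have h3 := c.blk_eq U.2 (U.2.conj t) h2.symm (by simpa using t1) (conj_mem_conj ht g) (by
        rw [hg]
        refine ⟨c2, ?_⟩
        have := conj_mem_conj c2 t
        rwa [show t * (t * d) * t⁻¹ = t * d by nth_rw 1 [c1]; group] at this)
      exact ⟨fun e => h2 (congrArg Subtype.val e), ⟨_, g, rfl⟩, h3.ge.trans inf_le_left, h3.ge.trans inf_le_right⟩)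
  obtain ⟨n, n2, hn⟩ := c.mc.card_zs c.hS
  have q4 := c.mc.four_le c.hS
  rw [show Nat.card {U : Subgroup G // Syl U} = _ from c.count_n ht t1] at h1 h2
  obtain ⟨o₁, o₂, -, ho, e⟩ := c.iota_b
  obtain ⟨a, ha⟩ := IsPGroup.iff_card.1 (c.hS.isPGroup.to_le (inf_le_left (b := N[R])))
  have hs : (R).relIndex P ∣ 2 ^ a := ha ▸ relIndex_dvd_card _ _
  have hb : Nat.card Z ∣ N[R].relIndex N[S] := by
    refine (show (Nat.card Z).Coprime o₂ from hn ▸ (Nat.coprime_two_left.2 ho).pow_left n).dvd_of_dvd_mul_left ?_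
    rw [← e, ← relIndex_mul_relIndex _ _ _ (c.P_le_n2 ht) (fun x hx => hx.1), c.relIndex_n2 ht t1, mul_assoc]
    exact dvd_mul_right _ _
  obtain ⟨h3, h4⟩ := pg_arith (q := Nat.card Z) (s := (R).relIndex P) (b := N[R].relIndex N[S])
    (c := (cnt U₀ R).ncard) (by exact_mod_cast q4)
    (by rw [hn]; exact_mod_cast (Nat.even_pow.2 ⟨even_two, by omega⟩)) (by exact_mod_cast c.q_dvd_s)
    (by exact_mod_cast Nat.pos_of_dvd_of_pos hs (by positivity)) (by exact_mod_cast hb) (by positivity)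
    (fun x hx => (Int.isCoprime_two_right.2 hx).pow_right.of_isCoprime_of_dvd_right (by exact_mod_cast hs))
    (by rw [← Nat.cast_pred (by omega)]; push_cast at h1 ⊢; linear_combination h1)
    (by rw [← Nat.cast_pred (by omega : 0 < Nat.card Z)]; push_cast at h2 ⊢; simpa using h2)
  refine ⟨by zify [show 1 ≤ Nat.card Z by omega]; exact h4, fun U hU hne => ?_⟩
  by_cases h5 : t ∈ U
  · exact ⟨1, one_mem _, c.blk_eq c.hS hU hne.symm t1 (by rwa [map_conj_one]) ⟨ht.1, h5⟩⟩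
  have hm := c.count_m 1
  rw [map_conj_one] at hm
  have h6 : cnt U R = {W | Syl W ∧ R ≤ W} := Set.eq_of_subset_of_ncard_le (fun W hW => ⟨hW.1, hW.2.1⟩)
    (by rw [hc U hU h5, hm]; exact_mod_cast h3.ge)
  obtain ⟨-, -, _, ⟨g, rfl⟩, h7, h8⟩ := h6.ge (show S ∈ _ from ⟨c.hS, inf_le_left⟩)
  obtain ⟨m, hm, e⟩ := c.blk_norm h8
  exact ⟨m, hm, e ▸ c.blk_eq c.hS hU hne.symm (by simpa using t1) (conj_mem_conj ht g)
    ⟨h8 (conj_mem_conj ht g), h7 (conj_mem_conj ht g)⟩⟩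

end Cx

end Cfsg.Lib.R1
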