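import Cfsg.Agent.Lib.R1.Blk

/-!
A minimal counterexample: local analysis.
-/

set_option autoImplicit false
set_option linter.unusedSectionVars false
set_option linter.unusedVariables false

namespace Cfsg.Lib.R1
open Subgroup Cfsg.Lib Cfsg.Lib.FT

variable {G : Type*} [Group G] [Finite G]

theorem comm_of_inf {A B : Subgroup G} (hA : A ≤ N[B]) (hB : B ≤ N[A]) (h : A ⊓ B = ⊥) {a b : G} (ha : a ∈ A)
    (hb : b ∈ B) : a * b = b * a :=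
  commutatorElement_eq_one_iff_mul_comm.1
    (mem_bot.1 (commutator_eq_bot_of_inf_eq_bot hA hB h ▸ commutator_mem_commutator ha hb))

theorem even_ncard_of_mul {O : Set G} {z : G} (hz : z * z = 1) (hz1 : z ≠ 1) (h : ∀ x ∈ O, x * z ∈ O) :
    Even O.ncard := by
  classical
  rw [Set.ncard_eq_toFinset_card O, ← ZMod.natCast_eq_zero_iff_even, Finset.card_eq_sum_ones, Nat.cast_sum]
  exact Finset.sum_involution (fun x _ => x * z) (fun _ _ => by decide) (fun x _ _ => by simpa using hz1)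
    (fun x hx => by simpa using h x (by simpa using hx)) (fun x _ => by rw [mul_assoc, hz, mul_one])

theorem Syl.odd_relIndex {S X Y : Subgroup G} (hS : Syl S) (h1 : S ≤ X) (h2 : S ≤ Y) : Odd (X.relIndex Y) := by
  have := (hS.mono h2 le_top).not_dvd_relIndex
  rw [Nat.two_dvd_ne_zero, ← Nat.odd_iff] at this
  exact this.of_dvd_nat (relIndex_dvd_of_le_left Y h1)

/-- the minimal counterexample -/
structure MC (D : Set G) : Prop extends ZH D where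
  ks : kS G = ⊥
  ih : ∀ H : Subgroup G, H ≠ ⊤ → ZH ((↑) ⁻¹' D : Set H) → TIm H

namespace MC

variable {D : Set G} (h : MC D)
include h

theorem eq_one {x : G} (hx : ∀ T, Syl T → x ∈ N[T]) : x = 1 := mem_bot.1 (h.ks ▸ hx)

theorem C1_ne {v : G} (hv : v ≠ 1) : C1[v] ≠ ⊤ := fun e => hv (h.eq_one fun T _ =>
  centralizer_le_normalizer _ (le_C1_iff.1 (e ▸ le_top)))

theorem N_ne {R : Subgroup G} (hR : IsPGroup 2 R) (h1 : R ≠ ⊥) : N[R] ≠ ⊤ := fun e =>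
  h1 (eq_bot_iff.2 fun x hx => mem_bot.2 (h.eq_one fun T hT =>
    le_normalizer (hT.le_of_normalizes hR le_top (e ▸ le_top) hx)))

theorem le_of {H S T U : Subgroup G} (hH : H ≠ ⊤) (hS : Syl S) (hT : Syl T) (hU : Syl U) (hne : S ≠ T)
    (h1 : h.zs hS ≤ H) (h2 : h.zs hT ≤ H) (h3 : h.zs hU ≤ H) : S ⊓ T ⊓ H ≤ U := by
  obtain ⟨d, hd, dS, -⟩ := h.exists_ne hS 1
  obtain ⟨e, he, eT, -⟩ := h.exists_ne hT 1
  obtain ⟨a, ha, aU, -⟩ := h.exists_ne hU 1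
  have dH := h1 (Or.inr ⟨hd, dS⟩)
  intro x hx
  exact h.ih H hH (h.sub hS h1) _ _ _ (h.syl_sub hd hS dS dH) (h.syl_sub he hT eT (h2 (Or.inr ⟨he, eT⟩)))
    (h.syl_sub ha hU aU (h3 (Or.inr ⟨ha, aU⟩)))
    (fun e1 => hne (h.eq hd hS hT dS (e1.le (show ⟨d, dH⟩ ∈ S.subgroupOf H from dS))))
    (show ⟨x, hx.2⟩ ∈ _ from hx.1)

theorem zs_le_C1 {U : Subgroup G} (hU : Syl U) {v : G} (hv : v ∈ U) : h.zs hU ≤ C1[v] := fun _ hz =>
  mem_C1.2 (h.zs_comm hU hz hv).symm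

theorem zs_le_C {U R : Subgroup G} (hU : Syl U) (hR : R ≤ U) : h.zs hU ≤ C[R] := fun _ hz =>
  mem_centralizer_iff.2 fun _ hr => h.zs_comm hU hz (hR hr)

theorem ti {S T U : Subgroup G} (hS : Syl S) (hT : Syl T) (hU : Syl U) (hne : S ≠ T) {x : G} (h1 : x ≠ 1)
    (h2 : x ∈ S ⊓ T) (h3 : x ∈ U) : S ⊓ T ≤ U := by
  have key : ∀ {v : G}, v ≠ 1 → v ∈ S ⊓ T → v ∈ U → S ⊓ T ⊓ C1[v] ≤ U := fun v1 hv vU =>
    h.le_of (h.C1_ne v1) hS hT hU hne (h.zs_le_C1 hS hv.1) (h.zs_le_C1 hT hv.2) (h.zs_le_C1 hU vU)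
  obtain ⟨w, hw, w1, -, hc⟩ := h9_exists_central_mem (hS.isPGroup.to_le (inf_le_left (b := T)))
    fun e => h1 (mem_bot.1 (e ▸ h2))
  exact fun y hy => key w1 hw (key h1 h2 h3 ⟨hw, mem_C1.2 (hc x h2)⟩) ⟨hy, mem_C1.2 (hc y hy).symm⟩

theorem inf_eq {S T U W : Subgroup G} (hS : Syl S) (hT : Syl T) (hU : Syl U) (hW : Syl W) (h1 : S ≠ T)
    (h2 : U ≠ W) {x : G} (x1 : x ≠ 1) (h3 : x ∈ S ⊓ T) (h4 : x ∈ U ⊓ W) : S ⊓ T = U ⊓ W :=
  le_antisymm (le_inf (h.ti hS hT hU h1 x1 h3 h4.1) (h.ti hS hT hW h1 x1 h3 h4.2))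
    (le_inf (h.ti hU hW hS h2 x1 h4 h3.1) (h.ti hU hW hT h2 x1 h4 h3.2))

end MC

/-- two Sylow subgroups with non-trivial intersection -/
structure Cx (D : Set G) (S T K : Subgroup G) : Prop where
  mc : MC D
  hS : Syl S
  hT : Syl T
  ne : S ≠ T
  nb : S ⊓ T ≠ ⊥
  blk : Blk D N[S ⊓ T] S (S ⊓ T) K

theorem MC.cx {D : Set G} (h : MC D) {S T : Subgroup G} (hS : Syl S) (hT : Syl T) (hne : S ≠ T)
    (h1 : S ⊓ T ≠ ⊥) : ∃ K, Cx D S T K := by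
  have h2 := h.N_ne (hS.isPGroup.to_le inf_le_left) h1
  have h3 := (h.zs_le_C hS (inf_le_left (b := T))).trans (centralizer_le_normalizer _)
  obtain ⟨K, hK⟩ := h.blk (h.ih _ h2 (h.sub hS h3)) hS hT hne h3
    ((h.zs_le_C hT inf_le_right).trans (centralizer_le_normalizer _))
  rw [inf_eq_left.2 le_normalizer] at hK
  exact ⟨K, h, hS, hT, hne, h1, hK⟩

theorem conj_ne {S T : Subgroup G} (h : S ≠ T) (g : G) : g •ᶜ S ≠ g •ᶜ T := fun e => h (conj_inj.1 e)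

namespace Cx

variable {D : Set G} {S T K : Subgroup G} (c : Cx D S T K)
include c

local notation "R" => S ⊓ T
local notation "P" => S ⊓ N[S ⊓ T]
local notation "Z" => ZH.zs c.mc.toZH c.hS

theorem Z_C : Z ≤ C[R] := c.mc.zs_le_C c.hS inf_le_left

theorem Z_P : Z ≤ P := le_inf (c.mc.zs_le c.hS) (c.Z_C.trans (centralizer_le_normalizer _))

theorem R_P : R ≤ P := le_inf inf_le_left le_normalizer

theorem KS : K ≤ N[S] := fun k hk => by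
  obtain ⟨d, hd, dS, -⟩ := c.mc.exists_ne c.hS 1
  exact c.mc.norm hd c.hS dS (conj_mem_of_le_normalizer c.blk.KS hk (c.Z_P (Or.inr ⟨hd, dS⟩))).1

/-- conjugates of `R` form a TI-set -/
theorem conj_eq {g g' x : G} (x1 : x ≠ 1) (h1 : x ∈ g •ᶜ R) (h2 : x ∈ g' •ᶜ R) : g •ᶜ R = g' •ᶜ R := by
  rw [conj_inf] at h1 h2 ⊢
  rw [conj_inf]
  exact c.mc.inf_eq (c.hS.conj _) (c.hT.conj _) (c.hS.conj _) (c.hT.conj _) (conj_ne c.ne _) (conj_ne c.ne _) x1 h1 h2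

theorem mem_N {g x : G} (x1 : x ≠ 1) (h1 : x ∈ R) (h2 : g * x * g⁻¹ ∈ R) : g ∈ N[R] := by
  have := c.conj_eq (g' := 1) (by simpa using x1) (conj_mem_conj h1 g) (by rwa [map_conj_one])
  rw [map_conj_one] at this
  exact conj_eq_iff_mem_normalizer.1 this

theorem cent_le {v y : G} (v1 : v ≠ 1) (hv : v ∈ R) (e : y * v = v * y) : y ∈ N[R] :=
  c.mem_N v1 hv (by rwa [e, mul_inv_cancel_right])

theorem not_D {g x : G} (hx : x ∈ g •ᶜ R) : x ∉ D := fun hD => by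
  rw [conj_inf] at hx
  exact conj_ne c.ne g (c.mc.eq hD (c.hS.conj g) (c.hT.conj g) hx.1 hx.2)

theorem Z_eq_one {g x : G} (hx : x ∈ g •ᶜ R) (hz : x ∈ Z) : x = 1 := hz.resolve_right fun e => c.not_D hx e.1

theorem fix_le {k d x : G} (hk : k ∈ K) (hd : d ∈ D) (dS : d ∈ S) (h1 : k * d ≠ d * k) (hx : x ∈ S)
    (e : x * k = k * x) : x ∈ R := by
  by_contra h2
  have h3 : R ≤ S ⊓ C1[k] := le_inf inf_le_left (le_C1_iff.2 (c.blk.KR hk))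
  obtain ⟨y, hy, h4, h5⟩ := exists_mem_normalizer_not_mem
    (isNilpotent_of_isPGroup (c.hS.isPGroup.to_le inf_le_left))
    (lt_of_le_of_ne h3 fun e1 => h2 (e1.ge ⟨hx, mem_C1.2 e⟩))
  refine h5 (c.blk.fpf k hk d hd dS h1 y ⟨hy.1, h4⟩ ?_)
  rw [mul_assoc y⁻¹, ← mem_C1.1 hy.2]; simp

theorem cc {k d x : G} (hk : k ∈ K) (hd : d ∈ D) (dS : d ∈ S) (h1 : k * d ≠ d * k) {L : Subgroup G}
    (hL : L ≤ S) (hR : R ≤ L) (hn : k ∈ N[L]) (hx : x ∈ S) (e : x⁻¹ * k * x * k⁻¹ ∈ L) : x ∈ L := by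
  have h2 : CoprimeAct (zpowers k) L := CoprimeAct.of_isPGroup_right (c.hS.isPGroup.to_le hL)
    (fun e => c.blk.odd (e.trans (card_dvd_of_le (zpowers_le.2 hk)))) (zpowers_le.2 hn)
  obtain ⟨l, hl, h3⟩ := h2.exists_mul_mem_centralizer (x := x) (fun a ha => by
    obtain ⟨n, rfl⟩ := (mem_powers_iff_mem_zpowers.2 ha)
    induction n with
    | zero => simp
    | succ n ih =>
      have := L.mul_mem e ((mem_normalizer_iff.1 hn _).1 (ih (pow_mem (mem_zpowers k) n)))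
      simpa [pow_succ', mul_assoc] using this)
  have := hR (c.fix_le hk hd dS h1 (mul_mem hx (hL hl)) (mem_centralizer_iff.1 h3 k (mem_zpowers k)).symm)
  simpa using mul_mem this (inv_mem hl)

theorem exists_k : ∃ k ∈ K, ∃ d ∈ D, d ∈ S ∧ k * d ≠ d * k := by
  obtain ⟨d, hd, e, he, dS, eS, h1⟩ := c.mc.exists_two c.hS
  obtain ⟨k, hk, h2⟩ := c.blk.tr d hd dS e he eS
  exact ⟨k, hk, d, hd, dS, fun e => h1 (by rw [← h2, e, mul_inv_cancel_right])⟩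

/-- `R` is not normal in `S` -/
theorem not_le : ¬ S ≤ N[R] := by
  intro hn
  obtain ⟨w, hw, w2, hc⟩ := pg_exists_fixed_of_order_p (c.hS.isPGroup.to_le inf_le_left) c.hS.isPGroup hn c.nb
  have w1 := ne_one_of_orderOf_two w2
  have ww := ci_mul_self w2
  have wD : w ∉ D := c.not_D (g := 1) (by rwa [map_conj_one])
  obtain ⟨U, hU, wU⟩ : ∃ U, Syl U ∧ w ∉ U := by
    by_contra! hh
    exact w1 (c.mc.eq_one fun U hU => le_normalizer (hh U hU))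
  obtain ⟨d, hd, c1, c2⟩ := c.mc.special ww wD hU wU
  obtain ⟨W, hW, dW⟩ := c.mc.exists_pt hd
  have wW := c.mc.mem_of_comm hd hW dW (isPGroup_sq ww) c1
  obtain ⟨e, he, rfl⟩ := c.mc.exists_cent hW c.hS (zpowers_le.2 wW) (zpowers_le.2 hw.1)
  have ew : e * w * e⁻¹ = w := by rw [← mem_centralizer_iff.1 he w (mem_zpowers w), mul_inv_cancel_right]
  have hz := c.mc.conj d hd e
  have zS := conj_mem_conj dW e
  have uU := conj_mem_conj c2 e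
  rw [← conj_mul, ew] at uU
  have hne : e •ᶜ W ≠ e •ᶜ U := conj_ne (show W ≠ U from fun e1 => wU (e1 ▸ wW)) e
  generalize e * d * e⁻¹ = z at hz zS uU
  have u1 : w * z ≠ 1 := fun e => wD (by rwa [eq_inv_of_mul_eq_one_left e, inv_eq (c.mc.sq z hz)])
  obtain ⟨K', c'⟩ := c.mc.cx c.hS (hU.conj e) hne fun e1 => u1 (mem_bot.1 (e1 ▸ ⟨mul_mem hw.1 zS, uU⟩))
  obtain ⟨z₂, hz₂, z₂S, h1⟩ := c.mc.exists_ne c.hS z
  obtain ⟨m, hm, h2⟩ := c'.blk.tr z hz zS z₂ hz₂ z₂S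
  have h3 : m * w * m⁻¹ = w * (z * z₂) := by
    have := mem_centralizer_iff.1 (c'.blk.KR hm) _ ⟨mul_mem hw.1 zS, uU⟩
    calc m * w * m⁻¹ = m * (w * z) * m⁻¹ * (m * z * m⁻¹) := by
          rw [conj_mul, mul_assoc w, c.mc.sq z hz, mul_one]
      _ = _ := by rw [← this, h2]; group
  have h4 : ∀ z' ∈ D, z' ∈ e •ᶜ W → ∃ n ∈ N[e •ᶜ W], n * w * n⁻¹ = w * z' := fun z' hz' z'S => by
    obtain ⟨k, hk, h5⟩ := c.blk.tr _ (c.mc.mul_mem' hz hz₂ c.hS zS z₂S h1.symm) (mul_mem zS z₂S) z' hz' z'S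
    refine ⟨k * m, mul_mem (c.KS hk) (c'.KS hm), ?_⟩
    calc _ = k * (m * w * m⁻¹) * k⁻¹ := by group
      _ = _ := by rw [h3, ← conj_mul, h5, ← mem_centralizer_iff.1 (c.blk.KR hk) w hw, mul_inv_cancel_right]
  have h5 := even_ncard_of_mul (O := (fun x => x * w * x⁻¹) '' (N[e •ᶜ W] : Set G)) (c.mc.sq z hz) (c.mc.ne z hz) (by
    rintro _ ⟨n, hn, rfl⟩
    obtain ⟨n', hn', h6⟩ := h4 _ (c.mc.conj' hz n) ((mem_normalizer_iff''.1 hn z).1 zS)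
    refine ⟨n * n', mul_mem hn hn', ?_⟩
    calc _ = n * (n' * w * n'⁻¹) * n⁻¹ := by group
      _ = _ := by rw [h6]; group)
  rw [Bender.ncard_conj_eq_relIndex] at h5
  exact Nat.not_even_iff_odd.2 (c.hS.odd_relIndex (le_C1_iff.2 hc) le_normalizer) h5

theorem comm_conj {x y : G} (hx : x ∈ N[P]) (hy : y ∈ N[P]) (hne : x •ᶜ R ≠ y •ᶜ R) {a b : G}
    (ha : a ∈ x •ᶜ R) (hb : b ∈ y •ᶜ R) : a * b = b * a := by
  have k1 : ∀ x ∈ N[P], x •ᶜ R ≤ P := fun x hx => map_conj_le_of_mem_normalizer c.R_P hx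
  have k2 : ∀ x ∈ N[P], P ≤ N[x •ᶜ R] := fun x hx => le_normalizer_map_conj inf_le_right hx
  exact comm_of_inf ((k1 x hx).trans (k2 y hy)) ((k1 y hy).trans (k2 x hx))
    (eq_bot_iff.2 fun v hv => by_contra fun v1 => hne (c.conj_eq v1 hv.1 hv.2)) ha hb

theorem exists_y : ∃ y ∈ S, y ∈ N[P] ∧ y ∉ N[R] := by
  obtain ⟨y, hy, h1, h2⟩ := exists_mem_normalizer_not_mem (isNilpotent_of_isPGroup c.hS.isPGroup)
    (lt_of_le_of_ne (inf_le_left (b := N[R])) fun e => c.not_le (e.ge.trans inf_le_right))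
  exact ⟨y, hy, h1, fun e => h2 ⟨hy, e⟩⟩

theorem dec {a : G} (ha : a ∈ P) (h2 : a * a ∈ R) : ∃ z ∈ Z, z * a ∈ R := by
  rcases c.blk.b1 a ha h2 with h | ⟨d, hd, dS, h⟩
  exacts [⟨1, one_mem _, by rwa [one_mul]⟩, ⟨d, Or.inr ⟨hd, dS⟩, h⟩]

theorem central_of {y : G} (hy : y ∈ R) (hc : y ∈ C[R]) : y ∈ C[P] := mem_centralizer_iff.2 fun p hp => by
  obtain ⟨a, ha, r, hr, rfl⟩ := c.blk.b5 p hp
  rw [mul_assoc, mem_centralizer_iff.1 hc r hr, ← mul_assoc, ← mem_centralizer_iff.1 ha.2 y hy, mul_assoc]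

theorem invol_central {a : G} (ha : a ∈ P) (h2 : a * a = 1) : a ∈ C[P] := by
  have key : ∀ v ∈ R, v * v = 1 → v ∈ C[P] := fun v hv v2 => by
    obtain ⟨y, hy, h1, h3⟩ := c.exists_y
    obtain ⟨z, hz, h4⟩ := c.dec (conj_mem_of_le_normalizer le_rfl h1 (c.R_P hv))
      (by rw [conj_mul, v2]; simp)
    refine c.central_of hv (mem_centralizer_iff.2 fun r hr => ?_)
    have h5 := c.comm_conj h1 (one_mem _) (by rwa [map_conj_one, Ne, conj_eq_iff_mem_normalizer])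
      (conj_mem_conj hr y) (b := z * (y * v * y⁻¹)) (by rwa [map_conj_one])
    have h6 := c.mc.zs_comm c.hS hz ((mem_normalizer_iff.1 (le_normalizer hy) r).1 hr.1)
    rw [← mul_assoc (y * r * y⁻¹) z, h6, mul_assoc z, mul_assoc z, mul_right_inj, conj_mul, conj_mul] at h5
    simpa using h5
  obtain ⟨z, hz, h3⟩ := c.dec ha (h2 ▸ one_mem _)
  have h4 := key _ h3 (by
    rw [mul_assoc, ← mul_assoc a, c.mc.zs_comm c.hS hz ha.1, mul_assoc, h2, mul_one, c.mc.zs_sq c.hS hz])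
  simpa using mul_mem (inv_mem (c.mc.zs_le_C c.hS inf_le_left hz)) h4

theorem pencil {v z : G} (hv : v ∈ R) (v1 : v ≠ 1) (v2 : v * v = 1) (hz : z ∈ Z) :
    ∃ x ∈ S, x ∈ N[P] ∧ x * v * x⁻¹ = z * v := by
  rcases hz with rfl | ⟨hz, zS⟩
  · exact ⟨1, one_mem _, one_mem _, by simp⟩
  obtain ⟨y, hy, h1, h2⟩ := c.exists_y
  obtain ⟨k, hk, d, hd, dS, h3⟩ := c.exists_k
  have cj : ∀ g ∈ N[S], ∀ d ∈ S, g * d * g⁻¹ ∈ S := fun g hg d => (mem_normalizer_iff.1 hg d).1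
  have hx : y⁻¹ * k * y * k⁻¹ ∈ S := by simpa [mul_assoc] using mul_mem (inv_mem hy) (cj k (c.KS hk) y hy)
  have hx' : y⁻¹ * k * y * k⁻¹ ∈ N[P] :=
    mul_mem (mul_mem (mul_mem (inv_mem h1) (c.blk.KS hk)) h1) (inv_mem (c.blk.KS hk))
  obtain ⟨z₁, hz₁, h4⟩ := c.dec (conj_mem_of_le_normalizer le_rfl h1 (c.R_P hv)) (by rw [conj_mul, v2]; simp)
  have h5 : y⁻¹ * k * y * k⁻¹ * v * (y⁻¹ * k * y * k⁻¹)⁻¹ = (k * z₁⁻¹ * k⁻¹ * z₁) * v := by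
    have e1 := mem_centralizer_iff.1 (c.blk.KR hk) v hv
    have e2 := mem_centralizer_iff.1 (c.blk.KR hk) _ h4
    have e3 := c.mc.zs_comm c.hS (mul_mem (c.mc.zs_conj c.hS (inv_mem hz₁) (c.KS hk)) hz₁) hy
    calc _ = y⁻¹ * k * y * k⁻¹ * (v * k) * (y⁻¹ * k⁻¹ * y) := by group
      _ = y⁻¹ * k * z₁⁻¹ * k⁻¹ * (k * (z₁ * (y * v * y⁻¹))) * k⁻¹ * y := by rw [e1]; group
      _ = y⁻¹ * (k * z₁⁻¹ * k⁻¹ * z₁ * y) * v := by rw [← e2]; group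
      _ = _ := by rw [← e3]; group
  rcases mul_mem (c.mc.zs_conj c.hS (inv_mem hz₁) (c.KS hk)) hz₁ with h6 | h6
  · rw [h6, one_mul, mul_inv_eq_iff_eq_mul] at h5
    exact absurd (c.cc hk hd dS h3 inf_le_left c.R_P (c.blk.KS hk) hy ⟨hx, c.cent_le v1 hv h5⟩).2 h2
  obtain ⟨l, hl, h7⟩ := c.blk.tr _ h6.1 h6.2 z hz zS
  refine ⟨_, cj l (c.KS hl) _ hx, mul_mem (mul_mem (c.blk.KS hl) hx') (inv_mem (c.blk.KS hl)), ?_⟩
  have e1 := mem_centralizer_iff.1 (c.blk.KR hl) v hv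
  generalize y⁻¹ * k * y * k⁻¹ = x at h5
  calc _ = l * x * l⁻¹ * (v * l) * x⁻¹ * l⁻¹ := by group
    _ = l * (x * v * x⁻¹) * l⁻¹ := by rw [e1]; group
    _ = z * (l * v) * l⁻¹ := by rw [h5, ← h7]; group
    _ = _ := by rw [← e1]; group

theorem R_sq {y : G} (hy : y ∈ R) : y * y = 1 := by
  by_contra h1
  obtain ⟨y, hy, v1, v2⟩ : ∃ y ∈ R, y * y ≠ 1 ∧ y * y * (y * y) = 1 := by
    obtain ⟨n, hn⟩ := c.hS.isPGroup ⟨y, hy.1⟩
    have hn : y ^ 2 ^ n = 1 := congrArg Subtype.val hn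
    induction n generalizing y with
    | zero => rw [pow_zero, pow_one] at hn; exact absurd (by rw [hn, one_mul]) h1
    | succ n ih =>
      by_cases h2 : y * y * (y * y) = 1
      · exact ⟨y, hy, h1, h2⟩
      · exact ih (mul_mem hy hy) h2 (Subtype.ext (by simpa [pow_succ', pow_mul, sq] using hn))
          (by simpa [pow_succ', pow_mul, sq] using hn)
  have hv := mul_mem hy hy
  obtain ⟨d, hd, e, he, dS, eS, hne⟩ := c.mc.exists_two c.hS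
  have dZ : d ∈ Z := Or.inr ⟨hd, dS⟩
  have eZ : e ∈ Z := Or.inr ⟨he, eS⟩
  have key : ∀ z ∈ Z, ∃ x ∈ N[P], ∃ a ∈ x •ᶜ R, a * a = z * (y * y) ∧ (y ∈ C[P] → a ∈ C[P]) := fun z hz => by
    obtain ⟨x, hx, h2, h3⟩ := c.pencil hv v1 v2 hz
    exact ⟨x, h2, _, conj_mem_conj hy x, by rw [conj_mul, h3], fun e => by
      have := conj_mem_conj e x
      rwa [conj_centralizer, conj_eq_iff_mem_normalizer.2 h2] at this⟩
  have key2 : ∀ {x x' a a' z z' : G}, z ∈ Z → z' ∈ Z → z ≠ z' → x ∈ N[P] → x' ∈ N[P] → a ∈ x •ᶜ R → a' ∈ x' •ᶜ R →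
      a * a = z * (y * y) → a' * a' = z' * (y * y) → x •ᶜ R ≠ x' •ᶜ R := by
    intro x x' a a' z z' hz hz' h2 hx hx' ha ha' e1 e2 e3
    refine h2 (mul_inv_eq_one.1 (c.Z_eq_one (g := x') ?_ (mul_mem hz (inv_mem hz'))))
    have := mul_mem (mul_mem (e3 ▸ ha) (e3 ▸ ha)) (inv_mem (mul_mem ha' ha'))
    rwa [e1, e2, show z * (y * y) * (z' * (y * y))⁻¹ = z * z'⁻¹ by group] at this
  obtain ⟨x₁, n₁, a₁, m₁, s₁, c₁⟩ := key d dZ
  obtain ⟨x₂, n₂, a₂, m₂, s₂, -⟩ := key e eZ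
  obtain ⟨x₃, n₃, a₃, m₃, s₃, -⟩ := key _ (mul_mem dZ eZ)
  have m₀ : ∀ r ∈ R, r ∈ (1 : G) •ᶜ R := fun r hr => by rwa [map_conj_one]
  have d1 := c.mc.ne d hd
  have e1 := c.mc.ne e he
  have t₁ : ∀ r ∈ R, Commute r a₁ := fun r hr => c.comm_conj (one_mem _) n₁
    (key2 (one_mem _) dZ d1.symm (one_mem _) n₁ (m₀ y hy) m₁ (one_mul _).symm s₁) (m₀ r hr) m₁
  have t₂ : ∀ r ∈ R, Commute r a₂ := fun r hr => c.comm_conj (one_mem _) n₂
    (key2 (one_mem _) eZ e1.symm (one_mem _) n₂ (m₀ y hy) m₂ (one_mul _).symm s₂) (m₀ r hr) m₂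
  have t₃ : ∀ r ∈ R, Commute r a₃ := fun r hr => c.comm_conj (one_mem _) n₃
    (key2 (one_mem _) (mul_mem dZ eZ) (c.mc.ne _ (c.mc.mul_mem' hd he c.hS dS eS hne)).symm (one_mem _) n₃
      (m₀ y hy) m₃ (one_mul _).symm s₃) (m₀ r hr) m₃
  have t₁₂ : Commute a₁ a₂ := c.comm_conj n₁ n₂ (key2 dZ eZ hne n₁ n₂ m₁ m₂ s₁ s₂) m₁ m₂
  have t₁₃ : Commute a₁ a₃ := c.comm_conj n₁ n₃ (key2 dZ (mul_mem dZ eZ) (by simpa using e1) n₁ n₃ m₁ m₃ s₁ s₃) m₁ m₃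
  have t₂₃ : Commute a₂ a₃ := c.comm_conj n₂ n₃ (key2 eZ (mul_mem dZ eZ) (by simpa using d1) n₂ n₃ m₂ m₃ s₂ s₃) m₂ m₃
  have k1 : ∀ x ∈ N[P], x •ᶜ R ≤ P := fun x hx => map_conj_le_of_mem_normalizer c.R_P hx
  have h2 : y * (a₁ * (a₂ * a₃)) ∈ C[P] := by
    refine c.invol_central (mul_mem (c.R_P hy) (mul_mem (k1 _ n₁ m₁) (mul_mem (k1 _ n₂ m₂) (k1 _ n₃ m₃)))) ?_
    rw [← sq, ((t₁ y hy).mul_right ((t₂ y hy).mul_right (t₃ y hy))).mul_pow, (t₁₂.mul_right t₁₃).mul_pow,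
      t₂₃.mul_pow, sq, sq, sq, sq, s₁, s₂, s₃]
    have f1 := c.mc.zs_comm c.hS dZ hv.1
    have f2 := c.mc.zs_comm c.hS (mul_mem dZ eZ) hv.1
    generalize y * y = v at f1 f2 v2
    calc _ = (v * d) * v * e * (v * (d * e)) * v := by group
      _ = d * (v * v) * e * (d * e) * (v * v) := by rw [f1, f2]; group
      _ = 1 := by rw [v2, mul_one, mul_one, c.mc.zs_sq c.hS (mul_mem dZ eZ)]
  have h3 := c₁ (c.central_of hy (mem_centralizer_iff.2 fun r hr => by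
    have := ((t₁ r hr).mul_right ((t₂ r hr).mul_right (t₃ r hr))).inv_right
    have h4 : Commute r _ := mem_centralizer_iff.1 h2 r (c.R_P hr)
    simpa [mul_assoc] using (h4.mul_right this).eq))
  have h4 := c.blk.b4 a₁ (k1 _ n₁ m₁) fun p hp => by
    rw [mul_assoc, mul_assoc, ← mem_centralizer_iff.1 h3 p hp]; simp
  rw [s₁] at h4
  exact d1 (c.Z_eq_one (m₀ _ (by simpa [mul_assoc] using mul_mem h4 (inv_mem hv))) dZ)

theorem R_C : R ≤ C[P] := fun r hr => c.invol_central (c.R_P hr) (c.R_sq hr)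

theorem P_eq {v : G} (hv : v ∈ R) (v1 : v ≠ 1) : S ⊓ C1[v] = P :=
  le_antisymm (fun y hy => ⟨hy.1, c.cent_le v1 hv (mem_C1.1 hy.2)⟩)
    (le_inf inf_le_left (le_C1_iff.2 (c.R_C hv)))

end Cx

end Cfsg.Lib.R1
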