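import Cfsg.Agent.Lib.R1.ZBasic

/-!
Passing to subgroups and quotients.
-/

set_option autoImplicit false
set_option linter.unusedSectionVars false
set_option linter.unusedVariables false

namespace Cfsg.Lib.R1
open Subgroup Cfsg.Lib Cfsg.Lib.FT

variable {G : Type*} [Group G] [Finite G]

theorem Syl.inf_eq {P H T : Subgroup G} (hT : Syl T) (hP : IsSylowIn 2 P H) (h : P ≤ T) : T ⊓ H = P :=
  hP.maximal _ (hT.isPGroup.to_le inf_le_left) inf_le_right (le_inf h hP.le)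

theorem syl_sub_iff {P H : Subgroup G} : Syl (P.subgroupOf H) ↔ IsSylowIn 2 (P ⊓ H) H := by
  rw [← isSylowIn_subgroupOf_iff inf_le_right le_rfl, subgroupOf_self, inf_subgroupOf_right]

theorem Syl.exists_sub {H : Subgroup G} {P : Subgroup H} (hP : Syl P) :
    ∃ T, Syl T ∧ P = T.subgroupOf H := by
  have h1 : IsSylowIn 2 (P.map H.subtype) H := by
    have := hP.map H.subtype
    rwa [← MonoidHom.range_eq_map, range_subtype] at this
  obtain ⟨T, hT, h2⟩ := exists_isSylowIn_ge h1.isPGroup le_top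
  refine ⟨T, hT, ?_⟩
  rw [← inf_subgroupOf_right, Syl.inf_eq hT h1 h2, subgroupOf, comap_map_eq_self_of_injective H.subtype_injective]

theorem UniqSyl.syl_sub {d : G} (hd : UniqSyl d) (h2 : IsPGroup 2 (zpowers d)) {S H : Subgroup G} (hS : Syl S)
    (h1 : d ∈ S) (hH : d ∈ H) : Syl (S.subgroupOf H) := by
  obtain ⟨P, hP, h3⟩ := exists_isSylowIn_ge h2 (zpowers_le.2 hH)
  obtain ⟨T, hT, h4⟩ := exists_isSylowIn_ge hP.isPGroup le_top
  rw [syl_sub_iff, hd S T hS hT h1 (h4 (h3 (mem_zpowers d))), Syl.inf_eq hT hP h4]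
  exact hP

theorem UniqSyl.sub {H : Subgroup G} {d : H} (hd : UniqSyl (d : G)) : UniqSyl d := by
  intro P Q hP hQ h1 h2
  obtain ⟨T, hT, rfl⟩ := Syl.exists_sub hP
  obtain ⟨U, hU, rfl⟩ := Syl.exists_sub hQ
  rw [hd T U hT hU h1 h2]

/-- the elements normalizing all Sylow 2-subgroups -/
def kS (G : Type*) [Group G] : Subgroup G where
  carrier := {x | ∀ T, Syl T → x ∈ N[T]}
  one_mem' := fun _ _ => one_mem _
  mul_mem' := fun ha hb T hT => mul_mem (ha T hT) (hb T hT)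
  inv_mem' := fun ha T hT => inv_mem (ha T hT)

instance : (kS G).Normal := ⟨fun x hx g T hT => by
  have := conj_mem_conj (hx _ (hT.conj g⁻¹)) g
  rwa [conj_normalizer, conj_conj, mul_inv_cancel, map_conj_one] at this⟩

section quot
variable {X : Type*} [Group X] {f : G →* X}

theorem Syl.map {T : Subgroup G} (hT : Syl T) (hf : Function.Surjective f) : Syl (T.map f) := by
  have := IsSylowIn.map hT f
  rwa [map_top_of_surjective f hf] at this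

theorem Syl.exists_map {P : Subgroup X} (hP : Syl P) (hf : Function.Surjective f) :
    ∃ T, Syl T ∧ T.map f = P := by
  obtain ⟨T, hT, -, e⟩ := exists_sylow_lift hf hP (U := ⊥) IsPGroup.of_bot (by simp)
  exact ⟨T, hT, e⟩

theorem Syl.mem_of_map {T : Subgroup G} (hT : Syl T) (hk : f.ker ≤ kS G) {x : G}
    (hx : IsPGroup 2 (zpowers x)) (h : f x ∈ T.map f) : x ∈ T := by
  obtain ⟨y, hy, e⟩ := h
  have : y⁻¹ * x ∈ f.ker := by rw [MonoidHom.mem_ker, map_mul, map_inv, e, inv_mul_cancel]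
  exact hT.mem_of_norm hx (by simpa using mul_mem (le_normalizer hy) (hk this T hT))

theorem Syl.eq_of_map {T U : Subgroup G} (hT : Syl T) (hU : Syl U) (hk : f.ker ≤ kS G)
    (h : T.map f = U.map f) : T = U :=
  (hT.maximal U hU.isPGroup le_top fun x hx =>
    hU.mem_of_map hk (isPGroup_zpowers hT.isPGroup hx) (h ▸ mem_map_of_mem f hx)).symm

theorem map_conj' (f : G →* X) (g : G) (T : Subgroup G) : (g •ᶜ T).map f = f g •ᶜ T.map f := by
  rw [map_map, map_map]; congr 1; ext x; simp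

theorem Syl.norm_of_map {T : Subgroup G} (hT : Syl T) (hk : f.ker ≤ kS G) {g : G}
    (h : f g ∈ N[T.map f]) : g ∈ N[T] :=
  conj_eq_iff_mem_normalizer.1 ((hT.conj g).eq_of_map hT hk
    (by rw [map_conj', conj_eq_iff_mem_normalizer.2 h]))

theorem TIm.map (h : TIm G) (hf : Function.Surjective f) : TIm X := by
  intro S T U hS hT hU hne
  obtain ⟨P, Q, hP, hQ, h1, h2⟩ := exists_sylow_lift_inf hf hS hT hne
  obtain ⟨W, hW, rfl⟩ := hU.exists_map hf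
  exact h2.trans (map_mono (h P Q W hP hQ hW h1))

theorem TIm.of_map (h : TIm X) (hf : Function.Surjective f) (hk : f.ker ≤ kS G) : TIm G := by
  intro S T U hS hT hU hne x hx
  exact hU.mem_of_map hk (isPGroup_zpowers hS.isPGroup hx.1) (h _ _ _ (hS.map hf) (hT.map hf) (hU.map hf)
    (fun e => hne (hS.eq_of_map hT hk e)) ⟨mem_map_of_mem f hx.1, mem_map_of_mem f hx.2⟩)

end quot

theorem kS_quot : kS (G ⧸ kS G) = ⊥ := by
  refine eq_bot_iff.2 fun x hx => ?_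
  obtain ⟨g, rfl⟩ := QuotientGroup.mk'_surjective _ x
  exact (QuotientGroup.eq_one_iff g).2 fun T hT => hT.norm_of_map (f := QuotientGroup.mk' (kS G))
    (QuotientGroup.ker_mk' _).le (hx _ (hT.map (QuotientGroup.mk'_surjective _)))

namespace ZH

variable {D : Set G} (h : ZH D)
include h

theorem syl_sub {d : G} (hd : d ∈ D) {S H : Subgroup G} (hS : Syl S) (h1 : d ∈ S) (hH : d ∈ H) :
    Syl (S.subgroupOf H) := UniqSyl.syl_sub (h.uniq d hd) (isPGroup_sq (h.sq d hd)) hS h1 hH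

theorem sub {H S : Subgroup G} (hS : Syl S) (hH : h.zs hS ≤ H) : ZH ((↑) ⁻¹' D : Set H) where
  sq := fun d hd => Subtype.ext (h.sq d hd)
  ne := fun d hd e => h.ne d hd (congrArg Subtype.val e)
  conj := fun d hd g => h.conj d hd g
  uniq := fun d hd => UniqSyl.sub (h.uniq d hd)
  cent := fun d hd P hP h1 => by
    obtain ⟨T, hT, rfl⟩ := hP.exists_sub
    exact mem_centralizer_iff.2 fun x hx => Subtype.ext (h.comm hd hT h1 hx)
  mul := fun d hd e he hne hc => h.mul d hd e he (fun e => hne (Subtype.ext e)) (congrArg Subtype.val hc)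
  two := by
    obtain ⟨d, hd, e, he, h1, h2, hne⟩ := h.exists_two hS
    exact ⟨⟨d, hH (Or.inr ⟨hd, h1⟩)⟩, hd, ⟨e, hH (Or.inr ⟨he, h2⟩)⟩, he, fun e => hne (congrArg Subtype.val e),
      Subtype.ext (h.comm he hS h2 h1)⟩

variable {X : Type*} [Group X] [Finite X] {f : G →* X}

theorem map_ne (hk : f.ker ≤ kS G) {S T : Subgroup G} (hS : Syl S) (hT : Syl T) (hne : S ≠ T) {d : G}
    (hd : d ∈ D) : f d ≠ 1 := fun e =>
  hne (h.eq hd hS hT (hS.mem_of_norm (isPGroup_sq (h.sq d hd)) (hk e S hS))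
    (hT.mem_of_norm (isPGroup_sq (h.sq d hd)) (hk e T hT)))

theorem map (hf : Function.Surjective f) (hk : f.ker ≤ kS G) {S T : Subgroup G} (hS : Syl S) (hT : Syl T)
    (hne : S ≠ T) : ZH (f '' D) where
  sq := by rintro _ ⟨d, hd, rfl⟩; rw [← map_mul, h.sq d hd, map_one]
  ne := by rintro _ ⟨d, hd, rfl⟩; exact h.map_ne hk hS hT hne hd
  conj := by
    rintro _ ⟨d, hd, rfl⟩ g
    obtain ⟨g, rfl⟩ := hf g
    exact ⟨_, h.conj d hd g, by simp⟩
  uniq := by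
    rintro _ ⟨d, hd, rfl⟩ P Q hP hQ h1 h2
    obtain ⟨P, hP', rfl⟩ := Syl.exists_map hP hf
    obtain ⟨Q, hQ', rfl⟩ := Syl.exists_map hQ hf
    rw [h.eq hd hP' hQ' (hP'.mem_of_map hk (isPGroup_sq (h.sq d hd)) h1)
      (hQ'.mem_of_map hk (isPGroup_sq (h.sq d hd)) h2)]
  cent := by
    rintro _ ⟨d, hd, rfl⟩ P hP h1
    obtain ⟨P, hP', rfl⟩ := Syl.exists_map hP hf
    refine mem_centralizer_iff.2 ?_
    rintro _ ⟨x, hx, rfl⟩
    rw [← map_mul, ← map_mul, h.comm hd hP' (hP'.mem_of_map hk (isPGroup_sq (h.sq d hd)) h1) hx]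
  mul := by
    rintro _ ⟨d, hd, rfl⟩ _ ⟨e, he, rfl⟩ h1 hc
    obtain ⟨P, hP, h2, h3⟩ := exists_syl_pair (by rw [← map_mul, h.sq d hd, map_one])
      (by rw [← map_mul, h.sq e he, map_one]) hc
    obtain ⟨P, hP', rfl⟩ := Syl.exists_map hP hf
    exact ⟨_, h.mul_mem' hd he hP' (hP'.mem_of_map hk (isPGroup_sq (h.sq d hd)) h2)
      (hP'.mem_of_map hk (isPGroup_sq (h.sq e he)) h3) (fun e => h1 (by rw [e])), map_mul _ _ _⟩
  two := by
    obtain ⟨d, hd, e, he, h1, hc⟩ := h.two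
    refine ⟨_, ⟨d, hd, rfl⟩, _, ⟨e, he, rfl⟩, fun e1 => h.map_ne hk hS hT hne (h.mul d hd e he h1 hc) ?_,
      by rw [← map_mul, hc, map_mul]⟩
    rw [map_mul, e1, ← map_mul, h.sq e he, map_one]

theorem elemAb_zs {S : Subgroup G} (hS : Syl S) : IsElementaryAbelian 2 (h.zs hS) :=
  ⟨isMulCommutative_of_forall fun _ ha _ hb => h.zs_comm hS hb (h.zs_le hS ha),
    fun a ha => by rw [pow_two, h.zs_sq hS ha]⟩

theorem four_le {S : Subgroup G} (hS : Syl S) : 2 ^ 2 ≤ Nat.card (h.zs hS) := by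
  obtain ⟨n, h1, h2⟩ := h.card_zs hS
  rw [h2]; exact Nat.pow_le_pow_right two_pos h1

theorem odd_le_kS {O : Subgroup G} [O.Normal] (hO : ¬ 2 ∣ Nat.card O) : O ≤ kS G := fun x hx T hT =>
  (CoprimeAct.of_isPGroup (elemAb_isPGroup (h.elemAb_zs hT)) hO le_normalizer_of_normal).le_of_elemAb
    (h.elemAb_zs hT) (h.four_le hT) (fun a ha h1 y hy =>
      h.norm_of_comm (ha.resolve_left h1).1 hT (ha.resolve_left h1).2 (mem_C1.1 hy.2)) hx

end ZH

/-- construction of `D` from a subgroup -/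
theorem ZH.of_subgroup {S Z : Subgroup G} (hS : Syl S) (h1 : Z ≤ S ⊓ C[S]) (h2 : ∀ z ∈ Z, z * z = 1)
    (h3 : N[S] ≤ N[Z]) (h4 : ∀ z ∈ Z, z ≠ 1 → UniqSyl z) (h5 : ∃ a ∈ Z, ∃ b ∈ Z, a ≠ 1 ∧ b ≠ 1 ∧ a ≠ b) :
    ∃ D : Set G, ZH D ∧ ∀ x, x ∈ D ∧ x ∈ S ↔ x ∈ Z ∧ x ≠ 1 := by
  have key : ∀ {g z : G}, z ∈ Z → z ≠ 1 → ∀ {T}, Syl T → g * z * g⁻¹ ∈ T → g •ᶜ S = T := fun hz hz1 _ hT e =>
    (h4 _ hz hz1).conj _ _ _ (hS.conj _) hT (conj_mem_conj (h1 hz).1 _) e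
  have key2 : ∀ {g z : G}, z ∈ Z → z ≠ 1 → g * z * g⁻¹ ∈ S → g * z * g⁻¹ ∈ Z := fun hz hz1 e =>
    (mem_normalizer_iff.1 (h3 (conj_eq_iff_mem_normalizer.1 (key hz hz1 hS e))) _).1 hz
  refine ⟨{x | ∃ g, ∃ z ∈ Z, z ≠ 1 ∧ x = g * z * g⁻¹}, ⟨?_, ?_, ?_, ?_, ?_, ?_, ?_⟩, fun x => ⟨?_, ?_⟩⟩
  · rintro _ ⟨g, z, hz, -, rfl⟩
    rw [conj_mul, h2 z hz]; simp
  · rintro _ ⟨g, z, -, hz, rfl⟩
    simpa using hz
  · rintro _ ⟨g, z, hz, hz1, rfl⟩ k
    exact ⟨k * g, z, hz, hz1, by group⟩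
  · rintro _ ⟨g, z, hz, hz1, rfl⟩
    exact (h4 z hz hz1).conj g
  · rintro _ ⟨g, z, hz, hz1, rfl⟩ T hT e
    rw [← key hz hz1 hT e, ← conj_centralizer]
    exact conj_mem_conj (h1 hz).2 g
  · rintro _ ⟨g, z, hz, hz1, rfl⟩ _ ⟨k, w, hw, hw1, rfl⟩ hne hc
    obtain ⟨T, hT, e1, e2⟩ := exists_syl_pair (by rw [conj_mul, h2 z hz]; simp)
      (by rw [conj_mul, h2 w hw]; simp) hc
    rw [← key hz hz1 hT e1, mem_map_conj] at e2
    have e3 : g⁻¹ * (k * w * k⁻¹) * g = g⁻¹ * k * w * (g⁻¹ * k)⁻¹ := by group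
    have := key2 hw hw1 (e3 ▸ e2)
    refine ⟨g, _, mul_mem hz this, fun e => hne ?_, by group⟩
    rw [← inv_eq (h2 z hz), inv_mul_eq_one] at e
    rw [e]; group
  · obtain ⟨a, ha, b, hb, a1, b1, hne⟩ := h5
    exact ⟨a, ⟨1, a, ha, a1, by simp⟩, b, ⟨1, b, hb, b1, by simp⟩, hne,
      mem_centralizer_iff.1 (h1 hb).2 a (h1 ha).1⟩
  · rintro ⟨⟨g, z, hz, hz1, rfl⟩, e⟩
    exact ⟨key2 hz hz1 e, by simpa using hz1⟩
  · rintro ⟨hz, hz1⟩
    exact ⟨⟨1, x, hz, hz1, by simp⟩, (h1 hz).1⟩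

end Cfsg.Lib.R1
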